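import Cfsg.Agent.Lib.KnownC.AutPSU.Main
import Cfsg.Agent.Lib.KnownC.AutPSL.Outer

/-!
# The outer automorphisms of `PSU_n(q)`
-/

set_option autoImplicit false
set_option linter.unusedSectionVars false

namespace CfsgLib.KnownC.AutPSU

open Matrix CfsgLib.Classical

variable {F : Type*} [Field F] [Fintype F] {n q : ℕ} [hF : Fact (Fintype.card F = q ^ 2)]

local notation "GUn" => Cfsg.GU n F q
local notation "SUn" => Cfsg.SU n F q
local notation "PSUn" => Cfsg.PSU n F q

/-- The elements of norm one. -/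
abbrev NOne (F : Type*) [Field F] (q : ℕ) : Subgroup Fˣ := (powMonoidHom (q + 1) : Fˣ →* Fˣ).ker

theorem mem_nOne {u : Fˣ} : u ∈ NOne F q ↔ u ^ (q + 1) = 1 := Iff.rfl

theorem nOne_mul {u : Fˣ} (h : u ∈ NOne F q) : (u : F) * (u : F) ^ q = 1 := by
  rw [← pow_succ', ← Units.val_pow_eq_pow_val, mem_nOne.1 h, Units.val_one]

theorem card_nOne : Nat.card (NOne F q) = q + 1 := by
  have h := IsCyclic.card_powMonoidHom_ker (G := Fˣ) (q + 1)
  rw [Nat.card_units, Nat.card_eq_fintype_card (α := F), hF.out, show q ^ 2 - 1 = (q + 1) * (q - 1) by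
    rw [← Nat.sq_sub_sq, one_pow], Nat.gcd_eq_right (dvd_mul_right _ _)] at h
  exact h

/-- Scalar unitary matrices. -/
def sclU : NOne F q →* GUn :=
  MonoidHom.codRestrict ((Units.map (Matrix.scalar (Fin n) (α := F)).toMonoidHom).comp (NOne F q).subtype) _
    fun u => by
      rw [GUFieldCentraliser.GU_mem_iff hF.out]
      intro a b
      show ∑ i, Matrix.scalar (Fin n) ((u : Fˣ) : F) i a * Matrix.scalar (Fin n) ((u : Fˣ) : F) i b ^ q = _
      have hq : q ≠ 0 := by have := two_le_of_card_sq hF.out; omega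
      by_cases hab : a = b
      · subst hab
        rw [Finset.sum_eq_single a (fun i _ hi => by simp [Matrix.scalar_apply, hi]) (by simp), if_pos rfl]
        simp [Matrix.scalar_apply, nOne_mul u.2]
      · rw [if_neg hab]
        refine Finset.sum_eq_zero fun i _ => ?_
        rcases eq_or_ne i a with rfl | hi
        · simp [Matrix.scalar_apply, hab, zero_pow hq]
        · simp [Matrix.scalar_apply, hi]

theorem umat_sclU (u : NOne F q) :
    umat (sclU u : GUn) = ((u : Fˣ) : F) • (1 : Matrix (Fin n) (Fin n) F) := by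
  show Matrix.scalar (Fin n) ((u : Fˣ) : F) = _
  rw [Matrix.scalar_apply, ← Matrix.smul_one_eq_diagonal]

theorem sclU_comm (u : NOne F q) (A : GUn) : sclU u * A = A * sclU u := umat_ext (by
  rw [umat_mul, umat_mul, umat_sclU, Matrix.smul_mul, Matrix.mul_smul, Matrix.one_mul, Matrix.mul_one])

theorem sclU_injective (hn : 1 ≤ n) : Function.Injective (sclU : NOne F q → GUn) := fun u v h => by
  have := congrArg (fun A : GUn => umat A ⟨0, hn⟩ ⟨0, hn⟩) h
  simpa [umat_sclU, Units.val_inj] using this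

theorem exists_sclU (hn : 1 ≤ n) {A : GUn} {c : F} (h : umat A = c • (1 : Matrix (Fin n) (Fin n) F)) :
    ∃ u : NOne F q, A = sclU u := by
  have hg := (GUFieldCentraliser.GU_mem_iff hF.out).1 A.2 ⟨0, hn⟩ ⟨0, hn⟩
  change ∑ i, umat A i _ * umat A i _ ^ q = _ at hg
  rw [h, if_pos rfl, Finset.sum_eq_single (⟨0, hn⟩ : Fin n) (fun i _ hi => by simp [hi]) (by simp)] at hg
  simp only [Matrix.smul_apply, Matrix.one_apply_eq, smul_eq_mul, mul_one] at hg
  rw [← pow_succ'] at hg
  have hc : c ≠ 0 := fun e => by rw [e, zero_pow (by omega)] at hg; exact zero_ne_one hg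
  exact ⟨⟨Units.mk0 c hc, Units.ext (by simpa using hg)⟩, umat_ext (by rw [umat_sclU]; exact h)⟩

theorem semiAut_sclU (u : NOne F q) : semiAut (sclU u : GUn) 1 = 1 := by
  refine MulEquiv.ext fun x => ?_
  induction x using QuotientGroup.induction_on with
  | _ s =>
    rw [semiAut_mk]
    refine congrArg _ (suToGU_injective ?_)
    rw [suToGU_semiHom, gMap_one, sclU_comm, mul_inv_cancel_right]

theorem semiAut_sclU_mul (u : NOne F q) (A : GUn) (σ : F ≃+* F) : semiAut (sclU u * A) σ = semiAut A σ := by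
  have h := semiAut_mul (sclU u) A 1 σ
  rw [semiAut_sclU, gMap_one, one_mul, one_mul] at h
  exact h.symm

theorem gMap_sclU (σ : F ≃+* F) (u : NOne F q) :
    gMap σ (sclU u : GUn) = sclU ⟨Units.map σ.toRingHom.toMonoidHom u, Units.ext (by
      have h := congrArg Units.val (mem_nOne.1 u.2)
      show σ ((u : Fˣ) : F) ^ (q + 1) = 1
      rw [← map_pow, ← Units.val_pow_eq_pow_val, mem_nOne.1 u.2]
      simp)⟩ := umat_ext (by
  rw [umat_gMap, umat_sclU, umat_sclU]
  ext i j
  simp [Matrix.one_apply, apply_ite σ])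

theorem semi_eq_iff (hn : 3 ≤ n) (hs : ¬ (n = 3 ∧ q = 2)) {A B : GUn} {σ τ : F ≃+* F} :
    semiAut A σ = semiAut B τ ↔ σ = τ ∧ ∃ u : NOne F q, A = sclU u * B := by
  constructor
  · intro h
    have h1 : semiAut A σ * (semiAut B τ)⁻¹ = 1 := by rw [h, mul_inv_cancel]
    rw [semiAut_inv, semiAut_mul] at h1
    obtain ⟨hσ, c, hc⟩ := semi_eq_one hn hs h1
    rw [mul_inv_eq_one] at hσ
    subst hσ
    obtain ⟨u, hu⟩ := exists_sclU (by omega) hc
    refine ⟨rfl, u, ?_⟩
    rw [gMap_gMap, mul_inv_cancel, gMap_one] at hu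
    rw [← hu, inv_mul_cancel_right]
  · rintro ⟨rfl, u, rfl⟩
    exact semiAut_sclU_mul u B _

/-- The determinant. -/
def detU : GUn →* NOne F q :=
  MonoidHom.codRestrict ((Matrix.GeneralLinearGroup.det).comp (Cfsg.GU n F q).subtype) _ fun A => by
    obtain ⟨θ, hθ, -⟩ := exists_frob hF.out
    have h := GU_det_norm hθ A.2
    rw [hθ, ← pow_succ'] at h
    exact Units.ext (by simpa using h)

theorem detU_val (A : GUn) : ((detU A : Fˣ) : F) = (umat A).det := rfl

theorem detU_surjective (hn : 1 ≤ n) : Function.Surjective (detU : GUn → NOne F q) := by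
  intro u
  obtain ⟨θ, hθ, -⟩ := exists_frob hF.out
  have hu : (u : Fˣ) ∈ (normHom θ).ker := Units.ext (by
    show ((u : Fˣ) : F) * θ ((u : Fˣ) : F) = 1
    rw [hθ, nOne_mul u.2])
  obtain ⟨g, hg⟩ := guDet_surjective (n := n) hθ hn ⟨u, hu⟩
  exact ⟨g, Subtype.ext (congrArg (fun x : (normHom θ).ker => (x : Fˣ)) hg :)⟩

theorem detU_sclU (u : NOne F q) : detU (sclU u : GUn) = u ^ n := Subtype.ext (Units.ext (by
  rw [detU_val, umat_sclU, Matrix.det_smul, Matrix.det_one, Fintype.card_fin, mul_one, SubgroupClass.coe_pow,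
    Units.val_pow_eq_pow_val]))

theorem detU_suToGU (s : SUn) : detU (suToGU n F q s) = 1 := Subtype.ext (Units.ext s.1.2)

theorem conj_mk (s : SUn) : MulAut.conj (QuotientGroup.mk s : PSUn) = semiAut (suToGU n F q s) 1 := by
  refine MulEquiv.ext fun x => ?_
  induction x using QuotientGroup.induction_on with
  | _ t =>
    rw [MulAut.conj_apply, semiAut_mk, ← QuotientGroup.mk_inv, ← QuotientGroup.mk_mul, ← QuotientGroup.mk_mul]
    refine congrArg _ (suToGU_injective ?_)
    rw [suToGU_semiHom, gMap_one, map_mul, map_mul, map_inv]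

theorem inn_le_inndiag : Cfsg.Inn PSUn ≤ Cfsg.inndiagPSU n F q := by
  rintro _ ⟨g, rfl⟩
  induction g using QuotientGroup.induction_on with
  | _ s => exact (inndiag_iff_mem _).2 ⟨_, conj_mk s⟩

theorem conj_injective (hn : 3 ≤ n) (hs : ¬ (n = 3 ∧ q = 2)) :
    Function.Injective (MulAut.conj : PSUn →* MulAut PSUn) := by
  rw [injective_iff_map_eq_one]
  intro k
  induction k using QuotientGroup.induction_on with
  | _ s =>
    intro h
    rw [conj_mk, ← semiAut_one, semi_eq_iff hn hs] at h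
    obtain ⟨-, u, hu⟩ := h
    rw [mul_one] at hu
    refine (QuotientGroup.eq_one_iff _).2 (Subgroup.mem_center_iff.2 fun t => suToGU_injective ?_)
    rw [map_mul, map_mul, hu, sclU_comm]

theorem card_inn (hn : 3 ≤ n) (hs : ¬ (n = 3 ∧ q = 2)) : Nat.card (Cfsg.Inn PSUn) = Nat.card PSUn :=
  (Nat.card_congr (MonoidHom.ofInjective (conj_injective hn hs)).toEquiv).symm

/-- Inner exactly when the determinant is an `n`-th power in the elements of norm one. -/
theorem mem_inn_iff (hn : 3 ≤ n) (hs : ¬ (n = 3 ∧ q = 2)) (A : GUn) :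
    semiAut A 1 ∈ Cfsg.Inn PSUn ↔ detU A ∈ (powMonoidHom n : NOne F q →* NOne F q).range := by
  constructor
  · rintro ⟨g, hg⟩
    induction g using QuotientGroup.induction_on with
    | _ s =>
      rw [conj_mk, semi_eq_iff hn hs] at hg
      obtain ⟨-, u, hu⟩ := hg
      refine ⟨u⁻¹, ?_⟩
      have h1 := congrArg detU hu
      rw [detU_suToGU, map_mul, detU_sclU] at h1
      rw [powMonoidHom_apply, inv_pow]
      exact inv_eq_of_mul_eq_one_right h1.symm
  · rintro ⟨u, hu⟩
    obtain ⟨s, hs'⟩ : sclU u⁻¹ * A ∈ (suToGU n F q).range := by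
      obtain ⟨θ, hθ, -⟩ := exists_frob hF.out
      rw [suToGU_range hθ, MonoidHom.mem_ker, guDet_eq_one_iff]
      refine Units.ext ?_
      show (umat (sclU u⁻¹ * A)).det = 1
      rw [← detU_val, map_mul, detU_sclU, ← hu, powMonoidHom_apply, inv_pow, inv_mul_cancel]
      rfl
    exact ⟨QuotientGroup.mk s, by rw [conj_mk, hs', semiAut_sclU_mul]⟩

theorem card_ringAut {p f : ℕ} [Fact p.Prime] (hq : q = p ^ f) :
    Nonempty ((F ≃+* F) ≃* Multiplicative (ZMod (2 * f))) :=
  AutPSL.ringAut_cyclic (F := F) (by rw [hF.out, hq, ← pow_mul, mul_comm f])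

/-- The group of outer automorphisms. -/
theorem out_structure (hn : 3 ≤ n) (hs : ¬ (n = 3 ∧ q = 2)) {H : Type*} [Group H] (e : (F ≃+* F) ≃* H) :
    ∃ ψ : Cfsg.Out PSUn →* H, Function.Surjective ψ ∧ IsCyclic ψ.ker ∧ Nat.card ψ.ker = Nat.gcd n (q + 1) := by
  classical
  choose A σ hAσ using exists_semi (F := F) (n := n) (q := q) hn hs
  let φ0 : MulAut PSUn →* (F ≃+* F) := MonoidHom.mk' σ fun a b => by
    have h : semiAut (A (a * b)) (σ (a * b)) = semiAut (A a) (σ a) * semiAut (A b) (σ b) := by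
      rw [← hAσ, ← hAσ, ← hAσ]
    rw [semiAut_mul] at h
    exact ((semi_eq_iff hn hs).1 h).1
  have hφ : ∀ B τ, φ0 (semiAut B τ) = τ := fun B τ =>
    ((semi_eq_iff hn hs).1 (hAσ (semiAut B τ)).symm).1
  have hker : ∀ a, φ0 a = 1 ↔ ∃ B : GUn, a = semiAut B 1 := by
    intro a
    refine ⟨fun h => ⟨A a, ?_⟩, fun ⟨B, e⟩ => by rw [e, hφ]⟩
    conv_lhs => rw [hAσ a, show σ a = 1 from h]
  have hle : Cfsg.Inn PSUn ≤ (e.toMonoidHom.comp φ0).ker := fun a ha => by
    obtain ⟨B, rfl⟩ := (inndiag_iff_mem a).1 (inn_le_inndiag ha)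
    rw [MonoidHom.mem_ker, MonoidHom.comp_apply, hφ, map_one]
  set ψ := QuotientGroup.lift (Cfsg.Inn PSUn) (e.toMonoidHom.comp φ0) hle
  refine ⟨ψ, fun h => ⟨QuotientGroup.mk (semiAut 1 (e.symm h)), ?_⟩, ?_⟩
  · show e (φ0 (semiAut 1 (e.symm h))) = h
    rw [hφ, e.apply_symm_apply]
  let d : GUn →* ψ.ker := MonoidHom.codRestrict ((QuotientGroup.mk' (Cfsg.Inn PSUn)).comp
    (MonoidHom.mk' (fun B => semiAut B 1) (fun B C => by rw [semiAut_mul, gMap_one, one_mul]))) _ fun B => by
      show e (φ0 (semiAut B 1)) = 1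
      rw [hφ, map_one]
  have hd : Function.Surjective d := by
    rintro ⟨x, hx⟩
    induction x using QuotientGroup.induction_on with
    | _ a =>
      obtain ⟨B, rfl⟩ := (hker a).1 (e.injective (((MonoidHom.mem_ker).1 hx).trans (map_one e).symm))
      exact ⟨B, rfl⟩
  set P := (powMonoidHom n : NOne F q →* NOne F q).range
  let D : GUn →* NOne F q ⧸ P := (QuotientGroup.mk' P).comp detU
  have hD : Function.Surjective D := (QuotientGroup.mk'_surjective P).comp (detU_surjective (by omega))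
  have hkd : d.ker = D.ker := by
    ext B
    rw [MonoidHom.mem_ker, MonoidHom.mem_ker, Subtype.ext_iff]
    show (QuotientGroup.mk (semiAut B 1) : Cfsg.Out PSUn) = 1 ↔ (QuotientGroup.mk (detU B) : NOne F q ⧸ P) = 1
    rw [QuotientGroup.eq_one_iff, QuotientGroup.eq_one_iff, mem_inn_iff hn hs]
  let E : ψ.ker ≃* NOne F q ⧸ P := ((QuotientGroup.quotientKerEquivOfSurjective d hd).symm.trans
    (QuotientGroup.quotientMulEquivOfEq hkd)).trans (QuotientGroup.quotientKerEquivOfSurjective D hD)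
  refine ⟨isCyclic_of_surjective E.symm E.symm.surjective, ?_⟩
  rw [Nat.card_congr E.toEquiv, ← Subgroup.index_eq_card, IsCyclic.index_powMonoidHom_range, card_nOne, Nat.gcd_comm]

theorem card_mulAut (hn : 3 ≤ n) (hs : ¬ (n = 3 ∧ q = 2)) {p f : ℕ} [Fact p.Prime] (hq : q = p ^ f) :
    Nat.card (MulAut PSUn) = Nat.gcd n (q + 1) * (2 * f) * Nat.card PSUn := by
  obtain ⟨e⟩ := card_ringAut (F := F) hq
  obtain ⟨ψ, hψ, -, hker⟩ := out_structure (n := n) hn hs e
  have h1 : Nat.card (MulAut PSUn) = Nat.card (Cfsg.Out PSUn) * Nat.card (Cfsg.Inn PSUn) :=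
    Subgroup.card_eq_card_quotient_mul_card_subgroup _
  rw [h1, card_inn hn hs, ← ψ.ker.card_mul_index, hker, Subgroup.index_ker, MonoidHom.range_eq_top.2 hψ,
    Subgroup.card_top, Nat.card_congr Multiplicative.toAdd, Nat.card_zmod]

end CfsgLib.KnownC.AutPSU
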