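import Cfsg.Agent.Lib.Classical.HermMatrixSimple
import Cfsg.Agent.Lib.KnownC.GUFieldCentraliser
import Cfsg.Prelude.Def_LieTypeDatum
import Cfsg.Prelude.Def_KGroupFacts

/-!
# Automorphisms of `PSU_n` induced by semilinear unitary maps
-/

set_option autoImplicit false
set_option linter.unusedSectionVars false

namespace CfsgLib.KnownC.AutPSU

open Matrix CfsgLib.Classical

variable {F : Type*} [Field F] [Fintype F] {n q : ℕ} [hF : Fact (Fintype.card F = q ^ 2)]

local notation "GUn" => Cfsg.GU n F q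
local notation "SUn" => Cfsg.SU n F q
local notation "PSUn" => Cfsg.PSU n F q
local notation "Mn" => Matrix (Fin n) (Fin n) F

/-- The matrix of a unitary element. -/
abbrev umat (A : GUn) : Mn := ((A : GL (Fin n) F) : Mn)

/-- The matrix of a special unitary element. -/
abbrev smat (s : SUn) : Mn := ((s : Matrix.SpecialLinearGroup (Fin n) F) : Mn)

theorem umat_mul (A B : GUn) : umat (A * B) = umat A * umat B := rfl

theorem umat_inv_mul (A : GUn) : umat A⁻¹ * umat A = 1 := by rw [← umat_mul, inv_mul_cancel]; rfl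

theorem umat_mul_inv (A : GUn) : umat A * umat A⁻¹ = 1 := by rw [← umat_mul, mul_inv_cancel]; rfl

theorem umat_ext {A B : GUn} (h : umat A = umat B) : A = B := Subtype.ext (Units.ext h)

theorem smat_ext {s t : SUn} (h : smat s = smat t) : s = t := Subtype.ext (Subtype.ext h)

theorem umat_det_ne (A : GUn) : (umat A).det ≠ 0 := (A : GL (Fin n) F).det_ne_zero

/-- A field automorphism applied to a unitary matrix. -/
def gMap (σ : F ≃+* F) : GUn →* GUn where
  toFun A := ⟨Matrix.GeneralLinearGroup.map σ.toRingHom (A : GL (Fin n) F), by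
    rw [GUFieldCentraliser.GU_mem_iff hF.out]
    intro a b
    have h := congrArg σ ((GUFieldCentraliser.GU_mem_iff hF.out).1 A.2 a b)
    rw [map_sum] at h
    simp only [map_mul, map_pow] at h
    refine Eq.trans ?_ (h.trans ?_)
    · rfl
    · split_ifs <;> simp⟩
  map_one' := Subtype.ext (map_one _)
  map_mul' A B := Subtype.ext (map_mul _ _ _)

theorem umat_gMap (σ : F ≃+* F) (A : GUn) : umat (gMap σ A) = (umat A).map σ := rfl

theorem gMap_one (A : GUn) : gMap 1 A = A := umat_ext (Matrix.ext fun _ _ => rfl)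

theorem gMap_gMap (σ τ : F ≃+* F) (A : GUn) : gMap σ (gMap τ A) = gMap (σ * τ) A :=
  umat_ext (Matrix.ext fun _ _ => rfl)

theorem det_gMap (σ : F ≃+* F) (A : GUn) : (umat (gMap σ A)).det = σ (umat A).det := (σ.map_det _).symm

/-- `s ↦ A σ(s) A⁻¹`. -/
def semiHom (A : GUn) (σ : F ≃+* F) : SUn →* SUn where
  toFun s := ⟨⟨umat (A * gMap σ (suToGU n F q s) * A⁻¹), by
    rw [umat_mul, umat_mul, Matrix.det_mul, Matrix.det_mul, det_gMap,
      show (umat (suToGU n F q s)).det = 1 from s.1.2, map_one, mul_one, ← Matrix.det_mul, umat_mul_inv,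
      Matrix.det_one]⟩, (A * gMap σ (suToGU n F q s) * A⁻¹).2⟩
  map_one' := smat_ext (by
    show umat (A * gMap σ (suToGU n F q 1) * A⁻¹) = umat (1 : GUn)
    rw [map_one, map_one, mul_one, mul_inv_cancel])
  map_mul' s t := smat_ext (by
    show umat (A * gMap σ (suToGU n F q (s * t)) * A⁻¹) =
      umat (A * gMap σ (suToGU n F q s) * A⁻¹) * umat (A * gMap σ (suToGU n F q t) * A⁻¹)
    rw [← umat_mul, map_mul, map_mul]
    congr 1; group)

theorem suToGU_semiHom (A : GUn) (σ : F ≃+* F) (s : SUn) :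
    suToGU n F q (semiHom A σ s) = A * gMap σ (suToGU n F q s) * A⁻¹ := umat_ext rfl

theorem smat_semiHom (A : GUn) (σ : F ≃+* F) (s : SUn) :
    smat (semiHom A σ s) = umat A * (smat s).map σ * ((A⁻¹ : GUn) : GL (Fin n) F) := rfl

theorem semiHom_comp (A B : GUn) (σ τ : F ≃+* F) (s : SUn) :
    semiHom A σ (semiHom B τ s) = semiHom (A * gMap σ B) (σ * τ) s := by
  refine suToGU_injective ?_
  rw [suToGU_semiHom, suToGU_semiHom, suToGU_semiHom, map_mul, map_mul, gMap_gMap, map_inv]
  group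

theorem semiHom_one (s : SUn) : semiHom (1 : GUn) 1 s = s := by
  refine suToGU_injective ?_
  rw [suToGU_semiHom, gMap_one, one_mul, inv_one, mul_one]

theorem semiHom_left_inv (A : GUn) (σ : F ≃+* F) (s : SUn) :
    semiHom (gMap σ⁻¹ A⁻¹) σ⁻¹ (semiHom A σ s) = s := by
  rw [semiHom_comp, ← map_mul, inv_mul_cancel, map_one, inv_mul_cancel, semiHom_one]

theorem semiHom_right_inv (A : GUn) (σ : F ≃+* F) (s : SUn) :
    semiHom A σ (semiHom (gMap σ⁻¹ A⁻¹) σ⁻¹ s) = s := by
  rw [semiHom_comp, gMap_gMap, mul_inv_cancel, gMap_one, mul_inv_cancel, semiHom_one]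

/-- The automorphism of the special unitary group. -/
def semiSU (A : GUn) (σ : F ≃+* F) : SUn ≃* SUn :=
  { semiHom A σ with
    invFun := semiHom (gMap σ⁻¹ A⁻¹) σ⁻¹
    left_inv := semiHom_left_inv A σ
    right_inv := semiHom_right_inv A σ }

theorem center_map (e : SUn ≃* SUn) : (Subgroup.center SUn).map e.toMonoidHom = Subgroup.center SUn := by
  ext x
  constructor
  · rintro ⟨y, hy, rfl⟩
    refine Subgroup.mem_center_iff.2 fun z => ?_
    apply e.symm.injective
    rw [map_mul, map_mul, MulEquiv.coe_toMonoidHom, e.symm_apply_apply]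
    exact Subgroup.mem_center_iff.1 hy _
  · intro hx
    refine ⟨e.symm x, Subgroup.mem_center_iff.2 fun z => ?_, e.apply_symm_apply x⟩
    apply e.injective
    rw [map_mul, map_mul, e.apply_symm_apply]
    exact Subgroup.mem_center_iff.1 hx _

/-- The induced automorphism of the quotient. -/
def semiAut (A : GUn) (σ : F ≃+* F) : MulAut PSUn := QuotientGroup.congr _ _ (semiSU A σ) (center_map _)

theorem semiAut_mk (A : GUn) (σ : F ≃+* F) (s : SUn) :
    semiAut A σ (QuotientGroup.mk s) = QuotientGroup.mk (semiHom A σ s) := rfl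

theorem semiAut_mul (A B : GUn) (σ τ : F ≃+* F) :
    semiAut A σ * semiAut B τ = semiAut (A * gMap σ B) (σ * τ) := by
  refine MulEquiv.ext fun x => ?_
  induction x using QuotientGroup.induction_on with
  | _ s =>
    show semiAut A σ (semiAut B τ (QuotientGroup.mk s)) = _
    rw [semiAut_mk, semiAut_mk, semiAut_mk, semiHom_comp]

theorem semiAut_one : semiAut (1 : GUn) 1 = 1 := by
  refine MulEquiv.ext fun x => ?_
  induction x using QuotientGroup.induction_on with
  | _ s => rw [semiAut_mk, semiHom_one]; rfl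

theorem semiAut_inv (A : GUn) (σ : F ≃+* F) : (semiAut A σ)⁻¹ = semiAut (gMap σ⁻¹ A⁻¹) σ⁻¹ := by
  refine inv_eq_of_mul_eq_one_left ?_
  rw [semiAut_mul, ← map_mul, inv_mul_cancel, map_one, inv_mul_cancel, semiAut_one]

theorem semiAut_refl_mul (A : GUn) (σ : F ≃+* F) : semiAut A 1 * semiAut 1 σ = semiAut A σ := by
  rw [semiAut_mul, map_one, mul_one, one_mul]

theorem induced_iff (A : GUn) (σ : F ≃+* F) (β : MulAut PSUn) :
    Cfsg.IsInducedBySemilinearPSU (A : GL (Fin n) F) σ β ↔ β = semiAut A σ := by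
  constructor
  · intro h
    refine MulEquiv.ext fun x => ?_
    induction x using QuotientGroup.induction_on with
    | _ s => exact h s (semiHom A σ s) rfl
  · rintro rfl s s' e
    rw [semiAut_mk]
    exact congrArg _ (smat_ext e.symm)

theorem innDiag_iff (β : MulAut PSUn) : Cfsg.IsInnerDiagonalAutPSU β ↔ ∃ A : GUn, β = semiAut A 1 := by
  constructor
  · rintro ⟨g, hg, h⟩
    exact ⟨⟨g, hg⟩, (induced_iff ⟨g, hg⟩ 1 β).1 h⟩
  · rintro ⟨A, rfl⟩
    exact ⟨A, A.2, (induced_iff A 1 _).2 rfl⟩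

theorem stdField_iff (σ : F ≃+* F) (β : MulAut PSUn) : Cfsg.IsFieldAutPSUOf σ β ↔ β = semiAut 1 σ := by
  have e : ∀ s : SUn, smat (semiHom (1 : GUn) σ s) = (smat s).map σ := fun s => by
    rw [smat_semiHom, inv_one, show umat (1 : GUn) = 1 from rfl, OneMemClass.coe_one, Units.val_one, Matrix.one_mul,
      Matrix.mul_one]
  constructor
  · intro h
    refine MulEquiv.ext fun x => ?_
    induction x using QuotientGroup.induction_on with
    | _ s => exact h s (semiHom 1 σ s) (e s)
  · rintro rfl s s' e'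
    rw [semiAut_mk]
    exact congrArg _ (smat_ext ((e s).trans e'.symm))

theorem inndiag_iff_mem (β : MulAut PSUn) : β ∈ Cfsg.inndiagPSU n F q ↔ ∃ A : GUn, β = semiAut A 1 := by
  refine ⟨fun h => ?_, fun ⟨A, e⟩ => Subgroup.subset_closure ((innDiag_iff β).2 ⟨A, e⟩)⟩
  induction h using Subgroup.closure_induction with
  | mem x hx => exact (innDiag_iff x).1 hx
  | one => exact ⟨1, semiAut_one.symm⟩
  | mul x y _ _ hx hy =>
    obtain ⟨A, rfl⟩ := hx; obtain ⟨B, rfl⟩ := hy
    exact ⟨A * B, by rw [semiAut_mul, gMap_one, one_mul]⟩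
  | inv x _ hx =>
    obtain ⟨A, rfl⟩ := hx
    exact ⟨A⁻¹, by rw [semiAut_inv, inv_one, gMap_one]⟩

theorem semi_mem_gamma (A : GUn) (σ : F ≃+* F) : semiAut A σ ∈ Cfsg.gammaPSU n F q :=
  Subgroup.subset_closure ⟨A, σ, A.2, (induced_iff A σ _).2 rfl⟩

/-- The semilinear map of the space. -/
def semiVec (A : GUn) (σ : F ≃+* F) (v : Fin n → F) : Fin n → F := umat A *ᵥ fun i => σ (v i)

theorem semiVec_add (A : GUn) (σ : F ≃+* F) (v w : Fin n → F) :
    semiVec A σ (v + w) = semiVec A σ v + semiVec A σ w := by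
  rw [semiVec, semiVec, semiVec, ← Matrix.mulVec_add]; congr 1; funext i; exact map_add σ _ _

theorem semiVec_smul (A : GUn) (σ : F ≃+* F) (a : F) (v : Fin n → F) :
    semiVec A σ (a • v) = σ a • semiVec A σ v := by
  rw [semiVec, semiVec, ← Matrix.mulVec_smul]; congr 1; funext i; exact map_mul σ _ _

theorem semiVec_surjective (A : GUn) (σ : F ≃+* F) : Function.Surjective (semiVec A σ) := fun w =>
  ⟨fun i => σ.symm ((umat A⁻¹ *ᵥ w) i), by
    rw [semiVec, show (fun i => σ (σ.symm ((umat A⁻¹ *ᵥ w) i))) = umat A⁻¹ *ᵥ w from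
      funext fun i => σ.apply_symm_apply _, Matrix.mulVec_mulVec, umat_mul_inv, Matrix.one_mulVec]⟩

theorem semiHom_mulVec (A : GUn) (σ : F ≃+* F) (s : SUn) (v : Fin n → F) :
    smat (semiHom A σ s) *ᵥ semiVec A σ v = semiVec A σ (smat s *ᵥ v) := by
  show (umat A * (smat s).map σ * umat A⁻¹) *ᵥ (umat A *ᵥ fun i => σ (v i)) = umat A *ᵥ fun i => σ ((smat s *ᵥ v) i)
  rw [Matrix.mulVec_mulVec, Matrix.mul_assoc (umat A * _), umat_inv_mul, Matrix.mul_one, ← Matrix.mulVec_mulVec]
  congr 1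
  funext i
  exact (RingHom.map_mulVec σ.toRingHom (smat s) v i).symm

theorem semiVec_form {θ : F →+* F} (hθ : ∀ x, θ x = x ^ q) (A : GUn) (σ : F ≃+* F) (v w : Fin n → F) :
    stdHerm θ n (semiVec A σ v) (semiVec A σ w) = σ (stdHerm θ n v w) := by
  rw [semiVec, semiVec, (mem_GU_iff hθ).1 A.2, stdHerm_apply, stdHerm_apply, map_sum]
  exact Finset.sum_congr rfl fun i _ => by rw [hθ, hθ, map_mul, map_pow]

end CfsgLib.KnownC.AutPSU
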