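import Cfsg.Agent.Lib.KnownC.AutPSU.Unique
import Cfsg.Agent.Lib.KnownC.AutPSU.Induced

/-!
# Every automorphism of `PSU_n(q)` is semilinear
-/

set_option autoImplicit false
set_option linter.unusedSectionVars false

namespace CfsgLib.KnownC.AutPSU

open Matrix CfsgLib.Classical

variable {F : Type*} [Field F] [Fintype F] {n q : ℕ} [hF : Fact (Fintype.card F = q ^ 2)]

local notation "GUn" => Cfsg.GU n F q
local notation "SUn" => Cfsg.SU n F q
local notation "PSUn" => Cfsg.PSU n F q

theorem uctx {θ : F →+* F} (hθ : ∀ x, θ x = x ^ q) (hc : IsConjugation θ) (hn : 3 ≤ n) (hs : ¬ (n = 3 ∧ q = 2)) :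
    UCtx (stdHerm θ n) where
  herm := stdHerm_isHermitian hc n
  nd := stdHerm_sepRight n
  fin := inferInstance
  findim := inferInstance
  three := by rw [Module.finrank_fin_fun]; exact hn
  big := fun h => by
    rw [Module.finrank_fin_fun] at h
    refine bigFixed_of_le hF.out hθ hc ?_
    have := two_le_of_card_sq hF.out
    by_contra h3
    exact hs ⟨h, by omega⟩
  frob := ⟨q, by rw [Nat.card_eq_fintype_card]; exact hF.out, hθ⟩

/-- The identification with the projective group of the standard form. -/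
noncomputable def pgEquiv {θ : F →+* F} (hθ : ∀ x, θ x = x ^ q) : PSUn ≃* PG (stdHerm θ n) :=
  QuotientGroup.congr _ _ (suEquiv hθ) (by
    ext x
    constructor
    · rintro ⟨y, hy, rfl⟩
      refine Subgroup.mem_center_iff.2 fun z => ?_
      apply (suEquiv (n := n) hθ).symm.injective
      rw [map_mul, map_mul]
      simp only [MonoidHom.coe_coe, MulEquiv.symm_apply_apply]
      exact Subgroup.mem_center_iff.1 hy _
    · intro hx
      refine ⟨(suEquiv hθ).symm x, Subgroup.mem_center_iff.2 fun z => ?_, (suEquiv hθ).apply_symm_apply x⟩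
      apply (suEquiv (n := n) hθ).injective
      rw [map_mul, map_mul, MulEquiv.apply_symm_apply]
      exact Subgroup.mem_center_iff.1 hx _)

theorem pgEquiv_mk {θ : F →+* F} (hθ : ∀ x, θ x = x ^ q) (s : SUn) :
    pgEquiv hθ (QuotientGroup.mk s) = (QuotientGroup.mk (suEquiv hθ s) : PG (stdHerm θ n)) := rfl

theorem exists_semi (hn : 3 ≤ n) (hs : ¬ (n = 3 ∧ q = 2)) (α : MulAut PSUn) :
    ∃ (A : GUn) (σ : F ≃+* F), α = semiAut A σ := by
  classical
  obtain ⟨θ, hθ, hc⟩ := exists_frob hF.out
  haveI := uctx hθ hc hn hs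
  set e := pgEquiv (n := n) hθ
  obtain ⟨τ, μ, T, hbij, hμ, hadd, hsmul, hTB, hmain⟩ :=
    exists_similitude ((e.symm.trans α).trans e : MulAut (PG (stdHerm θ n)))
  have hμfix : θ μ = μ := by
    have h := hTB (Pi.single (⟨0, by omega⟩ : Fin n) 1) (Pi.single (⟨0, by omega⟩ : Fin n) 1)
    rw [stdHerm_single, Pi.single_eq_same, map_one, mul_one] at h
    rw [← h]
    exact (stdHerm_isHermitian hc n).self_fixed _
  obtain ⟨κ, hκ⟩ := hc.exists_norm_eq hμfix
  have hκ0 : κ ≠ 0 := fun h => hμ (by rw [← hκ, h, zero_mul])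
  let σ : F ≃+* F := RingEquiv.ofBijective τ ⟨τ.injective, Finite.surjective_of_injective τ.injective⟩
  let M : Matrix (Fin n) (Fin n) F := Matrix.of fun i j => κ⁻¹ * T (Pi.single j 1) i
  have hM : ∀ x : Fin n → F, T x = κ • (M *ᵥ fun i => σ (x i)) := by
    intro x
    have e1 : T x = ∑ j, τ (x j) • T (Pi.single j 1) := by
      have hT := map_sum (AddMonoidHom.mk' T hadd) (fun j => x j • (Pi.single j 1 : Fin n → F)) Finset.univ
      simp only [AddMonoidHom.mk'_apply] at hT
      rw [← Finset.sum_congr rfl fun j _ => hsmul (x j) (Pi.single j 1), ← hT]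
      congr 1
      funext i
      simp [Finset.sum_apply, Pi.single_apply]
    rw [e1]
    funext i
    simp only [Finset.sum_apply, Pi.smul_apply, Matrix.mulVec, dotProduct, smul_eq_mul, Finset.mul_sum, M,
      Matrix.of_apply]
    refine Finset.sum_congr rfl fun j _ => ?_
    rw [← mul_assoc, mul_inv_cancel_left₀ hκ0]
    exact mul_comm _ _
  have hMinj : Function.Injective M.mulVec := by
    intro x y h
    have h2 : T (fun i => σ.symm (x i)) = T (fun i => σ.symm (y i)) := by
      rw [hM, hM]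
      simp only [RingEquiv.apply_symm_apply]
      rw [h]
    funext i
    exact σ.symm.injective (congrFun (hbij.1 h2) i)
  have hunit : IsUnit M := Matrix.mulVec_injective_iff_isUnit.1 hMinj
  have hA : hunit.unit ∈ GUn := by
    refine (mem_GU_iff hθ).2 fun x y => ?_
    have h := hTB (fun i => σ.symm (x i)) (fun i => σ.symm (y i))
    have hst : τ (stdHerm θ n (fun i => σ.symm (x i)) (fun i => σ.symm (y i))) = stdHerm θ n x y := by
      rw [stdHerm_apply, stdHerm_apply, map_sum]
      refine Finset.sum_congr rfl fun i _ => ?_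
      have hx : τ (σ.symm (x i)) = x i := σ.apply_symm_apply _
      have hy : τ (σ.symm (y i)) = y i := σ.apply_symm_apply _
      rw [hθ, hθ, map_mul, map_pow, hx, hy]
    rw [hst, hM, hM] at h
    simp only [RingEquiv.apply_symm_apply, map_smul, map_smulₛₗ, LinearMap.smul_apply, smul_eq_mul, ← hκ] at h
    show stdHerm θ n (M *ᵥ x) (M *ᵥ y) = _
    exact mul_left_cancel₀ (mul_ne_zero hκ0 ((map_ne_zero θ).2 hκ0)) (by linear_combination h)
  refine ⟨⟨hunit.unit, hA⟩, σ, MulEquiv.ext fun x => ?_⟩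
  induction x using QuotientGroup.induction_on with
  | _ s =>
    apply e.injective
    rw [semiAut_mk]
    have h := hmain (suEquiv hθ s) (suEquiv hθ (semiHom ⟨hunit.unit, hA⟩ σ s)) fun x => by
      rw [suEquiv_apply, suEquiv_apply, hM, hM, Matrix.mulVec_smul]
      exact congrArg (κ • ·) (semiHom_mulVec _ σ s x)
    rw [← pgEquiv_mk, ← pgEquiv_mk, MulEquiv.trans_apply, MulEquiv.trans_apply, e.symm_apply_apply] at h
    exact h

theorem semi_eq_one (hn : 3 ≤ n) (hs : ¬ (n = 3 ∧ q = 2)) {A : GUn} {σ : F ≃+* F} (h : semiAut A σ = 1) :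
    σ = 1 ∧ ∃ c : F, umat A = c • (1 : Matrix (Fin n) (Fin n) F) := by
  classical
  obtain ⟨θ, hθ, hc⟩ := exists_frob hF.out
  haveI := uctx hθ hc hn hs
  have key := similitude_trivial (B := stdHerm θ n) σ.toRingHom one_ne_zero (semiVec A σ) (semiVec_add A σ)
    (semiVec_smul A σ) (fun x y => by rw [one_mul]; exact semiVec_form hθ A σ x y) (fun g g' hgg => by
      obtain ⟨s, rfl⟩ := (suEquiv (n := n) hθ).surjective g
      have e : g' = suEquiv hθ (semiHom A σ s) := by
        refine sisom_ext fun w => ?_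
        obtain ⟨x, rfl⟩ := semiVec_surjective A σ w
        rw [hgg x, suEquiv_apply, suEquiv_apply, semiHom_mulVec]
      rw [e, ← pgEquiv_mk, ← pgEquiv_mk, ← semiAut_mk, h]
      rfl)
  obtain ⟨hσ, c, -, hcx⟩ := key
  refine ⟨RingEquiv.ext hσ, c, Matrix.ext_of_mulVec_single fun j => ?_⟩
  have h2 := hcx (Pi.single j 1)
  rw [semiVec, show (fun i => σ ((Pi.single j (1 : F) : Fin n → F) i)) = Pi.single j 1 from funext fun i => hσ _] at h2
  rw [h2, Matrix.smul_mulVec, Matrix.one_mulVec]

theorem gamma_eq_top (hn : 3 ≤ n) (hs : ¬ (n = 3 ∧ q = 2)) : Cfsg.gammaPSU n F q = ⊤ :=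
  eq_top_iff.2 fun α _ => by
    obtain ⟨A, σ, rfl⟩ := exists_semi hn hs α
    exact semi_mem_gamma A σ

end CfsgLib.KnownC.AutPSU
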