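import Cfsg.Agent.Lib.Classical.HermSimple
import Cfsg.Agent.Lib.Classical.HermMatrix

/-!
# The projective special unitary group on its isotropic points, and root elements

`uzE r z c` is the element `x ↦ x + B(r,x) z + (c B(r,x) − B(z,x)) r` fixing the isotropic vector `r`.
-/

set_option autoImplicit false
set_option linter.unusedSectionVars false

open Module MulAction
open scoped LinearAlgebra.Projectivization

namespace CfsgLib.KnownC.AutPSU

open CfsgLib.Classical

variable {F : Type*} [Field F] {V : Type*} [AddCommGroup V] [Module F V] {σ : F →+* F}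
  {B : V →ₛₗ[σ] V →ₗ[F] F}

/-- Standing assumptions: a non-degenerate Hermitian form of dimension at least three, not `U₃(2)`. -/
class UCtx (B : V →ₛₗ[σ] V →ₗ[F] F) : Prop where
  herm : IsHermitian B
  nd : B.SeparatingRight
  fin : Finite F
  findim : FiniteDimensional F V
  three : 3 ≤ finrank F V
  big : finrank F V = 3 → BigFixed σ
  frob : ∃ q : ℕ, Nat.card F = q ^ 2 ∧ ∀ x, σ x = x ^ q

/-- The projective special group of the form. -/
abbrev PG (B : V →ₛₗ[σ] V →ₗ[F] F) : Type _ := sIsom B ⧸ Subgroup.center (sIsom B)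

/-- The conditions for a root element. -/
def RadCond (B : V →ₛₗ[σ] V →ₗ[F] F) (r z : V) (c : F) : Prop :=
  B r r = 0 ∧ B r z = 0 ∧ c + σ c + B z z = 0

/-- The linear map of a root element. -/
def uzLin (B : V →ₛₗ[σ] V →ₗ[F] F) (r z : V) (c : F) : V →ₗ[F] V :=
  LinearMap.id + (B r).smulRight z + (c • B r - B z).smulRight r

theorem uzLin_apply (r z x : V) (c : F) :
    uzLin B r z c x = x + B r x • z + (c * B r x - B z x) • r := by
  simp [uzLin, LinearMap.smulRight_apply]

section

variable [hB : UCtx B]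
include hB

theorem hex : 3 ≤ finrank F V → BigFixed σ ∨ 4 ≤ finrank F V := fun h3 => by
  rcases Nat.lt_or_ge (finrank F V) 4 with h | h
  · exact Or.inl (hB.big (by omega))
  · exact Or.inr h

theorem form_symm (x y : V) : σ (B x y) = B y x := hB.herm.symm x y

theorem form_refl {x y : V} (h : B x y = 0) : B y x = 0 := by rw [← form_symm (B := B), h, map_zero]

theorem sigma_invol (a : F) : σ (σ a) = a := hB.herm.conj.invol a

theorem uz_pres {r z : V} {c : F} (h : RadCond B r z c) (x y : V) :
    B (uzLin B r z c x) (uzLin B r z c y) = B x y := by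
  obtain ⟨hr, hrz, hc⟩ := h
  have hzr : B z r = 0 := form_refl hrz
  have e1 : B x r = σ (B r x) := (form_symm r x).symm
  have e2 : B x z = σ (B z x) := (form_symm z x).symm
  simp only [uzLin_apply, map_add, map_smul, map_smulₛₗ, LinearMap.add_apply, LinearMap.smul_apply, smul_eq_mul,
    map_sub, map_mul, RingHom.id_apply, hr, hrz, hzr, e1, e2, mul_zero, zero_mul, add_zero]
  linear_combination (σ (B r x) * B r y) * hc

/-- The root element (the identity when the conditions fail). -/
noncomputable def uzI (B : V →ₛₗ[σ] V →ₗ[F] F) [hB : UCtx B] (r z : V) (c : F) : isomGroup B :=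
  haveI : Decidable (RadCond B r z c) := Classical.propDecidable _
  if h : RadCond B r z c then
    haveI := hB.fin; haveI := hB.findim
    (hB.herm.exists_of_preserving hB.nd _ (uz_pres h)).choose
  else 1

theorem uzI_apply {r z : V} {c : F} (h : RadCond B r z c) (x : V) :
    (uzI B r z c).1 x = x + B r x • z + (c * B r x - B z x) • r := by
  haveI := hB.fin; haveI := hB.findim
  rw [uzI, dif_pos h, (hB.herm.exists_of_preserving hB.nd _ (uz_pres h)).choose_spec, uzLin_apply]

theorem isom_ext {g g' : isomGroup B} (h : ∀ x, g.1 x = g'.1 x) : g = g' :=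
  Subtype.ext (LinearEquiv.ext h)

theorem sisom_ext {g g' : sIsom B} (h : ∀ x, g.1.1 x = g'.1.1 x) : g = g' :=
  Subtype.ext (isom_ext h)

theorem radCond_mul {r z w : V} {c d : F} (h : RadCond B r z c) (h' : RadCond B r w d) :
    RadCond B r (z + w) (c + d - B z w) := by
  refine ⟨h.1, by rw [map_add, h.2.1, h'.2.1, add_zero], ?_⟩
  rw [map_sub, map_add, form_symm, hB.herm.add_self]
  linear_combination h.2.2 + h'.2.2 + (form_symm (B := B) z w)

theorem radCond_tv {v : V} {c : F} (hv : B v v = 0) (hc : c + σ c = 0) : RadCond B v 0 c :=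
  ⟨hv, map_zero _, by rw [map_zero, add_zero, hc]⟩

theorem radCond_inv {r z : V} {c : F} (h : RadCond B r z c) : RadCond B r (-z) (σ c) := by
  refine ⟨h.1, by rw [map_neg, h.2.1, neg_zero], ?_⟩
  rw [sigma_invol (B := B), map_neg (B (-z)), map_neg B, LinearMap.neg_apply, neg_neg]
  linear_combination h.2.2

theorem uzI_mul {r z w : V} {c d : F} (h : RadCond B r z c) (h' : RadCond B r w d) :
    uzI B r z c * uzI B r w d = uzI B r (z + w) (c + d - B z w) := by
  refine isom_ext fun x => ?_
  show (uzI B r z c).1 ((uzI B r w d).1 x) = _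
  rw [uzI_apply (radCond_mul h h'), uzI_apply h', uzI_apply h]
  simp only [map_add, map_smul, smul_eq_mul, h.1, h'.2.1, form_refl h.2.1, LinearMap.add_apply]
  module

theorem uzI_zero {r : V} (hr : B r r = 0) : uzI B r 0 0 = 1 := by
  refine isom_ext fun x => ?_
  rw [uzI_apply (radCond_tv hr (by simp))]
  simp

theorem uzI_pow {r z : V} {c : F} (h : RadCond B r z c) :
    ∀ k : ℕ, ∃ e, RadCond B r ((k : F) • z) e ∧ uzI B r z c ^ k = uzI B r ((k : F) • z) e := by
  intro k
  induction k with
  | zero => exact ⟨0, by rw [Nat.cast_zero, zero_smul]; exact radCond_tv h.1 (by simp), by simp [uzI_zero h.1]⟩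
  | succ k ih =>
    obtain ⟨e, he, hk⟩ := ih
    have hz : ((k + 1 : ℕ) : F) • z = (k : F) • z + z := by rw [Nat.cast_succ, add_smul, one_smul]
    exact ⟨_, hz ▸ radCond_mul he h, by rw [pow_succ, hk, uzI_mul he h, hz]⟩

theorem idet_tv {v : V} {c : F} (hv : B v v = 0) (hc : c + σ c = 0) : idet B (uzI B v 0 c) = 1 := by
  haveI := hB.fin; haveI := hB.findim
  refine hB.herm.idet_uTv (v := v) (c := c) ⟨hv, hc, fun x => ?_⟩
  rw [uzI_apply (radCond_tv hv hc)]
  simp

theorem idet_uzI {r z : V} {c : F} (h : RadCond B r z c) : idet B (uzI B r z c) = 1 := by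
  haveI := hB.fin
  obtain ⟨p, _⟩ := CharP.exists F
  haveI hp : Fact p.Prime := ⟨CharP.char_is_prime F p⟩
  obtain ⟨e, he, hk⟩ := uzI_pow h p
  rw [CharP.cast_eq_zero, zero_smul] at he hk
  have h1 := congrArg (idet B) hk
  rw [map_pow, idet_tv he.1 (by simpa using he.2.2)] at h1
  exact frobenius_inj F p (by rw [frobenius_def, frobenius_def, h1, one_pow])

/-- The root element of the special group. -/
noncomputable def uzE (B : V →ₛₗ[σ] V →ₗ[F] F) [hB : UCtx B] (r z : V) (c : F) : sIsom B :=
  ⟨uzI B r z c, MonoidHom.mem_ker.2 (by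
    classical
    by_cases h : RadCond B r z c
    · exact idet_uzI h
    · rw [uzI, dif_neg h, map_one])⟩

theorem uzE_apply {r z : V} {c : F} (h : RadCond B r z c) (x : V) :
    (uzE B r z c).1.1 x = x + B r x • z + (c * B r x - B z x) • r := uzI_apply h x

theorem uzE_mul {r z w : V} {c d : F} (h : RadCond B r z c) (h' : RadCond B r w d) :
    uzE B r z c * uzE B r w d = uzE B r (z + w) (c + d - B z w) := Subtype.ext (uzI_mul h h')

theorem uzE_zero {r : V} (hr : B r r = 0) : uzE B r 0 0 = 1 := Subtype.ext (uzI_zero hr)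

theorem uzE_inv {r z : V} {c : F} (h : RadCond B r z c) : (uzE B r z c)⁻¹ = uzE B r (-z) (σ c) := by
  refine inv_eq_of_mul_eq_one_right ?_
  rw [uzE_mul h (radCond_inv h), add_neg_cancel, map_neg, sub_neg_eq_add,
    show c + σ c + B z z = 0 from h.2.2, uzE_zero h.1]

theorem uzE_pow_char {r z : V} {c : F} (h : RadCond B r z c) (p : ℕ) [CharP F p] :
    uzE B r z c ^ (p * p) = 1 := by
  obtain ⟨e, he, hk⟩ := uzI_pow h p
  rw [CharP.cast_eq_zero, zero_smul] at he hk
  have hfix : ∀ k : ℕ, uzI B r 0 e ^ k = uzI B r 0 ((k : F) * e) := by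
    intro k
    induction k with
    | zero => rw [pow_zero, Nat.cast_zero, zero_mul, uzI_zero he.1]
    | succ k ih =>
      rw [pow_succ, ih, uzI_mul (radCond_tv he.1 ?_) he, add_zero, map_zero, sub_zero, Nat.cast_succ, add_mul, one_mul]
      rw [map_mul, map_natCast]
      have := he.2.2
      rw [map_zero, add_zero] at this
      linear_combination (k : F) * this
  refine Subtype.ext ?_
  show uzI B r z c ^ (p * p) = 1
  rw [pow_mul, hk, hfix, CharP.cast_eq_zero, zero_mul, uzI_zero he.1]

theorem radCond_conj {r z : V} {c : F} (h : RadCond B r z c) (g : sIsom B) :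
    RadCond B (g.1.1 r) (g.1.1 z) c :=
  ⟨by rw [isomGroup_apply]; exact h.1, by rw [isomGroup_apply]; exact h.2.1, by rw [isomGroup_apply]; exact h.2.2⟩

theorem uzE_conj {r z : V} {c : F} (h : RadCond B r z c) (g : sIsom B) :
    g * uzE B r z c * g⁻¹ = uzE B (g.1.1 r) (g.1.1 z) c := by
  refine sisom_ext fun x => ?_
  show g.1.1 ((uzE B r z c).1.1 ((g⁻¹ : sIsom B).1.1 x)) = _
  have hx : g.1.1 ((g⁻¹ : sIsom B).1.1 x) = x := g.1.1.apply_symm_apply x
  have e : ∀ w, B w ((g⁻¹ : sIsom B).1.1 x) = B (g.1.1 w) x := fun w => by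
    rw [← isomGroup_apply g.1 w, hx]
  rw [uzE_apply h, uzE_apply (radCond_conj h g), map_add, map_add, map_smul, map_smul, hx, e, e]

theorem radCond_smul {r z : V} {c : F} (a : F) (h : RadCond B r z c) :
    RadCond B r (σ a • z) (a * σ a * c) := by
  refine ⟨h.1, by rw [map_smul, h.2.1, smul_zero], ?_⟩
  rw [hB.herm.smul_self, map_mul, map_mul, sigma_invol (B := B)]
  linear_combination (a * σ a) * h.2.2

theorem uzE_smul {r z : V} {c a : F} (h : RadCond B (a • r) z c) (h' : RadCond B r (σ a • z) (a * σ a * c)) :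
    uzE B (a • r) z c = uzE B r (σ a • z) (a * σ a * c) := by
  refine sisom_ext fun x => ?_
  rw [uzE_apply h, uzE_apply h']
  simp only [map_smulₛₗ, LinearMap.smul_apply, smul_eq_mul, sigma_invol (B := B)]
  module

theorem uzE_shift {r z : V} {c t : F} (h : RadCond B r z c) (h' : RadCond B r (z + t • r) (c + σ t - t)) :
    uzE B r (z + t • r) (c + σ t - t) = uzE B r z c := by
  refine sisom_ext fun x => ?_
  rw [uzE_apply h, uzE_apply h']
  simp only [map_add, map_smulₛₗ, LinearMap.add_apply, LinearMap.smul_apply, smul_eq_mul]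
  module

/-! ### Isotropic vectors and the centre -/

theorem exists_partner {r : V} (hr0 : r ≠ 0) (hr : B r r = 0) : ∃ s, B s s = 0 ∧ B r s = 1 := by
  haveI := hB.fin; haveI := hB.findim
  obtain ⟨s, -, hs, hrs⟩ := hB.herm.exists_partner (nondegOn_iff.2 fun x _ hx => hB.nd x fun w => hx w trivial :
    NondegOn B (⊤ : Submodule F V)) trivial hr0 hr
  exact ⟨s, hs, hrs⟩

theorem exists_iso : ∃ r : V, r ≠ 0 ∧ B r r = 0 := by
  haveI := hB.fin; haveI := hB.findim
  obtain ⟨r, -, hr0, hr⟩ := hB.herm.exists_isotropic (nondegOn_iff.2 fun x _ hx => hB.nd x fun w => hx w trivial :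
    NondegOn B (⊤ : Submodule F V)) (by rw [finrank_top]; have := hB.three; omega)
  exact ⟨r, hr0, hr⟩

theorem mem_span_iso (x : V) : x ∈ Submodule.span F {v | B v v = 0} := by
  obtain ⟨r, hr0, hr⟩ := exists_iso (B := B)
  obtain ⟨s, hs, hrs⟩ := exists_partner (B := B) hr0 hr
  have key : ∀ y, B r y ≠ 0 → y ∈ Submodule.span F {v | B v v = 0} := by
    intro y hy
    obtain ⟨c, hc⟩ := hB.herm.conj.exists_trace_eq (a := -B y y)
      (by rw [map_neg, hB.herm.self_fixed])
    have hiso : B (y + (c / B y r) • r) (y + (c / B y r) • r) = 0 := by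
      have hyr : B y r ≠ 0 := fun e => hy (form_refl e)
      rw [hB.herm.add_self, hB.herm.smul_self, hr, map_smul, smul_eq_mul, div_mul_cancel₀ _ hyr]
      linear_combination hc
    rw [show y = (y + (c / B y r) • r) - (c / B y r) • r by simp]
    exact Submodule.sub_mem _ (Submodule.subset_span hiso) (Submodule.smul_mem _ _ (Submodule.subset_span hr))
  by_cases h : B r x = 0
  · rw [show x = (x + s) - s by simp]
    exact Submodule.sub_mem _ (key _ (by rw [map_add, h, hrs, zero_add]; exact one_ne_zero))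
      (Submodule.subset_span hs)
  · exact key x h

theorem center_smul {z : sIsom B} (hz : z ∈ Subgroup.center (sIsom B)) {v : V} (hv : v ≠ 0) (hv0 : B v v = 0) :
    ∃ l : F, l ≠ 0 ∧ z.1.1 v = l • v := by
  obtain ⟨c, hc, hc'⟩ := hB.herm.conj.exists_trace_zero
  have h := radCond_tv (B := B) hv0 hc'
  have e := uzE_conj h z
  rw [← Subgroup.mem_center_iff.1 hz, mul_inv_cancel_right, map_zero] at e
  obtain ⟨s, hs, hvs⟩ := exists_partner (B := B) hv hv0
  have e1 := congrArg (fun g : sIsom B => g.1.1 s) e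
  simp only [uzE_apply h, uzE_apply (by simpa using radCond_conj h z : RadCond B (z.1.1 v) 0 c), smul_zero, add_zero,
    map_zero, LinearMap.zero_apply, sub_zero, hvs, mul_one, add_right_inj] at e1
  have hzv : z.1.1 v ≠ 0 := by simpa using hv
  by_cases hd : B (z.1.1 v) s = 0
  · rw [hd, mul_zero, zero_smul, smul_eq_zero] at e1
    exact absurd e1 (by simp [hc, hv])
  refine ⟨(c * B (z.1.1 v) s)⁻¹ * c, by simp [hc, hd], ?_⟩
  rw [mul_smul, e1, inv_smul_smul₀ (mul_ne_zero hc hd)]

theorem center_fix {z : sIsom B} (hz : z ∈ Subgroup.center (sIsom B)) (P : IsoPts B) : z • P = P := by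
  obtain ⟨v, hv, hv0, rfl⟩ := isoPt_surjective P
  obtain ⟨l, -, hl⟩ := center_smul hz hv hv0
  exact smul_isoPt_eq z hv hv0 hv hv0 hl

theorem center_pow_eq_one {z : sIsom B} (hz : z ∈ Subgroup.center (sIsom B)) {p : ℕ} [Fact p.Prime] [CharP F p]
    (h : z ^ p = 1) : z = 1 := by
  refine sisom_ext fun x => ?_
  have hiso : ∀ v, B v v = 0 → z.1.1 v = v := by
    intro v hv0
    by_cases hv : v = 0
    · subst hv; exact map_zero _
    obtain ⟨l, -, hl⟩ := center_smul hz hv hv0
    have hpow : ∀ k : ℕ, (z ^ k).1.1 v = l ^ k • v := by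
      intro k
      induction k with
      | zero => simp
      | succ k ih =>
        rw [pow_succ']
        show z.1.1 ((z ^ k).1.1 v) = _
        rw [ih, map_smul, hl, smul_smul, pow_succ]
    have h1 := hpow p
    rw [h] at h1
    have hlp : l ^ p = 1 := smul_left_injective F hv (by simpa using h1.symm)
    rw [hl, frobenius_inj F p (show frobenius F p l = frobenius F p 1 by
      rw [frobenius_def, frobenius_def, hlp, one_pow]), one_smul]
  exact LinearMap.eqOn_span (f := (z.1.1 : V →ₗ[F] V)) (g := LinearMap.id) hiso (mem_span_iso (B := B) x)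

theorem finite_sIsom : Finite (sIsom B) := by
  haveI := hB.fin; haveI := hB.findim
  haveI : Finite V := Module.finite_of_finite F
  exact Finite.of_injective (fun g : sIsom B => (g.1.1 : V → V)) fun a b h => sisom_ext (congrFun h)

/-- Lifts of elements of `p`-power order can be chosen of the same order. -/
theorem exists_lift_pow {x : PG B} {p i : ℕ} [Fact p.Prime] [CharP F p] (hi : i ≠ 0) (hx : x ^ p ^ i = 1) :
    ∃ g : sIsom B, QuotientGroup.mk g = x ∧ g ^ p ^ i = 1 := by
  haveI := finite_sIsom (B := B)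
  obtain ⟨g, rfl⟩ := QuotientGroup.mk_surjective x
  have hgp : g ^ p ^ i ∈ Subgroup.center (sIsom B) := by
    rw [← QuotientGroup.eq_one_iff, QuotientGroup.mk_pow, hx]
  set k := Nat.card (Subgroup.center (sIsom B))
  have hk : ¬ p ∣ k := by
    intro hd
    obtain ⟨z, hz⟩ := exists_prime_orderOf_dvd_card' (G := Subgroup.center (sIsom B)) p hd
    have := center_pow_eq_one (B := B) z.2 (p := p)
      (by rw [← Subgroup.coe_pow, ← hz, pow_orderOf_eq_one, Subgroup.coe_one])
    rw [show z = 1 from Subtype.ext this, orderOf_one] at hz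
    exact (Fact.out : p.Prime).one_lt.ne hz
  obtain ⟨m, hm1, hm2⟩ := Nat.chineseRemainder (((Fact.out : p.Prime).coprime_iff_not_dvd.2 hk).pow_left i) 1 0
  refine ⟨g ^ m, ?_, ?_⟩
  · rw [QuotientGroup.mk_pow, ← Nat.mod_add_div m (p ^ i), pow_add, pow_mul, hx, one_pow, mul_one,
      show m % p ^ i = 1 % p ^ i from hm1, Nat.mod_eq_of_lt (Nat.one_lt_pow hi (Fact.out : p.Prime).one_lt), pow_one]
  · obtain ⟨j, hj⟩ := Nat.modEq_zero_iff_dvd.1 hm2
    rw [← pow_mul, mul_comm, pow_mul, hj, pow_mul]
    have : (⟨g ^ p ^ i, hgp⟩ : Subgroup.center (sIsom B)) ^ k = 1 := pow_card_eq_one'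
    rw [show (g ^ p ^ i) ^ k = 1 from congrArg Subtype.val this, one_pow]

theorem exists_lift {x : PG B} {p : ℕ} [Fact p.Prime] [CharP F p] (hx : x ^ p = 1) :
    ∃ g : sIsom B, QuotientGroup.mk g = x ∧ g ^ p = 1 := by
  obtain ⟨g, h1, h2⟩ := exists_lift_pow (B := B) (p := p) one_ne_zero (show x ^ p ^ 1 = 1 by rwa [pow_one])
  exact ⟨g, h1, by rwa [pow_one] at h2⟩

/-! ### The action on points -/

/-- The action homomorphism. -/
noncomputable def ptHom (B : V →ₛₗ[σ] V →ₗ[F] F) [hB : UCtx B] : PG B →* Equiv.Perm (IsoPts B) :=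
  QuotientGroup.lift _ (MulAction.toPermHom (sIsom B) (IsoPts B)) fun z hz =>
    Equiv.ext fun P => center_fix hz P

noncomputable instance pgAction : MulAction (PG B) (IsoPts B) := MulAction.compHom _ (ptHom B)

theorem pg_smul (g : sIsom B) (P : IsoPts B) : (QuotientGroup.mk g : PG B) • P = g • P := rfl

theorem mk_smul_isoPt (g : sIsom B) {v : V} (hv : v ≠ 0) (h0 : B v v = 0) :
    (QuotientGroup.mk g : PG B) • isoPt B hv h0 =
      isoPt B (show g.1.1 v ≠ 0 by simpa using hv) (by rw [isomGroup_apply]; exact h0) :=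
  smul_isoPt_eq g hv h0 _ _ (one_smul F _).symm

theorem pg_ext {x y : PG B} (h : ∀ P : IsoPts B, x • P = y • P) : x = y := by
  haveI := hB.fin; haveI := hB.findim
  obtain ⟨g, rfl⟩ := QuotientGroup.mk_surjective x
  obtain ⟨k, rfl⟩ := QuotientGroup.mk_surjective y
  rw [QuotientGroup.eq]
  refine hB.herm.mem_center_of_fix_isoPts hB.nd (hex (B := B)) fun P => ?_
  rw [mul_smul, ← pg_smul k, ← h, pg_smul, inv_smul_smul]

instance pg_pretransitive : IsPretransitive (PG B) (IsoPts B) := by
  haveI := hB.fin; haveI := hB.findim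
  haveI := hB.herm.isoPts_pretransitive hB.nd
  exact ⟨fun P Q => let ⟨g, hg⟩ := exists_smul_eq (sIsom B) P Q; ⟨QuotientGroup.mk g, hg⟩⟩

theorem isPreprimitive : IsPreprimitive (PG B) (IsoPts B) := by
  haveI := hB.fin; haveI := hB.findim
  haveI := hB.herm.isoPts_isPreprimitive hB.nd
  refine { isTrivialBlock_of_isBlock := fun {S} hS => ?_ }
  refine IsPreprimitive.isTrivialBlock_of_isBlock (G := sIsom B) ?_
  intro g g' h
  exact hS (g₁ := QuotientGroup.mk g) (g₂ := QuotientGroup.mk g') h

theorem nontrivial_pts : Nontrivial (IsoPts B) := by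
  obtain ⟨r, hr0, hr⟩ := exists_iso (B := B)
  obtain ⟨s, hs, hrs⟩ := exists_partner (B := B) hr0 hr
  have hs0 : s ≠ 0 := fun e => by simp [e] at hrs
  refine ⟨isoPt B hr0 hr, isoPt B hs0 hs, fun h => ?_⟩
  obtain ⟨a, ha⟩ := (Projectivization.mk_eq_mk_iff' _ _ _ _ _).1 (congrArg Subtype.val h)
  have := congrArg (B r) ha
  simp [hrs, hr] at this
  simp [this] at ha
  exact hr0 ha.symm

end

end CfsgLib.KnownC.AutPSU
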