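import Cfsg.Agent.Lib.KnownC.AutPSU.Frame

/-!
# Additive maps commuting with the two-point stabiliser are scalar
-/

set_option autoImplicit false
set_option linter.unusedSectionVars false

open Module MulAction
open scoped LinearAlgebra.Projectivization

namespace CfsgLib.KnownC.AutPSU

open CfsgLib.Classical

variable {F : Type*} [Field F] {V : Type*} [AddCommGroup V] [Module F V] {σ : F →+* F}
  {B : V →ₛₗ[σ] V →ₗ[F] F} [hB : UCtx B]
include hB

/-- Some quotient `σ t / t` avoids the roots of unity of a small degree. -/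
theorem exists_ratio_pow_ne {k q : ℕ} (hq : Nat.card F = q ^ 2) (hσ : ∀ x, σ x = x ^ q) (hk0 : 0 < k) (hk : k ≤ q) :
    ∃ t, t ≠ 0 ∧ (σ t / t) ^ k ≠ 1 := by
  haveI := hB.fin
  letI := Fintype.ofFinite F
  have hF : Fintype.card F = q ^ 2 := by rw [← Nat.card_eq_fintype_card]; exact hq
  obtain ⟨u, hu, huk⟩ : ∃ u ∈ (normHom σ).ker, u ^ k ≠ 1 := by
    by_contra hall
    push Not at hall
    have h := card_roots_pow_le k hk0 (normHom σ).ker hall
    rw [(frob_cards hF hσ hB.herm.conj).2] at h
    omega
  obtain ⟨t, ht0, ht⟩ := hB.herm.conj.exists_div_eq (x := (u : F)) (congrArg Units.val (MonoidHom.mem_ker.1 hu))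
  have ht' := (map_ne_zero σ).2 ht0
  refine ⟨t, ht0, fun h => huk (Units.ext ?_)⟩
  have e : σ t / t = (u : F)⁻¹ := by
    rw [div_eq_iff ht0]
    conv_rhs => rw [ht, ← mul_assoc, inv_mul_cancel₀ u.ne_zero, one_mul]
  rw [e, inv_pow, inv_eq_one] at h
  rw [Units.val_pow_eq_pow_val, h, Units.val_one]

variable {m : ℕ} (fr : UFrame B m)

/-- An additive map of the orthogonal space commuting with the two-point stabiliser is a scalar. -/
theorem commutant (D : V → V) (hM : ∀ z ∈ fr.M, D z ∈ fr.M)
    (hadd : ∀ z ∈ fr.M, ∀ w ∈ fr.M, D (z + w) = D z + D w)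
    (hcomm : ∀ g a, fr.IsTor g a → ∀ z ∈ fr.M, D (σ a • g.1.1 z) = σ a • g.1.1 (D z)) :
    ∃ d : F, ∀ z ∈ fr.M, D z = d • z := by
  classical
  haveI := hB.fin
  obtain ⟨q, hq, hσ⟩ := hB.frob
  have hq2 : 2 ≤ q := by
    letI := Fintype.ofFinite F
    exact two_le_of_card_sq (F := F) (q := q) (by rw [← Nat.card_eq_fintype_card]; exact hq)
  have hD0 : D 0 = 0 := by
    have := hadd 0 fr.M.zero_mem 0 fr.M.zero_mem
    rw [add_zero] at this
    exact left_eq_add.1 this
  have i0 : Fin m := ⟨0, fr.m_pos⟩
  have hfix : ∀ b, σ b = b → ∀ z ∈ fr.M, D (b • z) = b • D z := by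
    intro b hb z hz
    rcases eq_or_ne b 0 with rfl | hb0
    · rw [zero_smul, zero_smul, hD0]
    obtain ⟨g, hg, hgz⟩ := fr.exists_scale_M (i := i0) hb0
    have h := hcomm g b hg z hz
    simp only [hb, hgz z hz, hgz _ (hM z hz), div_self hb0, sub_self, zero_mul, zero_smul, add_zero] at h
    exact h
  have hsum : ∀ (c : Fin m → V), (∀ k, c k ∈ fr.M) → D (∑ k, c k) = ∑ k, D (c k) := by
    intro c hc
    have : ∀ T : Finset (Fin m), D (∑ k ∈ T, c k) = ∑ k ∈ T, D (c k) := by
      intro T
      induction T using Finset.induction_on with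
      | empty => simp [hD0]
      | insert k T hk ih =>
        rw [Finset.sum_insert hk, Finset.sum_insert hk, hadd _ (hc k) _ (fr.M.sum_mem fun j _ => hc j), ih]
    exact this _
  -- on each line of the basis
  obtain ⟨d, hd⟩ : ∃ d : F, ∀ (i : Fin m) (y : F), D (y • fr.e i) = (d * y) • fr.e i := by
    rcases Nat.lt_or_ge m 2 with hm | hm
    · obtain rfl : m = 1 := by have := fr.m_pos; omega
      have hbig : 3 ≤ q := by
        by_contra hlt
        obtain rfl : q = 2 := by omega
        obtain ⟨t, ht, ht0, ht1⟩ := hB.big (by have := fr.dim; omega)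
        rw [hσ, pow_two] at ht
        exact ht1 (mul_left_cancel₀ ht0 (by rw [mul_one]; exact ht))
      let K : Subring F :=
        { carrier := {x | ∀ y : F, D ((x * y) • fr.e 0) = x • D (y • fr.e 0)}
          one_mem' := fun y => by rw [one_mul, one_smul]
          mul_mem' := fun {a b} ha hb y => by rw [mul_assoc, ha, hb, smul_smul]
          zero_mem' := fun y => by rw [zero_mul, zero_smul, hD0, zero_smul]
          add_mem' := fun {a b} ha hb y => by
            rw [add_mul, add_smul, hadd _ (fr.M.smul_mem _ (fr.e_mem 0)) _ (fr.M.smul_mem _ (fr.e_mem 0)), ha, hb,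
              add_smul]
          neg_mem' := fun {a} ha y => by
            have h := hfix (-1) (by rw [map_neg, map_one]) _ (fr.M.smul_mem (a * y) (fr.e_mem 0))
            rw [smul_smul, neg_one_mul] at h
            rw [neg_mul, h, ha, smul_smul, neg_one_mul] }
      have hK0 : ∀ b, σ b = b → b ∈ K := fun b hb y => by
        rw [mul_smul]; exact hfix b hb _ (fr.M.smul_mem _ (fr.e_mem 0))
      have hline : ∀ z ∈ fr.M, z = B (fr.e 0) z • fr.e 0 := fun z hz => by simpa using fr.expand_M hz
      obtain ⟨t, ht0, ht⟩ := exists_ratio_pow_ne (B := B) hq hσ (k := 3) (by omega) hbig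
      have ht' := (map_ne_zero σ).2 ht0
      have hxK : σ t * (σ t / t) ∈ K := by
        intro y
        obtain ⟨g, hg, hge, -⟩ := fr.exists_scale_one (i := 0) ht0
        have h := hcomm g t hg _ (fr.M.smul_mem y (fr.e_mem 0))
        have hw := hline _ (hM _ (fr.M.smul_mem y (fr.e_mem 0)))
        conv_rhs at h => rw [hw, map_smul, hge, smul_comm (B (fr.e 0) _) (σ t / t), ← hw, smul_smul]
        rw [map_smul, hge, smul_smul, smul_smul] at h
        rwa [show σ t * (σ t / t) * y = σ t * (y * (σ t / t)) by ring, show σ t * (y * (σ t / t)) = σ t * y * (σ t / t) by ring]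
      set x := σ t * (σ t / t) with hx
      have hxσ : σ x - x ≠ 0 := by
        refine sub_ne_zero.2 fun h => ht ?_
        rw [hx, map_mul, map_div₀, sigma_invol (B := B)] at h
        field_simp at h
        rw [div_pow, div_eq_one_iff_eq (pow_ne_zero _ ht0)]
        linear_combination -h
      have hall : ∀ f, f ∈ K := by
        intro f
        set v := (σ f - f) / (σ x - x) with hv
        have hvfix : σ v = v := by
          rw [hv, map_div₀, map_sub, map_sub, sigma_invol (B := B), sigma_invol (B := B), ← neg_sub (σ f),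
            ← neg_sub (σ x), neg_div_neg_eq]
        have hufix : σ (f - v * x) = f - v * x := by
          have hvx : v * (σ x - x) = σ f - f := div_mul_cancel₀ _ hxσ
          rw [map_sub, map_mul, hvfix]
          linear_combination -hvx
        rw [show f = (f - v * x) + v * x by ring]
        exact K.add_mem (hK0 _ hufix) (K.mul_mem (hK0 _ hvfix) hxK)
      refine ⟨B (fr.e 0) (D (fr.e 0)), fun i y => ?_⟩
      obtain rfl : i = 0 := Subsingleton.elim _ _
      have h := hall y 1
      rw [mul_one, one_smul] at h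
      rw [h]
      conv_lhs => rw [hline _ (hM _ (fr.e_mem 0))]
      rw [smul_smul, mul_comm]
    · obtain ⟨a, ha0, ha⟩ := exists_ratio_pow_ne (B := B) hq hσ (k := 2) (by omega) hq2
      have ha' := (map_ne_zero σ).2 ha0
      set x := σ a * (σ a / a) with hx
      set zc := (x - a) * (x - σ a) with hzc
      have hzc0 : zc ≠ 0 := by
        rw [hzc, hx]
        refine mul_ne_zero (sub_ne_zero.2 fun h => ha ?_) (sub_ne_zero.2 fun h => ha ?_)
        · field_simp at h
          rw [div_pow, div_eq_one_iff_eq (pow_ne_zero _ ha0)]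
          linear_combination h
        · have : σ a / a = 1 := mul_left_cancel₀ ha' (h.trans (mul_one _).symm)
          rw [this, one_pow]
      have hne : ∀ i : Fin m, ∃ j, j ≠ i := fun i => by
        haveI : Nontrivial (Fin m) := Fin.nontrivial_iff_two_le.2 hm
        exact exists_ne i
      -- the projection onto a line
      have hproj : ∀ i, ∀ z ∈ fr.M, D ((zc * B (fr.e i) z) • fr.e i) = (zc * B (fr.e i) (D z)) • fr.e i := by
        intro i z hz
        obtain ⟨g, hg, hgz⟩ := fr.exists_scale_M (i := i) ha0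
        let X : V → V := fun w => σ a • g.1.1 w
        have hXM : ∀ w ∈ fr.M, X w ∈ fr.M := fun w hw => fr.M.smul_mem _ (hg.map_M hw)
        have hX : ∀ w ∈ fr.M, D (X w) = X (D w) := fun w hw => hcomm g a hg w hw
        have ht : σ (-(a + σ a)) = -(a + σ a) := by rw [map_neg, map_add, sigma_invol (B := B), add_comm]
        have hn : σ (a * σ a) = a * σ a := hB.herm.conj.norm_fixed a
        have hquad : ∀ w ∈ fr.M, X (X w) + -(a + σ a) • X w + (a * σ a) • w = (zc * B (fr.e i) w) • fr.e i := by
          intro w hw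
          have e1 : X w = σ a • w + (σ a * ((σ a / a - 1) * B (fr.e i) w)) • fr.e i := by
            simp only [X]; rw [hgz w hw, smul_add, smul_smul]
          have e2 : X (fr.e i) = x • fr.e i := by
            simp only [X]
            rw [hgz _ (fr.e_mem i), fr.ee, if_pos rfl, mul_one, sub_smul, one_smul, add_sub_cancel, smul_smul]
          have hlin : ∀ (c c' : F) (u v : V), X (c • u + c' • v) = c • X u + c' • X v := fun c c' u v => by
            simp only [X, map_add, map_smul, smul_add, smul_comm (σ a)]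
          rw [show X (X w) = σ a • X w + (σ a * ((σ a / a - 1) * B (fr.e i) w)) • X (fr.e i) by
            conv_lhs => rw [e1]
            rw [hlin], e2, e1, hzc, hx]
          module
        rw [← hquad z hz, ← hquad _ (hM z hz),
          hadd _ (fr.M.add_mem (hXM _ (hXM z hz)) (fr.M.smul_mem _ (hXM z hz))) _ (fr.M.smul_mem _ hz),
          hadd _ (hXM _ (hXM z hz)) _ (fr.M.smul_mem _ (hXM z hz)), hX _ (hXM z hz), hX z hz,
          hfix _ ht _ (hXM z hz), hfix _ hn _ hz, hX z hz]
      have hline : ∀ i, ∀ z ∈ fr.M, ∀ y : F, D ((y * B (fr.e i) z) • fr.e i) = (y * B (fr.e i) (D z)) • fr.e i := by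
        intro i z hz y
        rcases eq_or_ne y 0 with rfl | hy
        · simp [hD0]
        obtain ⟨j, hj⟩ := hne i
        have hb0 : σ (y / zc) ≠ 0 := (map_ne_zero σ).2 (div_ne_zero hy hzc0)
        obtain ⟨g, hg, -, hgk⟩ := fr.exists_scale_one (i := j) hb0
        have h := hcomm g _ hg _ (fr.M.smul_mem (zc * B (fr.e i) z) (fr.e_mem i))
        rw [hproj i z hz, map_smul, map_smul, hgk i hj.symm, smul_smul, smul_smul, sigma_invol (B := B)] at h
        have e : ∀ c, y / zc * (zc * c) = y * c := fun c => by rw [← mul_assoc, div_mul_cancel₀ _ hzc0]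
        rwa [e, e] at h
      have hdiag : ∀ (i : Fin m) (y : F), D (y • fr.e i) = (B (fr.e i) (D (fr.e i)) * y) • fr.e i := by
        intro i y
        have h := hline i _ (fr.e_mem i) y
        rw [fr.ee, if_pos rfl, mul_one, mul_comm y] at h
        exact h
      refine ⟨B (fr.e i0) (D (fr.e i0)), fun i y => ?_⟩
      rw [hdiag]
      congr 2
      rcases eq_or_ne i0 i with h | h
      · rw [h]
      obtain ⟨g, c, hg, hgi, -⟩ := fr.exists_swap h
      have e := hcomm g c hg _ (fr.e_mem i0)
      have h1 := hdiag i0 1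
      rw [one_smul, mul_one] at h1
      rw [hgi, hdiag, h1, map_smul, hgi, smul_smul, mul_comm (σ c)] at e
      exact mul_right_cancel₀ ((map_ne_zero σ).2 hg.1) (smul_left_injective F (fr.e_ne i) e)
  refine ⟨d, fun z hz => ?_⟩
  conv_lhs => rw [fr.expand_M hz]
  rw [hsum _ fun k => fr.M.smul_mem _ (fr.e_mem k)]
  conv_rhs => rw [fr.expand_M hz, Finset.smul_sum]
  exact Finset.sum_congr rfl fun k _ => by rw [hd, smul_smul]

end CfsgLib.KnownC.AutPSU
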