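import Cfsg.Agent.Lib.Classical.HermTS

/-!
# Totally isotropic subspaces of dimension `k ≥ 2` are not as many as isotropic points
-/

set_option autoImplicit false

open Module

namespace CfsgLib.KnownC.AutPSU

open CfsgLib.Classical

/-- `q^(i+1) - (-1)^(i+1)`. -/
def ee (q i : ℕ) : ℕ := if Even i then q ^ (i + 1) + 1 else q ^ (i + 1) - 1

/-- The product of the first `d` of them. -/
def pe (q d : ℕ) : ℕ := ∏ i ∈ Finset.range d, ee q i

theorem ee_pos {q : ℕ} (hq : 2 ≤ q) (i : ℕ) : 0 < ee q i := by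
  have : 2 ≤ q ^ (i + 1) := le_trans hq (Nat.le_self_pow (by omega) q)
  unfold ee; split_ifs <;> omega

theorem ee_mono {q : ℕ} (hq : 2 ≤ q) : Monotone (ee q) := by
  refine monotone_nat_of_le_succ fun i => ?_
  have h1 : 2 ≤ q ^ (i + 1) := le_trans hq (Nat.le_self_pow (by omega) q)
  have h2 : 2 * q ^ (i + 1) ≤ q ^ (i + 1 + 1) := by
    rw [pow_succ q (i + 1), mul_comm]; exact Nat.mul_le_mul_left _ hq
  unfold ee; split_ifs <;> omega

theorem coprime_pow_add {q j : ℕ} (hj : j ≠ 0) : Nat.Coprime q (q ^ j + 1) := by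
  obtain ⟨i, rfl⟩ := Nat.exists_eq_succ_of_ne_zero hj
  rw [pow_succ, mul_comm, Nat.coprime_mul_left_add_right]
  exact Nat.coprime_one_right q

theorem coprime_pow_sub {q j : ℕ} (hq : 2 ≤ q) (hj : j ≠ 0) : Nat.Coprime q (q ^ j - 1) := by
  obtain ⟨i, rfl⟩ := Nat.exists_eq_succ_of_ne_zero hj
  have h1 : 2 ≤ q ^ (i + 1) := le_trans hq (Nat.le_self_pow (by omega) q)
  refine Nat.coprime_of_dvd fun p hp hpq hd => ?_
  have hpd : p ∣ q ^ (i + 1) := hpq.trans (dvd_pow_self q (by omega))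
  have h := Nat.dvd_sub hpd hd
  rw [show q ^ (i + 1) - (q ^ (i + 1) - 1) = 1 by omega, Nat.dvd_one] at h
  exact hp.ne_one h

theorem coprime_ee {q : ℕ} (hq : 2 ≤ q) (i : ℕ) : Nat.Coprime q (ee q i) := by
  unfold ee
  split_ifs
  · exact coprime_pow_add (by omega)
  · exact coprime_pow_sub hq (by omega)

theorem coprime_pe {q : ℕ} (hq : 2 ≤ q) (d : ℕ) : Nat.Coprime q (pe q d) :=
  Nat.Coprime.prod_right fun i _ => coprime_ee hq i

/-- `∏_{j<k} (Q^(j+1) - 1)`. -/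
def pg (Q k : ℕ) : ℕ := ∏ j ∈ Finset.range k, (Q ^ (j + 1) - 1)

theorem gl_prod (q k : ℕ) (hq : 2 ≤ q) :
    ∃ s, ∏ i : Fin k, ((q ^ 2) ^ k - (q ^ 2) ^ (i : ℕ)) = q ^ s * pg (q ^ 2) k := by
  refine ⟨2 * ∑ i ∈ Finset.range k, i, ?_⟩
  rw [Fin.prod_univ_eq_prod_range (fun i => (q ^ 2) ^ k - (q ^ 2) ^ i) k, pow_mul, ← Finset.prod_pow_eq_pow_sum, pg,
    ← Finset.prod_range_reflect (fun j => (q ^ 2) ^ (j + 1) - 1) k, ← Finset.prod_mul_distrib]
  refine Finset.prod_congr rfl fun i hi => ?_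
  have hi' := Finset.mem_range.1 hi
  rw [show k - 1 - i + 1 = k - i by omega, Nat.mul_sub, mul_one, ← pow_add, show i + (k - i) = k by omega]

theorem coprime_pg {q : ℕ} (hq : 2 ≤ q) (k : ℕ) : Nat.Coprime q (pg (q ^ 2) k) :=
  Nat.Coprime.prod_right fun i _ => by rw [← pow_mul]; exact coprime_pow_sub hq (by omega)

theorem eq_of_pow_mul {q a b X Y : ℕ} (hq : 2 ≤ q) (hX : Nat.Coprime q X) (hY : Nat.Coprime q Y)
    (h : q ^ a * X = q ^ b * Y) : X = Y := by
  have h1 : X ∣ Y := (Nat.Coprime.pow_left b hX).symm.dvd_of_dvd_mul_left (h ▸ Dvd.intro_left _ rfl)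
  have h2 : Y ∣ X := (Nat.Coprime.pow_left a hY).symm.dvd_of_dvd_mul_left (h ▸ Dvd.intro_left _ rfl)
  exact Nat.dvd_antisymm h1 h2

theorem base_bound {q : ℕ} (hq : 2 ≤ q) : ∀ j, 2 ≤ j →
    ∏ i ∈ Finset.range j, (q ^ (2 * i + 4) - 1) < ∏ i ∈ Finset.range j, ee q (2 * i) * ee q (2 * i + 1) := by
  have hpair : ∀ i, ee q (2 * i) * ee q (2 * i + 1) = (q ^ (2 * i + 1) + 1) * (q ^ (2 * i + 2) - 1) := fun i => by
    rw [ee, ee, if_pos (even_two_mul i), if_neg (by simp [parity_simps])]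
  intro j hj
  induction j, hj using Nat.le_induction with
  | base =>
    simp only [Finset.prod_range_succ, Finset.prod_range_zero, one_mul, hpair]
    have h2 : 4 ≤ q ^ 2 := Nat.pow_le_pow_left hq 2
    have h4 : q ^ 4 = q ^ 2 * q ^ 2 := by ring
    have h6 : q ^ 6 = q ^ 2 * q ^ 2 * q ^ 2 := by ring
    have h41 : 1 ≤ q ^ 4 := Nat.one_le_pow _ _ (by omega)
    obtain ⟨A, hA⟩ : ∃ A, q ^ 2 = A + 1 := ⟨q ^ 2 - 1, by omega⟩
    obtain ⟨C, hC⟩ : ∃ C, q ^ 4 = C + 1 := ⟨q ^ 4 - 1, by omega⟩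
    simp only [Nat.reduceMul, Nat.reduceAdd, pow_one]
    have e1 : q ^ 4 - 1 = C := by omega
    have e3 : q ^ 2 - 1 = A := by omega
    rw [e1, e3]
    have hlt : q ^ 6 - 1 < (q + 1) * A * (q ^ 3 + 1) := by
      have : (q + 1) * A * (q ^ 3 + 1) + (q + 1) * (q ^ 3 + 1) = (q + 1) * (q ^ 3 + 1) * q ^ 2 := by rw [hA]; ring
      have e : (q + 1) * (q ^ 3 + 1) = q ^ 4 + q ^ 3 + q + 1 := by ring
      have e' : (q + 1) * (q ^ 3 + 1) * q ^ 2 = q ^ 6 + q ^ 5 + q ^ 3 + q ^ 2 := by ring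
      have h5 : 2 * q ^ 4 ≤ q ^ 5 := by rw [pow_succ q 4, mul_comm]; exact Nat.mul_le_mul_left _ hq
      have h34 : q ^ 3 ≤ q ^ 4 := Nat.pow_le_pow_right (by omega) (by norm_num)
      have : q ≤ q ^ 3 := Nat.le_self_pow (by norm_num) q
      omega
    calc C * (q ^ 6 - 1) < C * ((q + 1) * A * (q ^ 3 + 1)) := Nat.mul_lt_mul_of_pos_left hlt (by nlinarith)
      _ = (q + 1) * A * ((q ^ 3 + 1) * C) := by ring
  | succ j hj ih =>
    rw [Finset.prod_range_succ, Finset.prod_range_succ]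
    refine Nat.mul_lt_mul_of_lt_of_le ih ?_ ?_
    · rw [hpair]
      have h1 : q ^ 3 + 1 ≤ q ^ (2 * j + 2) := by
        have : q ^ 4 ≤ q ^ (2 * j + 2) := Nat.pow_le_pow_right (by omega) (by omega)
        have : 2 * q ^ 3 ≤ q ^ 4 := by rw [pow_succ q 3, mul_comm]; exact Nat.mul_le_mul_left _ hq
        have : 1 ≤ q ^ 3 := Nat.one_le_pow _ _ (by omega)
        omega
      calc q ^ (2 * j + 4) - 1 ≤ q ^ (2 * j + 4) := Nat.sub_le _ _
        _ = q ^ (2 * j + 1) * q ^ 3 := by rw [← pow_add]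
        _ ≤ (q ^ (2 * j + 1) + 1) * (q ^ (2 * j + 2) - 1) := Nat.mul_le_mul (Nat.le_succ _) (by omega)
    · exact Nat.mul_pos (ee_pos hq _) (ee_pos hq _)

theorem prod_ne {q d k : ℕ} (hq : 2 ≤ q) (hk : 2 ≤ k) :
    (q ^ 2 - 1) * ∏ j ∈ Finset.range (2 * (k - 1)), ee q (d + j) ≠ pg (q ^ 2) k := by
  obtain ⟨j, rfl⟩ : ∃ j, k = j + 1 := ⟨k - 1, by omega⟩
  rw [Nat.add_sub_cancel, pg, Finset.prod_range_succ', mul_comm _ ((q ^ 2) ^ (0 + 1) - 1), zero_add, pow_one]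
  have h4 : 4 ≤ q ^ 2 := Nat.pow_le_pow_left hq 2
  intro h
  have h' := Nat.eq_of_mul_eq_mul_left (by omega) h
  have hh : ∀ i : ℕ, (q ^ 2) ^ (i + 1 + 1) - 1 = q ^ (2 * i + 4) - 1 := fun i => by
    rw [← pow_mul]; ring_nf
  simp only [hh] at h'
  have hpairs : ∀ j : ℕ, ∏ i ∈ Finset.range (2 * j), ee q (d + i) =
      ∏ i ∈ Finset.range j, ee q (d + 2 * i) * ee q (d + (2 * i + 1)) := by
    intro j
    induction j with
    | zero => simp
    | succ j ih =>
      rw [show 2 * (j + 1) = 2 * j + 1 + 1 by ring, Finset.prod_range_succ, Finset.prod_range_succ,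
        Finset.prod_range_succ (n := j), ih, mul_assoc]
  rw [hpairs] at h'
  rcases Nat.lt_or_ge j 2 with hj | hj
  · obtain rfl : j = 1 := by omega
    simp only [Finset.prod_range_one] at h'
    rcases Nat.eq_zero_or_pos d with rfl | hd
    · simp only [mul_zero, zero_add, ee, if_pos (show Even 0 by decide), if_neg (show ¬ Even 1 by decide), pow_one, Nat.reduceAdd] at h'
      have e : q ^ 4 - 1 = (q ^ 2 + 1) * (q ^ 2 - 1) := by
        have : (q ^ 2 + 1) * (q ^ 2 - 1) + (q ^ 2 + 1) = q ^ 4 + q ^ 2 := by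
          rw [← Nat.mul_add_one, show q ^ 2 - 1 + 1 = q ^ 2 by omega]; ring
        omega
      rw [e] at h'
      have := Nat.eq_of_mul_eq_mul_right (by omega) h'
      have : q < q ^ 2 := by rw [pow_two]; exact lt_mul_self (by omega)
      omega
    · have h1 : ee q 1 ≤ ee q (d + 2 * 0) := ee_mono hq (by omega)
      have h2 : ee q 2 ≤ ee q (d + (2 * 0 + 1)) := ee_mono hq (by omega)
      have h3 := Nat.mul_le_mul h1 h2
      rw [h'] at h3
      have hlt : q ^ 4 - 1 < ee q 1 * ee q 2 := by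
        rw [ee, ee, if_neg (show ¬ Even 1 by decide), if_pos (show Even 2 by decide)]
        have h3' : q ^ 2 * 2 ≤ q ^ 3 := by rw [pow_succ q 2]; exact Nat.mul_le_mul_left _ hq
        have e : q ^ 4 - 1 = (q ^ (1 + 1) - 1) * (q ^ 2 + 1) := by
          obtain ⟨A, hA⟩ : ∃ A, q ^ 2 = A + 1 := ⟨q ^ 2 - 1, by omega⟩
          rw [show q ^ 4 = q ^ 2 * q ^ 2 by ring, show q ^ (1 + 1) = q ^ 2 from rfl, hA, Nat.add_sub_cancel]
          have : (A + 1) * (A + 1) = A * (A + 1 + 1) + 1 := by ring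
          omega
        rw [e]
        exact Nat.mul_lt_mul_of_pos_left (by norm_num; omega) (by norm_num; omega)
      rw [show 2 * 0 + 4 = 4 from rfl] at h3
      omega
  · have h1 : ∏ i ∈ Finset.range j, ee q (2 * i) * ee q (2 * i + 1) ≤
        ∏ i ∈ Finset.range j, ee q (d + 2 * i) * ee q (d + (2 * i + 1)) :=
      Finset.prod_le_prod' fun i _ => Nat.mul_le_mul (ee_mono hq (by omega)) (ee_mono hq (by omega))
    have := base_bound hq j hj
    omega

theorem card_tsub_ne {F : Type*} [Field F] [Fintype F] {V : Type*} [AddCommGroup V] [Module F V]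
    [FiniteDimensional F V] {σ : F →+* F} {q : ℕ} (hF : Fintype.card F = q ^ 2) (hσ : ∀ x, σ x = x ^ q)
    {B : V →ₛₗ[σ] V →ₗ[F] F} (h : IsHermitian B) (hN : B.SeparatingRight) {k : ℕ} (hk : 2 ≤ k)
    (hkn : 2 * k ≤ finrank F V) : Nat.card (TSub B k) ≠ Nat.card (TSub B 1) := by
  intro heq
  have hq := two_le_of_card_sq hF
  obtain ⟨d, hd⟩ : ∃ d, finrank F V = 2 * k + d := ⟨finrank F V - 2 * k, by omega⟩
  have hd1 : finrank F V = 2 * 1 + (2 * (k - 1) + d) := by omega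
  have e1 := card_isom_tsub hF hσ h hN hd1
  have ek := card_isom_tsub hF hσ h hN hd
  rw [heq, e1] at ek
  have hord : ∀ m, ∃ s, hermOrder σ m = q ^ s * pe q m := fun m => by
    refine ⟨∑ i ∈ Finset.range m, i, ?_⟩
    rw [hermOrder, pe, ← Finset.prod_pow_eq_pow_sum, ← Finset.prod_mul_distrib]
    exact Finset.prod_congr rfl fun i _ => lengthCount_one hF hσ h.conj i
  obtain ⟨s1, hs1⟩ := gl_prod q 1 hq
  obtain ⟨s2, hs2⟩ := gl_prod q k hq
  obtain ⟨t1, ht1⟩ := hord (2 * (k - 1) + d)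
  obtain ⟨t2, ht2⟩ := hord d
  have hne : Nat.card (TSub B 1) ≠ 0 := by
    intro h0
    rw [h0, zero_mul] at e1
    haveI : Finite V := Module.finite_of_finite F
    haveI : Finite (isomGroup B) := Finite.of_injective (fun g : isomGroup B => (g.1 : V → V))
      fun a b hab => Subtype.ext (LinearEquiv.ext (congrFun hab))
    exact Nat.card_pos.ne' e1
  have hcancel := Nat.eq_of_mul_eq_mul_left (Nat.pos_of_ne_zero hne) ek
  rw [hs1, hs2, ht1, ht2] at hcancel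
  have e : pg (q ^ 2) 1 * pe q (2 * (k - 1) + d) = pg (q ^ 2) k * pe q d := by
    refine eq_of_pow_mul hq (a := 1 * (1 + 2 * (2 * (k - 1) + d)) + s1 + t1) (b := k * (k + 2 * d) + s2 + t2)
      ((coprime_pg hq _).mul_right (coprime_pe hq _)) ((coprime_pg hq _).mul_right (coprime_pe hq _)) ?_
    rw [pow_add, pow_add, pow_add, pow_add]
    linear_combination hcancel
  rw [add_comm, pe, Finset.prod_range_add, mul_comm (∏ i ∈ Finset.range d, ee q i), ← mul_assoc] at e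
  rw [show pe q d = ∏ i ∈ Finset.range d, ee q i from rfl] at e
  have hpos : 0 < ∏ i ∈ Finset.range d, ee q i := Finset.prod_pos fun i _ => ee_pos hq i
  have := Nat.eq_of_mul_eq_mul_right hpos e
  rw [show pg (q ^ 2) 1 = q ^ 2 - 1 by simp [pg]] at this
  exact prod_ne (d := d) hq hk this

end CfsgLib.KnownC.AutPSU
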