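import Cfsg.Agent.Lib.KnownC.AutPSU.Outer
import Cfsg.Agent.Lib.KnownC.GUConj
import Cfsg.Agent.Lib.KnownC.AutPSL.FieldClass
import Cfsg.Agent.Lib.KnownC.AutPSL.SplitGen

/-!
# Field automorphisms of odd order of `PSU_n(q)`
-/

set_option autoImplicit false
set_option linter.unusedSectionVars false

namespace CfsgLib.KnownC.AutPSU

open Matrix CfsgLib.Classical CfsgLib.KnownC.GUConj

variable {F : Type*} [Field F] [Fintype F] {n q : ℕ} [hF : Fact (Fintype.card F = q ^ 2)]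

local notation "GUn" => Cfsg.GU n F q
local notation "PSUn" => Cfsg.PSU n F q

theorem umat_one : umat (1 : GUn) = 1 := rfl

theorem nrm_ne_zero (σ : F ≃+* F) {x : F} (hx : x ≠ 0) : ∀ k, AutPSL.nrm σ k x ≠ 0
  | 0 => by simp [AutPSL.nrm]
  | k + 1 => by simp [AutPSL.nrm, hx, nrm_ne_zero σ hx k]

theorem nrm_pow (σ : F ≃+* F) (x : F) (j : ℕ) : ∀ k, AutPSL.nrm σ k (x ^ j) = AutPSL.nrm σ k x ^ j
  | 0 => by simp [AutPSL.nrm]
  | k + 1 => by simp [AutPSL.nrm, nrm_pow σ x j k, mul_pow, map_pow]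

theorem nrm_of_fixed (σ : F ≃+* F) {x : F} (hx : σ x = x) : ∀ k, AutPSL.nrm σ k x = x ^ k
  | 0 => by simp [AutPSL.nrm]
  | k + 1 => by simp [AutPSL.nrm, nrm_of_fixed σ hx k, map_pow, hx, pow_succ']

theorem nOne_pow_q {u : Fˣ} (h : u ∈ NOne F q) : (u : F) ^ q = ((u⁻¹ : Fˣ) : F) := by
  rw [Units.val_inv_eq_inv_val, eq_inv_of_mul_eq_one_right (nOne_mul h)]

/-- The norm in the elements of norm one, for automorphisms of odd order. -/
theorem exists_nrm_nOne (σ : F ≃+* F) {r : ℕ} (hσ : orderOf σ = r) (hr : Odd r) (c : NOne F q)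
    (hc : σ ((c : Fˣ) : F) = ((c : Fˣ) : F)) :
    ∃ u : NOne F q, AutPSL.nrm σ r ((u : Fˣ) : F) = (((c : Fˣ)⁻¹ : Fˣ) : F) := by
  obtain ⟨k, hk⟩ := hr
  set x : F := (((c : Fˣ)⁻¹ : Fˣ) : F) with hx
  have hxfix : σ x = x := by rw [hx, Units.val_inv_eq_inv_val, map_inv₀, hc]
  have hx0 : x ≠ 0 := Units.ne_zero _
  obtain ⟨u, hu⟩ := AutPSL.exists_nrm σ hσ (by omega) x hxfix
  have hu0 : u ≠ 0 := fun h0 => hx0 (by rw [← hu, h0, hk]; simp [AutPSL.nrm])
  have hxq : x ^ q = x⁻¹ := by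
    rw [hx, nOne_pow_q (inv_mem c.2), inv_inv, Units.val_inv_eq_inv_val, inv_inv]
  set v : F := u ^ q / u with hv
  have hv0 : v ≠ 0 := div_ne_zero (pow_ne_zero _ hu0) hu0
  have huq : u ^ (q * q) = u := by rw [← pow_two, ← hF.out, FiniteField.pow_card]
  have hvn : v ^ (q + 1) = 1 := by
    rw [hv, pow_succ', div_pow, ← pow_mul, huq]
    field_simp
  have hvnrm : AutPSL.nrm σ r v = x⁻¹ * x⁻¹ := by
    have h := AutPSL.nrm_mul σ r v u
    rw [hv, div_mul_cancel₀ _ hu0, nrm_pow, hu, hxq] at h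
    rw [← hv] at h
    rw [← div_eq_mul_inv, eq_div_iff hx0, ← h]
  refine ⟨⟨Units.mk0 (x * v ^ k) (mul_ne_zero hx0 (pow_ne_zero _ hv0)), Units.ext ?_⟩, ?_⟩
  · show (x * v ^ k) ^ (q + 1) = 1
    rw [mul_pow, ← pow_mul v, mul_comm k, pow_mul, hvn, one_pow, mul_one, pow_succ', hxq, mul_inv_cancel₀ hx0]
  · show AutPSL.nrm σ r (x * v ^ k) = x
    rw [AutPSL.nrm_mul, nrm_of_fixed σ hxfix, nrm_pow, hvnrm, mul_pow, ← mul_assoc, mul_assoc, ← pow_add,
      inv_pow, ← two_mul, ← div_eq_mul_inv, div_eq_iff (pow_ne_zero _ hx0), ← pow_succ', hk]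

theorem gcd_index_sup {G : Type*} [CommGroup G] [Finite G] [IsCyclic G] (k : ℕ) (K : Subgroup G) :
    ((powMonoidHom k : G →* G).range ⊔ K).index = Nat.gcd k K.index := by
  have h : ((powMonoidHom (α := G ⧸ K) k).range).comap (QuotientGroup.mk' K) =
      (powMonoidHom k : G →* G).range ⊔ K := by
    ext x
    rw [Subgroup.mem_comap]
    constructor
    · rintro ⟨y, hy⟩
      induction y using QuotientGroup.induction_on with
      | _ y =>
        have hy' : (QuotientGroup.mk (y ^ k) : G ⧸ K) = QuotientGroup.mk x := hy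
        rw [QuotientGroup.eq] at hy'
        exact Subgroup.mem_sup.2 ⟨_, ⟨y, rfl⟩, _, hy', by simp⟩
    · intro hx
      obtain ⟨_, ⟨y, rfl⟩, z, hz, rfl⟩ := Subgroup.mem_sup.1 hx
      refine ⟨QuotientGroup.mk y, ?_⟩
      show (QuotientGroup.mk (y ^ k) : G ⧸ K) = QuotientGroup.mk _
      rw [QuotientGroup.eq]
      simpa using hz
  have : IsCyclic (G ⧸ K) := isCyclic_of_surjective _ (QuotientGroup.mk'_surjective K)
  rw [← h, Subgroup.index_comap_of_surjective _ (QuotientGroup.mk'_surjective K), IsCyclic.index_powMonoidHom_range,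
    ← Subgroup.index_eq_card, Nat.gcd_comm]

/-- Twisted powers. -/
def semiPow (A : GUn) (σ : F ≃+* F) : ℕ → GUn
  | 0 => 1
  | k + 1 => A * gMap σ (semiPow A σ k)

theorem semiAut_pow (A : GUn) (σ : F ≃+* F) (k : ℕ) : semiAut A σ ^ k = semiAut (semiPow A σ k) (σ ^ k) := by
  induction k with
  | zero => rw [pow_zero, pow_zero]; exact semiAut_one.symm
  | succ k ih => rw [pow_succ', ih, semiAut_mul, pow_succ']; rfl

theorem semiPow_succ' (A : GUn) (σ : F ≃+* F) (k : ℕ) :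
    semiPow A σ (k + 1) = semiPow A σ k * gMap (σ ^ k) A := by
  induction k with
  | zero =>
    show A * gMap σ 1 = 1 * gMap (σ ^ 0) A
    rw [map_one, mul_one, one_mul, pow_zero, gMap_one]
  | succ k ih =>
    show A * gMap σ (semiPow A σ (k + 1)) = _
    conv_lhs => rw [ih]
    rw [map_mul, ← mul_assoc, gMap_gMap, ← pow_succ']
    rfl

theorem semiPow_one (σ : F ≃+* F) (k : ℕ) : semiPow (1 : GUn) σ k = 1 := by
  induction k with
  | zero => rfl
  | succ k ih => rw [semiPow, ih, map_one, one_mul]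

theorem semiPow_val (A : GUn) (σ : F ≃+* F) (k : ℕ) :
    (semiPow A σ k : GL (Fin n) F) = AutPSL.semiPow (A : GL (Fin n) F) σ k := by
  induction k with
  | zero => rfl
  | succ k ih =>
    show (A : GL (Fin n) F) * (gMap σ (semiPow A σ k) : GL (Fin n) F) = _
    rw [show (gMap σ (semiPow A σ k) : GL (Fin n) F) =
      Matrix.GeneralLinearGroup.map σ.toRingHom (semiPow A σ k : GL (Fin n) F) from rfl, ih]
    rfl

theorem sclU_val (u : NOne F q) : ((sclU u : GUn) : GL (Fin n) F) = AutPSL.scl (u : Fˣ) := by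
  refine Units.ext ?_
  show umat (sclU u : GUn) = _
  rw [umat_sclU, AutPSL.scl_coe]

theorem orderOf_std (hn : 3 ≤ n) (hs : ¬ (n = 3 ∧ q = 2)) (σ : F ≃+* F) :
    orderOf (semiAut (1 : GUn) σ) = orderOf σ :=
  orderOf_eq_orderOf_iff.2 fun k => by
    rw [semiAut_pow, semiPow_one]
    exact ⟨fun h => (semi_eq_one hn hs h).1, fun h => by rw [h, semiAut_one]⟩

/-- The field automorphism of an element of prime order of the coset of a field automorphism. -/
theorem semiPow_scalar (hn : 3 ≤ n) (hs : ¬ (n = 3 ∧ q = 2)) (A : GUn) (σ : F ≃+* F) {r : ℕ} (hσ : orderOf σ = r)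
    (h : semiAut A σ ^ r = 1) :
    ∃ c : NOne F q, semiPow A σ r = sclU c ∧ σ ((c : Fˣ) : F) = ((c : Fˣ) : F) := by
  have hr1 : σ ^ r = 1 := hσ ▸ pow_orderOf_eq_one σ
  rw [semiAut_pow, hr1] at h
  obtain ⟨-, c, hc⟩ := (semi_eq_iff hn hs).1 (h.trans semiAut_one.symm)
  rw [mul_one] at hc
  refine ⟨c, hc, ?_⟩
  have h1 := semiPow_succ' A σ r
  rw [semiPow, hc, gMap_sclU, hr1, gMap_one, ← sclU_comm] at h1
  exact congrArg (fun u : NOne F q => ((u : Fˣ) : F)) (sclU_injective (by omega) (mul_right_cancel h1))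

variable {F₀ : Type*} [Field F₀] [Fintype F₀] {q₀ : ℕ} [hF₀ : Fact (Fintype.card F₀ = q₀ ^ 2)]
  (ι : F₀ →+* F) [hι : Fact (∀ x, ι x ^ q = ι (x ^ q₀))]

/-- Invertible matrices fixed by `σ` are defined over the fixed field. -/
theorem exists_gl_pre (σ : F ≃+* F) (hfix : ∀ x, σ x = x ↔ x ∈ Set.range ι) (G : GL (Fin n) F)
    (hG : Matrix.GeneralLinearGroup.map σ.toRingHom G = G) :
    ∃ G₀ : GL (Fin n) F₀, Matrix.GeneralLinearGroup.map ι G₀ = G := by
  have hpre : ∀ M : GL (Fin n) F, Matrix.GeneralLinearGroup.map σ.toRingHom M = M →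
      ∃ M₀ : Matrix (Fin n) (Fin n) F₀, M₀.map ι = M.val := fun M hM => by
    have h' : M.val.map σ = M.val := congrArg (fun X : GL (Fin n) F => X.val) hM
    have hij : ∀ i j, M.val i j ∈ Set.range ι := fun i j => (hfix _).1 (congrFun (congrFun h' i) j)
    choose M₀ hM₀ using hij
    exact ⟨Matrix.of M₀, Matrix.ext hM₀⟩
  obtain ⟨M, hM⟩ := hpre G hG
  obtain ⟨N, hN⟩ := hpre G⁻¹ (by rw [map_inv, hG])
  have hinj : Function.Injective (fun M : Matrix (Fin n) (Fin n) F₀ => M.map ι) := Matrix.map_injective ι.injective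
  refine ⟨⟨M, N, hinj ?_, hinj ?_⟩, Units.ext hM⟩
  · simp only [Matrix.map_mul, hM, hN, Matrix.map_one _ (map_zero ι) (map_one ι)]; exact G.mul_inv
  · simp only [Matrix.map_mul, hM, hN, Matrix.map_one _ (map_zero ι) (map_one ι)]; exact G.inv_mul

include hF₀ hι

/-- Hilbert 90 in the elements of norm one. -/
theorem hilbert_nOne (σ : F ≃+* F) (hfix : ∀ x, σ x = x ↔ x ∈ Set.range ι) {r : ℕ} (hσ : orderOf σ = r) (hr : 1 ≤ r)
    (c : NOne F q) (hc : AutPSL.nrm σ r ((c : Fˣ) : F) = 1) :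
    ∃ h : NOne F q, ((c : Fˣ) : F) * σ ((h : Fˣ) : F) = ((h : Fˣ) : F) := by
  obtain ⟨h, h0, hh⟩ := AutPSL.hilbert90 σ hσ hr _ hc
  have hN : σ (h * h ^ q) = h * h ^ q := by
    conv_rhs => rw [← hh]
    rw [map_mul, map_pow, mul_pow, mul_mul_mul_comm, nOne_mul c.2, one_mul]
  obtain ⟨N0, hN0⟩ := (hfix _).1 hN
  obtain ⟨θ, hθ, hθc⟩ := exists_frob hF₀.out
  have hN0fix : θ N0 = N0 := by
    rw [hθ]
    refine ι.injective ?_
    rw [← hι.out, hN0, mul_pow, ← pow_mul, ← pow_two, ← hF.out, FiniteField.pow_card, mul_comm]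
  obtain ⟨κ, hκ⟩ := hθc.exists_norm_eq hN0fix
  have hκι : ι κ * ι κ ^ q = h * h ^ q := by rw [hι.out, ← map_mul, ← hθ, hκ, hN0]
  have hκ0 : ι κ ≠ 0 := fun e => by
    rw [e, zero_mul, eq_comm, mul_eq_zero] at hκι
    exact hκι.elim h0 (fun e' => h0 (eq_zero_of_pow_eq_zero e'))
  refine ⟨⟨Units.mk0 (h / ι κ) (div_ne_zero h0 hκ0), Units.ext ?_⟩, ?_⟩
  · show (h / ι κ) ^ (q + 1) = 1
    rw [div_pow, pow_succ', pow_succ', hκι, div_self (mul_ne_zero h0 (pow_ne_zero _ h0))]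
  · show _ * σ (h / ι κ) = h / ι κ
    rw [map_div₀, (hfix (ι κ)).2 ⟨κ, rfl⟩, mul_div, hh]

/-- Base change of a unitary matrix. -/
noncomputable def baseU : Cfsg.GU n F₀ q₀ →* GUn :=
  MonoidHom.codRestrict ((Matrix.GeneralLinearGroup.map ι).comp (Cfsg.GU n F₀ q₀).subtype) _ fun B => by
    rw [GUFieldCentraliser.GU_mem_iff hF.out]
    intro a b
    have h := congrArg ι ((GUFieldCentraliser.GU_mem_iff hF₀.out).1 B.2 a b)
    rw [map_sum] at h
    refine (Finset.sum_congr rfl fun i _ => ?_).trans (h.trans ?_)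
    · rw [map_mul, ← hι.out]; rfl
    · split_ifs <;> simp

theorem umat_baseU (B : Cfsg.GU n F₀ q₀) : umat (baseU (q := q) ι B : GUn) = (umat B).map ι := rfl

theorem gMap_baseU (σ : F ≃+* F) (hfix : ∀ x, σ x = x ↔ x ∈ Set.range ι) (B : Cfsg.GU n F₀ q₀) :
    gMap σ (baseU (q := q) ι B : GUn) = baseU ι B :=
  umat_ext (Matrix.ext fun _ _ => (hfix _).2 ⟨_, rfl⟩)

/-- Unitary matrices fixed by `σ` are defined over the fixed field. -/
theorem exists_gu_pre (σ : F ≃+* F) (hfix : ∀ x, σ x = x ↔ x ∈ Set.range ι) (A : GUn) (hA : gMap σ A = A) :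
    ∃ B : Cfsg.GU n F₀ q₀, baseU ι B = A := by
  obtain ⟨G₀, hG₀⟩ := exists_gl_pre ι σ hfix A.1 (congrArg Subtype.val hA)
  refine ⟨⟨G₀, ?_⟩, Subtype.ext hG₀⟩
  rw [GUFieldCentraliser.GU_mem_iff hF₀.out]
  intro a b
  apply ι.injective
  rw [map_sum]
  refine (Finset.sum_congr rfl fun i _ => ?_).trans (((GUFieldCentraliser.GU_mem_iff hF.out).1 A.2 a b).trans ?_)
  · rw [map_mul, ← hι.out]
    show (G₀.val.map ι) i a * (G₀.val.map ι) i b ^ q = _
    rw [← hG₀]; rfl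
  · split_ifs <;> simp

/-- In the coset of a field automorphism of odd order `r`, the elements of order `r` are conjugate. -/
theorem field_conj (hn : 3 ≤ n) (hs : ¬ (n = 3 ∧ q = 2)) (A : GUn) (σ : F ≃+* F)
    (hfix : ∀ x, σ x = x ↔ x ∈ Set.range ι) {r : ℕ} (hr : Odd r) (hσ : orderOf σ = r) (h : semiAut A σ ^ r = 1) :
    ∃ g : GUn, semiAut A σ = semiAut g 1 * semiAut 1 σ * (semiAut g 1)⁻¹ := by
  obtain ⟨c, hc, hcfix⟩ := semiPow_scalar hn hs A σ hσ h
  obtain ⟨u, hu⟩ := exists_nrm_nOne σ hσ hr c hcfix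
  rw [← semiAut_sclU_mul u A σ]
  set A' := sclU u * A
  have hA' : AutPSL.semiPow (A' : GL (Fin n) F) σ r = 1 := by
    show AutPSL.semiPow ((sclU u : GUn).1 * A.1) σ r = 1
    rw [sclU_val, AutPSL.semiPow_scl_mul (u : Fˣ) _ σ r ((c : Fˣ)⁻¹) hu.symm, ← semiPow_val, hc, sclU_val,
      ← AutPSL.scl_mul, inv_mul_cancel, AutPSL.scl_one]
  obtain ⟨h0, hh⟩ := AutPSL.exists_descent (A' : GL (Fin n) F) σ hσ hr.pos hA'
  obtain ⟨θ, hθ, hθc⟩ := exists_frob hF.out
  obtain ⟨θ₀, hθ₀, hθ₀c⟩ := exists_frob hF₀.out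
  -- the Hermitian matrix of the basis of fixed vectors
  have hmap : ∀ G : GL (Fin n) F, Matrix.GeneralLinearGroup.map σ.toRingHom (adjGL θ G) =
      adjGL θ (Matrix.GeneralLinearGroup.map σ.toRingHom G) := fun G => Units.ext (Matrix.ext fun i j => by
    show σ (θ (G.val j i)) = θ (σ (G.val j i))
    rw [hθ, hθ, map_pow])
  have hX : Matrix.GeneralLinearGroup.map σ.toRingHom (adjGL θ h0 * h0) = adjGL θ h0 * h0 := by
    rw [map_mul, hmap]
    conv_rhs => rw [← hh, adjGL_mul, mul_assoc, ← mul_assoc (adjGL θ (A' : GL (Fin n) F)),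
      (mem_GU_iff_adj hF.out hθ hθc).1 A'.2, one_mul]
  obtain ⟨H₀, hH₀⟩ := exists_gl_pre ι σ hfix _ hX
  have hbase : ∀ G : GL (Fin n) F₀, Matrix.GeneralLinearGroup.map ι (adjGL θ₀ G) =
      adjGL θ (Matrix.GeneralLinearGroup.map ι G) := fun G => Units.ext (Matrix.ext fun i j => by
    show ι (θ₀ (G.val j i)) = θ (ι (G.val j i))
    rw [hθ₀, hθ, hι.out])
  have hinjGL : Function.Injective (Matrix.GeneralLinearGroup.map (n := Fin n) ι) := fun G G' e =>
    Units.ext (Matrix.map_injective ι.injective (congrArg Units.val e))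
  have hherm : adjGL θ₀ H₀ = H₀ := hinjGL (by rw [hbase, hH₀, adjGL_mul, adjGL_adjGL hθc])
  obtain ⟨v, hv, -⟩ := GUConj.exists_sqrt hθ₀c H₀ hherm
  set g : GL (Fin n) F := h0 * Matrix.GeneralLinearGroup.map ι v⁻¹ with hg
  have hgU : g ∈ GUn := by
    rw [mem_GU_iff_adj hF.out hθ hθc, hg, adjGL_mul, mul_assoc, ← mul_assoc (adjGL θ h0), ← hH₀, ← hbase,
      ← map_mul, ← map_mul, ← hv]
    rw [show adjGL θ₀ v⁻¹ * (adjGL θ₀ v * v * v⁻¹) = 1 by rw [mul_inv_cancel_right, adjGL_inv, inv_mul_cancel],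
      map_one]
  refine ⟨⟨g, hgU⟩, ?_⟩
  rw [eq_mul_inv_iff_mul_eq, semiAut_mul, semiAut_mul, map_one, mul_one, one_mul, mul_one]
  congr 1
  refine Subtype.ext ?_
  show (A' : GL (Fin n) F) * Matrix.GeneralLinearGroup.map σ.toRingHom g = g
  rw [hg, map_mul, ← mul_assoc, hh]
  congr 1
  exact Units.ext (Matrix.ext fun i j => (hfix _).2 ⟨_, rfl⟩)

/-- Commuting with the standard field automorphism: defined over the fixed field up to a scalar. -/
theorem commute_iff (hn : 3 ≤ n) (hs : ¬ (n = 3 ∧ q = 2)) (σ : F ≃+* F) (hfix : ∀ x, σ x = x ↔ x ∈ Set.range ι)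
    {r : ℕ} (hσ : orderOf σ = r) (hr : 1 ≤ r) (A : GUn) :
    semiAut A 1 * semiAut 1 σ = semiAut 1 σ * semiAut A 1 ↔
      ∃ (B : Cfsg.GU n F₀ q₀) (u : NOne F q), A = sclU u * baseU ι B := by
  rw [semiAut_mul, semiAut_mul, map_one, mul_one, one_mul, mul_one, one_mul, semi_eq_iff hn hs]
  constructor
  · rintro ⟨-, c, hc⟩
    have hA : ∀ k, ∃ u : NOne F q, ((u : Fˣ) : F) = AutPSL.nrm σ k ((c : Fˣ) : F) ∧
        A = sclU u * gMap (σ ^ k) A := by
      intro k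
      induction k with
      | zero => exact ⟨1, rfl, by rw [map_one, one_mul, pow_zero, gMap_one]⟩
      | succ k ih =>
        obtain ⟨u, hu, hA⟩ := ih
        have h1 := congrArg (gMap σ) hA
        rw [map_mul, gMap_sclU, gMap_gMap, ← pow_succ'] at h1
        have h2 : A = sclU c * gMap σ A := hc
        rw [h1, ← mul_assoc, ← map_mul] at h2
        refine ⟨_, ?_, h2⟩
        rw [AutPSL.nrm, ← hu]
        rfl
    obtain ⟨u, hu, hAu⟩ := hA r
    rw [show σ ^ r = 1 from hσ ▸ pow_orderOf_eq_one σ, gMap_one] at hAu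
    have hu1 : u = 1 := sclU_injective (by omega : 1 ≤ n) ((mul_eq_right.1 hAu.symm).trans (map_one sclU).symm)
    obtain ⟨h, hh⟩ := hilbert_nOne (q₀ := q₀) ι σ hfix hσ hr c (by rw [← hu, hu1]; rfl)
    have hfix' : gMap σ (sclU h⁻¹ * A) = sclU h⁻¹ * A := by
      rw [map_mul, gMap_sclU]
      conv_rhs => rw [hc, ← mul_assoc, ← map_mul]
      congr 2
      refine Subtype.ext (Units.ext ?_)
      show σ (((h : Fˣ)⁻¹ : Fˣ) : F) = (((h : Fˣ)⁻¹ : Fˣ) : F) * ((c : Fˣ) : F)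
      have hne : σ ((h : Fˣ) : F) ≠ 0 := (map_ne_zero σ).2 (Units.ne_zero _)
      rw [Units.val_inv_eq_inv_val, map_inv₀]
      conv_rhs => rw [← hh, mul_inv, mul_comm, ← mul_assoc, mul_inv_cancel₀ (Units.ne_zero _), one_mul]
    obtain ⟨B, hB⟩ := exists_gu_pre (q₀ := q₀) ι σ hfix _ hfix'
    exact ⟨B, h, by rw [hB, ← mul_assoc, ← map_mul, mul_inv_cancel, map_one, one_mul]⟩
  · rintro ⟨B, u, rfl⟩
    refine ⟨rfl, u * ⟨Units.map σ.toRingHom.toMonoidHom u, Units.ext (by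
      show σ ((u : Fˣ) : F) ^ (q + 1) = 1
      rw [← map_pow, ← Units.val_pow_eq_pow_val, mem_nOne.1 u.2]
      simp)⟩⁻¹, ?_⟩
    rw [map_mul (gMap σ), gMap_sclU, gMap_baseU ι σ hfix, ← mul_assoc, ← map_mul, inv_mul_cancel_right]

theorem baseU_eq_one_iff (hn : 3 ≤ n) (hs : ¬ (n = 3 ∧ q = 2)) (B : Cfsg.GU n F₀ q₀) :
    semiAut (baseU (q := q) ι B : GUn) 1 = 1 ↔ (B : GL (Fin n) F₀) ∈ Cfsg.Geo.scalars (Fin n) F₀ := by
  rw [Cfsg.Geo.mem_scalars_iff]
  constructor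
  · intro h
    obtain ⟨-, c, hc⟩ := semi_eq_one hn hs h
    rw [umat_baseU] at hc
    have h0 := congrFun (congrFun hc ⟨0, by omega⟩) ⟨0, by omega⟩
    simp only [Matrix.map_apply, Matrix.smul_apply, Matrix.one_apply_eq, smul_eq_mul, mul_one] at h0
    haveI : Nonempty (Fin n) := ⟨⟨0, by omega⟩⟩
    have hne : umat B ⟨0, by omega⟩ ⟨0, by omega⟩ ≠ 0 := fun h1 => umat_det_ne (baseU (q := q) ι B : GUn) (by
      rw [umat_baseU, hc, ← h0, h1, map_zero, zero_smul, Matrix.det_zero])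
    refine ⟨Units.mk0 _ hne, Matrix.map_injective ι.injective ?_⟩
    show (umat B).map ι = _
    rw [hc, ← h0]
    ext i j
    rcases eq_or_ne i j with rfl | hij <;> simp [*]
  · rintro ⟨c, hc⟩
    obtain ⟨u, hu⟩ := exists_sclU (A := (baseU (q := q) ι B : GUn)) (c := ι c) (by omega) (by
      rw [umat_baseU, show umat B = _ from hc]
      ext i j
      rcases eq_or_ne i j with rfl | hij <;> simp [*])
    rw [hu, semiAut_sclU]

theorem centralizer_std (hn : 3 ≤ n) (hs : ¬ (n = 3 ∧ q = 2)) (σ : F ≃+* F)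
    (hfix : ∀ x, σ x = x ↔ x ∈ Set.range ι) {r : ℕ} (hσ : orderOf σ = r) (hr : 1 ≤ r) :
    Nonempty (↥(Cfsg.inndiagPSU n F q ⊓ Subgroup.centralizer {semiAut (1 : GUn) σ}) ≃* Cfsg.PGU n F₀ q₀) := by
  let Φ : Cfsg.GU n F₀ q₀ →* ↥(Cfsg.inndiagPSU n F q ⊓ Subgroup.centralizer {semiAut (1 : GUn) σ}) :=
    MonoidHom.codRestrict (MonoidHom.mk' (fun B => semiAut (baseU (q := q) ι B : GUn) 1) (fun B C => by
      rw [semiAut_mul, gMap_one, one_mul, map_mul])) _ (fun B => ⟨(inndiag_iff_mem _).2 ⟨_, rfl⟩,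
        Subgroup.mem_centralizer_singleton_iff.2
          ((commute_iff (q₀ := q₀) ι hn hs σ hfix hσ hr _).2 ⟨B, 1, by rw [map_one, one_mul]⟩)⟩)
  have hΦ : Function.Surjective Φ := by
    rintro ⟨y, hy1, hy2⟩
    obtain ⟨A, rfl⟩ := (inndiag_iff_mem y).1 hy1
    obtain ⟨B, u, rfl⟩ := (commute_iff (q₀ := q₀) ι hn hs σ hfix hσ hr A).1 (Subgroup.mem_centralizer_singleton_iff.1 hy2)
    exact ⟨B, Subtype.ext (semiAut_sclU_mul u _ _).symm⟩
  have hker : Φ.ker = (Cfsg.Geo.scalars (Fin n) F₀).subgroupOf (Cfsg.GU n F₀ q₀) := by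
    ext B
    rw [MonoidHom.mem_ker, Subtype.ext_iff, Subgroup.mem_subgroupOf, ← baseU_eq_one_iff (q := q) ι hn hs B]
    exact Iff.rfl
  exact ⟨((QuotientGroup.quotientMulEquivOfEq hker.symm).trans (QuotientGroup.quotientKerEquivOfSurjective Φ hΦ)).symm⟩

/-- Base change of norm-one scalars. -/
noncomputable def baseN : NOne F₀ q₀ →* NOne F q :=
  MonoidHom.codRestrict ((Units.map ι.toMonoidHom).comp (NOne F₀ q₀).subtype) _ fun u => Units.ext (by
    show ι ((u : F₀ˣ) : F₀) ^ (q + 1) = 1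
    rw [pow_succ, hι.out, ← map_mul, mul_comm, nOne_mul u.2, map_one])

theorem detU_baseU (B : Cfsg.GU n F₀ q₀) : detU (baseU (q := q) ι B : GUn) = baseN ι (detU B) :=
  Subtype.ext (Units.ext (ι.map_det (umat B)).symm)

theorem baseN_injective : Function.Injective (baseN ι : NOne F₀ q₀ → NOne F q) := fun a b h =>
  Subtype.ext (Units.map_injective ι.injective (congrArg (fun u : NOne F q => (u : Fˣ)) h))

theorem split_std (hn : 3 ≤ n) (hs : ¬ (n = 3 ∧ q = 2)) (σ : F ≃+* F) (hfix : ∀ x, σ x = x ↔ x ∈ Set.range ι)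
    {r : ℕ} (hσ : orderOf σ = r) (hr : 1 ≤ r) :
    Cfsg.splitClassCount (Cfsg.inndiagPSU n F q) (Cfsg.Inn PSUn) (semiAut (1 : GUn) σ) =
      Nat.gcd n ((q + 1) / (q₀ + 1)) := by
  let π : GUn →* MulAut PSUn := MonoidHom.mk' (fun A => semiAut A 1) (fun A B => by
    rw [semiAut_mul, gMap_one, one_mul])
  set P := (powMonoidHom n : NOne F q →* NOne F q).range with hP
  let D : GUn →* NOne F q ⧸ P := (QuotientGroup.mk' P).comp detU
  have hrange : π.range = Cfsg.inndiagPSU n F q := by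
    ext β
    rw [inndiag_iff_mem]
    exact ⟨fun ⟨A, h⟩ => ⟨A, h.symm⟩, fun ⟨A, h⟩ => ⟨A, h.symm⟩⟩
  have hD : ∀ A, π A ∈ Cfsg.Inn PSUn ↔ D A = 1 := fun A =>
    (mem_inn_iff hn hs A).trans (QuotientGroup.eq_one_iff (N := P) (detU A)).symm
  have hDs : Function.Surjective D := (QuotientGroup.mk'_surjective P).comp (detU_surjective (by omega))
  have h5 := SplitGen.split_count (Q := NOne F q ⧸ P) π D
  rw [← hrange, h5 _ hDs hD (hrange ▸ inn_le_inndiag)]
  let K : Subgroup (NOne F q) := (baseN ι : NOne F₀ q₀ →* NOne F q).range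
  have hS : ((Subgroup.centralizer {semiAut (1 : GUn) σ}).comap π).map D = K.map (QuotientGroup.mk' P) := by
    refine le_antisymm ?_ ?_
    · rintro _ ⟨A, hA, rfl⟩
      obtain ⟨B, u, rfl⟩ := (commute_iff (q₀ := q₀) ι hn hs σ hfix hσ hr A).1 (Subgroup.mem_centralizer_singleton_iff.1 hA)
      refine ⟨baseN ι (detU B), ⟨_, rfl⟩, ?_⟩
      show (QuotientGroup.mk _ : NOne F q ⧸ P) = QuotientGroup.mk _
      rw [map_mul, detU_sclU, QuotientGroup.mk_mul,
        show (QuotientGroup.mk (u ^ n) : NOne F q ⧸ P) = 1 from (QuotientGroup.eq_one_iff _).2 ⟨u, rfl⟩, one_mul,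
        detU_baseU]
    · rintro _ ⟨_, ⟨k, rfl⟩, rfl⟩
      obtain ⟨B, rfl⟩ := detU_surjective (F := F₀) (n := n) (q := q₀) (by omega) k
      refine ⟨baseU ι B, Subgroup.mem_centralizer_singleton_iff.2
        ((commute_iff (q₀ := q₀) ι hn hs σ hfix hσ hr _).2 ⟨B, 1, by rw [map_one, one_mul]⟩), ?_⟩
      show (QuotientGroup.mk _ : NOne F q ⧸ P) = QuotientGroup.mk _
      rw [detU_baseU]
  rw [hS, Subgroup.index_map, QuotientGroup.ker_mk',
    MonoidHom.range_eq_top.2 (QuotientGroup.mk'_surjective P), Subgroup.index_top, mul_one, sup_comm, hP,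
    gcd_index_sup]
  congr 1
  have hK : Nat.card K = q₀ + 1 := by
    rw [← Nat.card_congr (MonoidHom.ofInjective (baseN_injective (q := q) (q₀ := q₀) ι)).toEquiv, card_nOne]
  have h1 := Subgroup.card_mul_index K
  rw [card_nOne, hK] at h1
  rw [← h1, Nat.mul_div_cancel_left _ (by omega)]

end CfsgLib.KnownC.AutPSU
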