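import Cfsg.Agent.Lib.KnownC.AutPSU.Field

/-!
# The class of a field automorphism of `PSU_n(q)`
-/

set_option autoImplicit false
set_option linter.unusedSectionVars false

namespace CfsgLib.KnownC.AutPSU

open Matrix CfsgLib.Classical

variable {F : Type*} [Field F] [Fintype F] {n q : ℕ} [hF : Fact (Fintype.card F = q ^ 2)]

local notation "GUn" => Cfsg.GU n F q
local notation "PSUn" => Cfsg.PSU n F q

theorem ringAut_comm (σ τ : F ≃+* F) : σ * τ = τ * σ := by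
  obtain ⟨p, hp⟩ := CharP.exists F
  obtain ⟨m, hp', hm⟩ := FiniteField.card F p
  haveI := Fact.mk hp'
  obtain ⟨e⟩ := AutPSL.ringAut_cyclic (F := F) hm
  exact e.injective (by rw [map_mul, map_mul, mul_comm])

theorem inndiag_normal (hn : 3 ≤ n) (hs : ¬ (n = 3 ∧ q = 2)) : (Cfsg.inndiagPSU n F q).Normal := by
  refine ⟨fun x hx α => ?_⟩
  obtain ⟨B, rfl⟩ := (inndiag_iff_mem x).1 hx
  obtain ⟨A, τ, rfl⟩ := exists_semi hn hs α
  rw [inndiag_iff_mem, semiAut_inv, semiAut_mul, semiAut_mul, mul_one, mul_inv_cancel]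
  exact ⟨_, rfl⟩

theorem inn_normal : (Cfsg.Inn PSUn).Normal := by
  refine ⟨fun x hx α => ?_⟩
  obtain ⟨k, rfl⟩ := hx
  refine ⟨α k, MulEquiv.ext fun y => ?_⟩
  simp [MulAut.conj_apply]

/-- A field automorphism is conjugate to a standard one under the inner-diagonal group. -/
theorem field_class (hn : 3 ≤ n) (hs : ¬ (n = 3 ∧ q = 2)) (x : MulAut PSUn) (hx : Cfsg.IsFieldAutClassPSU x) :
    ∃ (σ : F ≃+* F) (g : GUn), Odd (orderOf σ) ∧ orderOf x = orderOf σ ∧
      x = semiAut g 1 * semiAut 1 σ * (semiAut g 1)⁻¹ := by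
  obtain ⟨α, φ, σ, -, hodd, hφ, h⟩ := hx
  rw [(stdField_iff σ φ).1 hφ] at h
  obtain ⟨g, τ, hα⟩ := exists_semi hn hs α⁻¹
  have hx' : x = semiAut g τ * semiAut 1 σ * (semiAut g τ)⁻¹ := by
    rw [← hα, ← h]; group
  have hcomm : semiAut (1 : GUn) τ * semiAut 1 σ = semiAut 1 σ * semiAut 1 τ := by
    rw [semiAut_mul, semiAut_mul, map_one, map_one, ringAut_comm]
  refine ⟨σ, g, hodd, ?_, ?_⟩
  · rw [hx', ← orderOf_std hn hs σ]
    exact (MulAut.conj (semiAut g τ)).orderOf_eq _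
  · rw [hx', ← semiAut_refl_mul g τ, _root_.mul_inv_rev, mul_assoc (semiAut g 1) (semiAut 1 τ), hcomm]
    group

/-- The data of the fixed field of an automorphism of odd prime order. -/
theorem fixed_field_data {p f r : ℕ} [Fact p.Prime] (hq : q = p ^ f) (hr : r.Prime) (hodd : Odd r) (σ : F ≃+* F)
    (hσ : orderOf σ = r) :
    r ∣ f ∧ Nat.card (AutPSL.fixField σ) = (p ^ (f / r)) ^ 2 := by
  obtain ⟨h2, hcard⟩ := AutPSL.card_fixField (p := p) (f := 2 * f) (r := r)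
    (by rw [hF.out, hq, ← pow_mul, mul_comm]) σ hσ hr.pos
  have hrf : r ∣ f := by
    refine (Nat.Coprime.dvd_of_dvd_mul_left ?_ h2)
    exact Nat.coprime_two_right.2 hodd
  refine ⟨hrf, ?_⟩
  rw [hcard, ← pow_mul, Nat.mul_div_assoc 2 hrf, mul_comm]

/-- On the fixed field, the `q`-th power is the `q₀`-th power. -/
theorem pow_on_fixed {p f r : ℕ} (hq : q = p ^ f) (hr : Odd r) (hrf : r ∣ f) {F₀ : Type*} [Field F₀] [Fintype F₀]
    (hF₀ : Fintype.card F₀ = (p ^ (f / r)) ^ 2) (ι : F₀ →+* F) (x : F₀) : ι x ^ q = ι (x ^ p ^ (f / r)) := by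
  rw [← map_pow]
  congr 1
  obtain ⟨j, hj⟩ := hr
  have h : ∀ i : ℕ, x ^ ((p ^ (f / r)) ^ (2 * i)) = x := fun i => by
    induction i with
    | zero => simp
    | succ i ih => rw [mul_add, pow_add, pow_mul x, ih, mul_one, ← hF₀, FiniteField.pow_card]
  rw [hq, show p ^ f = (p ^ (f / r)) ^ r by rw [← pow_mul, Nat.div_mul_cancel hrf],
    show (p ^ (f / r)) ^ r = (p ^ (f / r)) ^ (2 * j) * p ^ (f / r) by rw [← pow_succ, ← hj], pow_mul, h]

/-- A field with as many elements as the fixed field is the fixed field. -/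
theorem exists_embedding {F₀ : Type*} [Field F₀] [Fintype F₀] (σ : F ≃+* F)
    (h : Fintype.card F₀ = Nat.card (AutPSL.fixField σ)) :
    ∃ ι : F₀ →+* F, ∀ x, σ x = x ↔ x ∈ Set.range ι := by
  letI := Fintype.ofFinite (AutPSL.fixField σ)
  have e : F₀ ≃+* AutPSL.fixField σ := FiniteField.ringEquivOfCardEq (by rw [h, Nat.card_eq_fintype_card])
  refine ⟨(AutPSL.fixField σ).subtype.comp e.toRingHom, fun x => ⟨fun hx => ⟨e.symm ⟨x, hx⟩, ?_⟩, ?_⟩⟩
  · show ((e (e.symm ⟨x, hx⟩) : AutPSL.fixField σ) : F) = x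
    rw [e.apply_symm_apply]
  · rintro ⟨y, rfl⟩
    exact (e y).2

end CfsgLib.KnownC.AutPSU
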