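import Cfsg.Agent.Lib.KnownC.AutPSU.Point

/-!
# Hyperbolic frames, the two-point stabiliser, and radicals under automorphisms
-/

set_option autoImplicit false
set_option linter.unusedSectionVars false

open Module MulAction
open scoped LinearAlgebra.Projectivization

namespace CfsgLib.KnownC.AutPSU

open CfsgLib.Classical

variable {F : Type*} [Field F] {V : Type*} [AddCommGroup V] [Module F V] {σ : F →+* F}
  {B : V →ₛₗ[σ] V →ₗ[F] F} [hB : UCtx B]
include hB

/-- A hyperbolic pair with an orthonormal basis of its orthogonal space. -/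
structure UFrame (B : V →ₛₗ[σ] V →ₗ[F] F) (m : ℕ) where
  r : V
  s : V
  e : Fin m → V
  rr : B r r = 0
  ss : B s s = 0
  rs : B r s = 1
  re : ∀ i, B r (e i) = 0
  se : ∀ i, B s (e i) = 0
  ee : ∀ i j, B (e i) (e j) = if i = j then 1 else 0
  expand : ∀ x, x = B s x • r + B r x • s + ∑ i, B (e i) x • e i
  dim : m + 2 = finrank F V

namespace UFrame

variable {m : ℕ} (fr : UFrame B m)

theorem sr : B fr.s fr.r = 1 := by rw [← form_symm (B := B), fr.rs, map_one]

theorem er (i : Fin m) : B (fr.e i) fr.r = 0 := form_refl (fr.re i)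

theorem es (i : Fin m) : B (fr.e i) fr.s = 0 := form_refl (fr.se i)

theorem r_ne : fr.r ≠ 0 := fun h => by simpa [h] using fr.rs

theorem s_ne : fr.s ≠ 0 := fun h => by simpa [h] using fr.rs

theorem e_ne (i : Fin m) : fr.e i ≠ 0 := fun h => by simpa [h] using fr.ee i i

include fr in
theorem m_pos : 0 < m := by have := fr.dim; have := hB.three; omega

/-- The orthogonal space of the pair. -/
def M : Submodule F V where
  carrier := {z | B fr.r z = 0 ∧ B fr.s z = 0}
  zero_mem' := ⟨map_zero _, map_zero _⟩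
  add_mem' := fun ha hb => ⟨by rw [map_add, ha.1, hb.1, add_zero], by rw [map_add, ha.2, hb.2, add_zero]⟩
  smul_mem' := fun c _ ha => ⟨by rw [map_smul, ha.1, smul_zero], by rw [map_smul, ha.2, smul_zero]⟩

theorem mem_M {z : V} : z ∈ fr.M ↔ B fr.r z = 0 ∧ B fr.s z = 0 := Iff.rfl

theorem e_mem (i : Fin m) : fr.e i ∈ fr.M := ⟨fr.re i, fr.se i⟩

theorem expand_M {z : V} (hz : z ∈ fr.M) : z = ∑ i, B (fr.e i) z • fr.e i := by
  have := fr.expand z
  rwa [hz.1, hz.2, zero_smul, zero_smul, zero_add, zero_add] at this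

theorem nd_M {z : V} (hz : z ∈ fr.M) (h : ∀ i, B (fr.e i) z = 0) : z = 0 := by
  rw [fr.expand_M hz]; simp [h]

/-- The projection onto the orthogonal space. -/
def pr : V →ₗ[F] V := LinearMap.id - (B fr.s).smulRight fr.r - (B fr.r).smulRight fr.s

theorem pr_apply (x : V) : fr.pr x = x - B fr.s x • fr.r - B fr.r x • fr.s := rfl

theorem pr_mem (x : V) : fr.pr x ∈ fr.M := by
  refine ⟨?_, ?_⟩ <;> simp [pr_apply, fr.rr, fr.ss, fr.rs, fr.sr]

theorem pr_eq_self {z : V} (hz : z ∈ fr.M) : fr.pr z = z := by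
  rw [pr_apply, hz.1, hz.2, zero_smul, zero_smul, sub_zero, sub_zero]

theorem expand_pr (x : V) : x = B fr.s x • fr.r + B fr.r x • fr.s + fr.pr x := by rw [pr_apply]; abel

theorem pr_perp {x : V} (hx : B fr.r x = 0) : x = fr.pr x + B fr.s x • fr.r := by
  rw [pr_apply, hx, zero_smul, sub_zero, sub_add_cancel]

theorem pr_r : fr.pr fr.r = 0 := by simp [pr_apply, fr.rr, fr.sr]

/-- The point of the first vector. -/
noncomputable abbrev P : IsoPts B := isoPt B fr.r_ne fr.rr

/-- The point of the second vector. -/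
noncomputable abbrev S : IsoPts B := isoPt B fr.s_ne fr.ss

/-- An element of the special group fixing both lines of the frame, with multiplier `a` on the first. -/
def IsTor (g : sIsom B) (a : F) : Prop := a ≠ 0 ∧ g.1.1 fr.r = a • fr.r ∧ g.1.1 fr.s = (σ a)⁻¹ • fr.s

variable {fr} in
theorem IsTor.map_M {g : sIsom B} {a : F} (h : fr.IsTor g a) {z : V} (hz : z ∈ fr.M) : g.1.1 z ∈ fr.M := by
  obtain ⟨ha, hr, hs⟩ := h
  have ha' := (map_ne_zero σ).2 ha
  constructor
  · have e : fr.r = a⁻¹ • g.1.1 fr.r := by rw [hr, inv_smul_smul₀ ha]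
    rw [e, map_smulₛₗ, LinearMap.smul_apply, isomGroup_apply, hz.1, smul_zero]
  · have e : fr.s = σ a • g.1.1 fr.s := by rw [hs, smul_inv_smul₀ ha']
    rw [e, map_smulₛₗ, LinearMap.smul_apply, isomGroup_apply, hz.2, smul_zero]

variable {fr} in
theorem IsTor.stab_P {g : sIsom B} {a : F} (h : fr.IsTor g a) :
    (QuotientGroup.mk g : PG B) ∈ stabilizer (PG B) fr.P := by
  rw [mem_stabilizer_iff, UFrame.P, mk_smul_isoPt]
  exact Subtype.ext ((Projectivization.mk_eq_mk_iff' _ _ _ _ _).2 ⟨a, h.2.1.symm⟩)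

variable {fr} in
theorem IsTor.stab_S {g : sIsom B} {a : F} (h : fr.IsTor g a) :
    (QuotientGroup.mk g : PG B) ∈ stabilizer (PG B) fr.S := by
  rw [mem_stabilizer_iff, UFrame.S, mk_smul_isoPt]
  exact Subtype.ext ((Projectivization.mk_eq_mk_iff' _ _ _ _ _).2 ⟨(σ a)⁻¹, h.2.2.symm⟩)

theorem exists_isTor_of_fix {g : sIsom B} (hP : (QuotientGroup.mk g : PG B) • fr.P = fr.P)
    (hS : (QuotientGroup.mk g : PG B) • fr.S = fr.S) : ∃ a, fr.IsTor g a := by
  rw [UFrame.P, mk_smul_isoPt] at hP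
  rw [UFrame.S, mk_smul_isoPt] at hS
  obtain ⟨a, ha⟩ := (Projectivization.mk_eq_mk_iff' _ _ _ _ _).1 (congrArg Subtype.val hP)
  obtain ⟨b, hb⟩ := (Projectivization.mk_eq_mk_iff' _ _ _ _ _).1 (congrArg Subtype.val hS)
  have h1 : B (g.1.1 fr.r) (g.1.1 fr.s) = 1 := by rw [isomGroup_apply]; exact fr.rs
  rw [← ha, ← hb, map_smul, map_smulₛₗ, LinearMap.smul_apply, smul_eq_mul, smul_eq_mul, fr.rs, mul_one] at h1
  have ha0 : a ≠ 0 := fun h => by simp [h] at h1
  exact ⟨a, ha0, ha.symm, by rw [← hb, eq_inv_of_mul_eq_one_left h1]⟩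

theorem exists_scale_one {i : Fin m} {a : F} (ha : a ≠ 0) :
    ∃ g, fr.IsTor g a ∧ g.1.1 (fr.e i) = (σ a / a) • fr.e i ∧ ∀ j, j ≠ i → g.1.1 (fr.e j) = fr.e j := by
  haveI := hB.fin; haveI := hB.findim
  have ha' := (map_ne_zero σ).2 ha
  obtain ⟨T, hTr, hTs, hTx, hTd⟩ := hB.herm.exists_torus hB.nd fr.rr fr.ss fr.rs ha
  have hl : σ a / a * σ (σ a / a) = 1 := by
    rw [map_div₀, sigma_invol (B := B)]; field_simp
  obtain ⟨H, hH, hHd⟩ := hB.herm.exists_qr hB.nd (z := fr.e i) (by simp [fr.ee]) hl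
  refine ⟨⟨H * T, MonoidHom.mem_ker.2 (by rw [map_mul, hHd, hTd]; field_simp)⟩,
    ⟨ha, ?_, ?_⟩, ?_, fun j hj => ?_⟩
  · show H.1 (T.1 fr.r) = _
    rw [hTr, map_smul, hH, fr.er]; simp
  · show H.1 (T.1 fr.s) = _
    rw [hTs, map_smul, hH, fr.es]; simp
  · show H.1 (T.1 (fr.e i)) = _
    rw [hTx _ (fr.re i) (fr.se i), hH, fr.ee, if_pos rfl, div_one, mul_one, sub_smul, one_smul, add_sub_cancel]
  · show H.1 (T.1 (fr.e j)) = _
    rw [hTx _ (fr.re j) (fr.se j), hH, fr.ee i j, if_neg (Ne.symm hj), mul_zero, zero_smul, add_zero]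

theorem exists_swap {i j : Fin m} (hij : i ≠ j) :
    ∃ g a, fr.IsTor g a ∧ g.1.1 (fr.e i) = fr.e j ∧ g.1.1 (fr.e j) = fr.e i ∧
      ∀ k, k ≠ i → k ≠ j → g.1.1 (fr.e k) = fr.e k := by
  haveI := hB.fin; haveI := hB.findim
  obtain ⟨c, hc0, hc⟩ := hB.herm.conj.exists_trace_zero
  have hc' : σ c = -c := by linear_combination hc
  obtain ⟨T, hTr, hTs, hTx, hTd⟩ := hB.herm.exists_torus hB.nd fr.rr fr.ss fr.rs hc0
  set z := fr.e i - fr.e j with hz
  have hzz : B z z = 2 := by
    simp [hz, fr.ee, hij, hij.symm]; norm_num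
  obtain ⟨H, hH⟩ := hB.herm.exists_of_preserving hB.nd (LinearMap.transvection (-(B z)) z) fun x y => by
    simp only [LinearMap.transvection.apply, LinearMap.neg_apply, map_add, map_smul, map_smulₛₗ, LinearMap.add_apply,
      LinearMap.smul_apply, smul_eq_mul, map_neg, form_symm, hzz, RingHom.id_apply]
    ring
  have hHd : idet B H = -1 := by
    change LinearMap.det (H.1 : V →ₗ[F] V) = -1
    rw [show (H.1 : V →ₗ[F] V) = LinearMap.transvection (-(B z)) z from LinearMap.ext hH,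
      LinearMap.transvection.det, LinearMap.neg_apply, hzz]
    norm_num
  have hdet : idet B (H * T) = 1 := by
    rw [map_mul, hHd, hTd, hc']; field_simp
  refine ⟨⟨H * T, MonoidHom.mem_ker.2 hdet⟩, c, ⟨hc0, ?_, ?_⟩, ?_, ?_, fun k hki hkj => ?_⟩
  · show H.1 (T.1 fr.r) = _
    rw [hTr, map_smul, hH, LinearMap.transvection.apply]
    simp [hz, fr.er]
  · show H.1 (T.1 fr.s) = _
    rw [hTs, map_smul, hH, LinearMap.transvection.apply]
    simp [hz, fr.es]
  · show H.1 (T.1 (fr.e i)) = _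
    rw [hTx _ (fr.re i) (fr.se i), hH, LinearMap.transvection.apply]
    simp [hz, fr.ee, hij.symm]
  · show H.1 (T.1 (fr.e j)) = _
    rw [hTx _ (fr.re j) (fr.se j), hH, LinearMap.transvection.apply]
    simp [hz, fr.ee, hij]
  · show H.1 (T.1 (fr.e k)) = _
    rw [hTx _ (fr.re k) (fr.se k), hH, LinearMap.transvection.apply]
    simp [hz, fr.ee, hki.symm, hkj.symm]

theorem exists_scale_M {i : Fin m} {a : F} (ha : a ≠ 0) :
    ∃ g, fr.IsTor g a ∧ ∀ z ∈ fr.M, g.1.1 z = z + ((σ a / a - 1) * B (fr.e i) z) • fr.e i := by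
  obtain ⟨g, hg, hi, hj⟩ := fr.exists_scale_one (i := i) ha
  refine ⟨g, hg, fun z hz => ?_⟩
  have hd : ∀ k, g.1.1 (fr.e k) = fr.e k + (if k = i then σ a / a - 1 else 0) • fr.e i := by
    intro k
    by_cases h : k = i
    · subst h; rw [if_pos rfl, hi, sub_smul, one_smul, add_sub_cancel]
    · rw [if_neg h, zero_smul, add_zero, hj k h]
  have hlin : g.1.1 (∑ k, B (fr.e k) z • fr.e k) =
      (∑ k, B (fr.e k) z • fr.e k) + ((σ a / a - 1) * B (fr.e i) z) • fr.e i := by
    simp only [map_sum, map_smul, hd, smul_add, Finset.sum_add_distrib, add_right_inj]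
    simp only [ite_smul, zero_smul, smul_ite, smul_zero, Finset.sum_ite_eq', Finset.mem_univ, if_true, smul_smul]
    rw [mul_comm]
  rwa [← fr.expand_M hz] at hlin

end UFrame

theorem exists_frame {r : V} (hr0 : r ≠ 0) (hr : B r r = 0) :
    ∃ (m : ℕ) (fr : UFrame B m), fr.r = r := by
  haveI := hB.fin; haveI := hB.findim
  obtain ⟨s, hs, hrs⟩ := exists_partner (B := B) hr0 hr
  have hsr : B s r = 1 := by rw [← form_symm (B := B), hrs, map_one]
  set H := Submodule.span F {r, s} with hH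
  have hnd := hB.herm.nondegOn_hyp hr hrs
  have hndW : NondegOn B (perp B H) := nondegOn_perp hB.nd hnd
  obtain ⟨b, hb⟩ := (hB.herm.restrict (perp B H)).exists_orthonormal (restrictForm_separatingRight hndW)
  have hmemW : ∀ i, (b i : V) ∈ perp B H := fun i => (b i).2
  have hre : ∀ i, B r (b i : V) = 0 := fun i => mem_perp.1 (hmemW i) r (Submodule.subset_span (by simp))
  have hse : ∀ i, B s (b i : V) = 0 := fun i => mem_perp.1 (hmemW i) s (Submodule.subset_span (by simp))
  refine ⟨finrank F (perp B H), ⟨r, s, fun i => (b i : V), hr, hs, hrs, hre, hse, fun i j => ?_, fun x => ?_, ?_⟩, rfl⟩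
  · simpa using hb i j
  · set z := x - B s x • r - B r x • s with hz
    have hzW : z ∈ perp B H := by
      rw [hH, mem_perp_span]
      rintro w (rfl | rfl) <;> simp [hz, hr, hs, hrs, hsr]
    have hsum : (⟨z, hzW⟩ : perp B H) = ∑ i, b.repr ⟨z, hzW⟩ i • b i := (b.sum_repr _).symm
    have hrepr : ∀ i, b.repr ⟨z, hzW⟩ i = B (b i : V) x := by
      intro i
      have h1 := congrArg (restrictForm B (perp B H) (b i)) hsum
      simp only [map_sum, map_smul, hb, smul_eq_mul, mul_ite, mul_one, mul_zero, Finset.sum_ite_eq,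
        Finset.mem_univ, if_true] at h1
      rw [← h1, restrictForm_apply]
      show B (b i : V) z = _
      simp [hz, form_refl (hre i), form_refl (hse i)]
    have h2 := congrArg (fun u : perp B H => (u : V)) hsum
    simp only [AddSubmonoidClass.coe_finsetSum, Submodule.coe_smul, hrepr] at h2
    rw [← h2, hz]; abel
  · have h1 := hnd.finrank_perp
    have h2 := hB.herm.finrank_hyp hr hrs
    rw [← hH] at h1 h2
    omega

theorem card_radGrp_le (P Q : IsoPts B) : Nat.card (radGrp P) ≤ Nat.card (radGrp Q) := by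
  haveI := finite_sIsom (B := B)
  obtain ⟨x, rfl⟩ := exists_smul_eq (PG B) P Q
  exact Nat.card_le_card_of_injective
    (fun y : radGrp P => (⟨x * y.1 * x⁻¹, conj_rad_mem x P y.2⟩ : radGrp (x • P)))
    fun a b h => Subtype.ext (mul_left_cancel (mul_right_cancel (congrArg Subtype.val h)))

theorem center_fix_eq_one {z : sIsom B} (hz : z ∈ Subgroup.center (sIsom B)) {r : V} (hr0 : r ≠ 0) (hr : B r r = 0)
    (hzr : z.1.1 r = r) : z = 1 := by
  have hnon : ∀ {u v : V}, B v v = 0 → B u v ≠ 0 → z.1.1 u = u → z.1.1 v = v := by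
    intro u v hv huv hu
    obtain ⟨l, -, hl⟩ := center_smul hz (fun h => huv (by simp [h])) hv
    have h1 := isomGroup_apply z.1 u v
    rw [hu, hl, map_smul, smul_eq_mul] at h1
    rw [hl, (mul_eq_right₀ huv).1 h1, one_smul]
  obtain ⟨s, hs, hrs⟩ := exists_partner (B := B) hr0 hr
  have hzs : z.1.1 s = s := hnon hs (by simp [hrs]) hzr
  have hiso : ∀ v, B v v = 0 → z.1.1 v = v := by
    intro v hv
    rcases eq_or_ne v 0 with rfl | hv0
    · exact map_zero _
    by_cases h : B r v = 0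
    · by_cases h' : B s v = 0
      · obtain ⟨w, hrw, hw, hvw⟩ : ∃ w, B r w ≠ 0 ∧ B w w = 0 ∧ B w v ≠ 0 := by
          haveI := hB.fin; haveI := hB.findim
          obtain ⟨t, ht, hvt⟩ := exists_partner (B := B) hv0 hv
          set z0 := t - B s t • r - B r t • s with hz0
          have hrz : B r z0 = 0 := by simp [hz0, hr, hrs]
          obtain ⟨c, hc⟩ := hB.herm.conj.exists_trace_eq (a := -B z0 z0) (by rw [map_neg, hB.herm.self_fixed])
          have hsr : B s r = 1 := by rw [← form_symm (B := B), hrs, map_one]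
          have hsz : B s z0 = 0 := by simp [hz0, hs, hsr]
          refine ⟨s + z0 + c • r, ?_, ?_, ?_⟩
          · simp [hrs, hrz, hr]
          · simp [hs, hsr, hrs, hr, hsz, form_refl hrz, form_refl hsz, hrz]
            linear_combination hc
          · refine fun e => one_ne_zero (α := F) ?_
            have e2 := form_refl e
            simp [hz0, form_refl h, form_refl h', hvt] at e2
        exact hnon hv hvw (hnon hw hrw hzr)
      · exact hnon hv h' hzs
    · exact hnon hv h hzr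
  exact sisom_ext fun x =>
    LinearMap.eqOn_span (f := (z.1.1 : V →ₗ[F] V)) (g := LinearMap.id) hiso (mem_span_iso (B := B) x)

/-- A normal `p`-subgroup of a point stabiliser lies in the radical. -/
theorem le_radGrp {m : ℕ} (fr : UFrame B m) {N : Subgroup (PG B)} (hle : N ≤ stabilizer (PG B) fr.P)
    (hN : ∀ x ∈ stabilizer (PG B) fr.P, ∀ a ∈ N, x * a * x⁻¹ ∈ N) {p : ℕ} [Fact p.Prime] [CharP F p]
    (hp : ∀ a ∈ N, a ^ p ^ 2 = 1) : N ≤ radGrp fr.P := by
  haveI := hB.fin; haveI := hB.findim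
  haveI := finite_sIsom (B := B)
  let S : Subgroup (sIsom B) :=
    { carrier := {g | (QuotientGroup.mk g : PG B) ∈ N ∧ g.1.1 fr.r = fr.r}
      one_mem' := ⟨N.one_mem, rfl⟩
      mul_mem' := fun {g h} hg hh => ⟨by rw [QuotientGroup.mk_mul]; exact N.mul_mem hg.1 hh.1, by
        show g.1.1 (h.1.1 fr.r) = fr.r
        rw [hh.2, hg.2]⟩
      inv_mem' := fun {g} hg => ⟨by rw [QuotientGroup.mk_inv]; exact N.inv_mem hg.1, by
        show g.1.1.symm fr.r = fr.r
        rw [LinearEquiv.symm_apply_eq, hg.2]⟩ }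
  have hS : IsPGroup p S := fun g => ⟨2, Subtype.ext (by
    rw [Subgroup.coe_pow, Subgroup.coe_one]
    refine center_fix_eq_one ?_ fr.r_ne fr.rr ?_
    · rw [← QuotientGroup.eq_one_iff, QuotientGroup.mk_pow, hp _ g.2.1]
    · exact (pow_mem g.2 (p ^ 2)).2)⟩
  have hlift : ∀ x ∈ N, ∃ g ∈ S, (QuotientGroup.mk g : PG B) = x := by
    intro x hx
    obtain ⟨g, hgx, hgp⟩ := exists_lift_pow (B := B) (p := p) two_ne_zero (hp x hx)
    refine ⟨g, ⟨hgx.symm ▸ hx, ?_⟩, hgx⟩
    have h := mem_stabilizer_iff.1 (hle hx)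
    rw [← hgx, UFrame.P, mk_smul_isoPt] at h
    obtain ⟨l, hl⟩ := (Projectivization.mk_eq_mk_iff' _ _ _ _ _).1 (congrArg Subtype.val h)
    have hpow : ∀ k : ℕ, (g ^ k).1.1 fr.r = l ^ k • fr.r := by
      intro k
      induction k with
      | zero => simp
      | succ k ih =>
        rw [pow_succ']
        show g.1.1 ((g ^ k).1.1 fr.r) = _
        rw [ih, map_smul, ← hl, smul_smul, pow_succ]
    have h1 := hpow (p ^ 2)
    rw [hgp] at h1
    have hlp : l ^ p ^ 2 = 1 := smul_left_injective F fr.r_ne (by simpa using h1.symm)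
    have hl1 : l = 1 := by
      refine frobenius_inj F p (frobenius_inj F p ?_)
      rw [frobenius_def, frobenius_def, frobenius_def, frobenius_def, ← pow_mul, ← pow_two, hlp, one_pow, one_pow]
    rw [← hl, hl1, one_smul]
  have hperp : ∀ g ∈ S, ∀ x, B fr.r x = 0 → B fr.r (g.1.1 x) = 0 := by
    intro g hg x hx
    rw [← hg.2, isomGroup_apply, hx]
  -- the elements of `r⊥` moved inside the line of `r`
  let D : Submodule F V :=
    { carrier := {z | z ∈ fr.M ∧ ∀ g ∈ S, fr.pr (g.1.1 z) = z}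
      zero_mem' := ⟨fr.M.zero_mem, fun g _ => by rw [map_zero, map_zero]⟩
      add_mem' := fun ha hb => ⟨fr.M.add_mem ha.1 hb.1, fun g hg => by rw [map_add, map_add, ha.2 g hg, hb.2 g hg]⟩
      smul_mem' := fun c z hz => ⟨fr.M.smul_mem c hz.1, fun g hg => by rw [map_smul, map_smul, hz.2 g hg]⟩ }
  have hDinv : ∀ h a, fr.IsTor h a → ∀ z ∈ D, h.1.1 z ∈ D := by
    intro h a ht z hz
    refine ⟨ht.map_M hz.1, fun g hg => ?_⟩
    have hconj : h⁻¹ * g * h ∈ S := by
      refine ⟨?_, ?_⟩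
      · have := hN _ (inv_mem ht.stab_P) _ hg.1
        rwa [inv_inv, ← QuotientGroup.mk_inv, ← QuotientGroup.mk_mul, ← QuotientGroup.mk_mul] at this
      · show h.1.1.symm (g.1.1 (h.1.1 fr.r)) = fr.r
        rw [LinearEquiv.symm_apply_eq, ht.2.1, map_smul, hg.2]
    set y := (h⁻¹ * g * h).1.1 z with hy
    have hyp : B fr.r y = 0 := hperp _ hconj z hz.1.1
    have hgy : g.1.1 (h.1.1 z) = h.1.1 y := (h.1.1.apply_symm_apply _).symm
    rw [hgy, fr.pr_perp hyp, hz.2 _ hconj, map_add, map_smul, ht.2.1, map_add, map_smul, map_smul, fr.pr_r,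
      smul_zero, smul_zero, add_zero, fr.pr_eq_self (ht.map_M hz.1)]
  obtain ⟨z0, hz0D, hz00⟩ : ∃ z ∈ D, z ≠ 0 := by
    haveI : Finite V := Module.finite_of_finite F
    let act : MulAction S fr.M :=
      { smul := fun g x => ⟨fr.pr ((g : sIsom B).1.1 (x : V)), fr.pr_mem _⟩
        one_smul := fun x => Subtype.ext (fr.pr_eq_self x.2)
        mul_smul := fun g h x => Subtype.ext (by
          show fr.pr ((g : sIsom B).1.1 ((h : sIsom B).1.1 (x : V))) =
            fr.pr ((g : sIsom B).1.1 (fr.pr ((h : sIsom B).1.1 (x : V))))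
          conv_lhs => rw [fr.pr_perp (hperp _ h.2 _ x.2.1)]
          rw [map_add, map_smul, g.2.2, map_add, map_smul, fr.pr_r, smul_zero, add_zero]) }
    have hdvd : p ∣ Nat.card fr.M := by
      letI := Fintype.ofFinite F
      rw [Module.natCard_eq_pow_finrank (K := F) (V := fr.M)]
      obtain ⟨f, -, hf⟩ := FiniteField.card F p
      refine dvd_pow ?_ fun h0 => ?_
      · rw [Nat.card_eq_fintype_card, hf]
        exact dvd_pow_self p f.ne_zero
      · have h2 : fr.e ⟨0, fr.m_pos⟩ ∈ fr.M := fr.e_mem _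
        rw [Submodule.finrank_eq_zero.1 h0] at h2
        exact fr.e_ne _ h2
    have h0 : (0 : fr.M) ∈ fixedPoints S fr.M := fun g => Subtype.ext (by
      show fr.pr ((g : sIsom B).1.1 ((0 : fr.M) : V)) = ((0 : fr.M) : V)
      rw [ZeroMemClass.coe_zero, map_zero, map_zero])
    obtain ⟨x, hx, hx0⟩ := hS.exists_fixed_point_of_prime_dvd_card_of_fixed_point fr.M hdvd h0
    exact ⟨x, ⟨x.2, fun g hg => congrArg Subtype.val (hx ⟨g, hg⟩)⟩, fun h => hx0 (Subtype.ext h.symm)⟩
  obtain ⟨i, hi⟩ : ∃ i, B (fr.e i) z0 ≠ 0 := by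
    by_contra hall
    push Not at hall
    exact hz00 (fr.nd_M hz0D.1 hall)
  have hei : fr.e i ∈ D := by
    obtain ⟨t, ht⟩ := hB.herm.conj.exists_not_fixed
    have ht0 : t ≠ 0 := fun h => ht (by simp [h])
    obtain ⟨g, hg, hgz⟩ := fr.exists_scale_M (i := i) ht0
    have hd : σ t / t - 1 ≠ 0 := sub_ne_zero.2 fun h => ht (div_eq_one_iff_eq ht0 |>.1 h)
    have := D.smul_mem ((σ t / t - 1) * B (fr.e i) z0)⁻¹ (D.sub_mem (hDinv g t hg z0 hz0D) hz0D)
    rwa [hgz z0 hz0D.1, add_sub_cancel_left, inv_smul_smul₀ (mul_ne_zero hd hi)] at this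
  have hall : ∀ j, fr.e j ∈ D := by
    intro j
    rcases eq_or_ne i j with rfl | hij
    · exact hei
    obtain ⟨g, a, hg, hgi, -⟩ := fr.exists_swap hij
    exact hgi ▸ hDinv g a hg _ hei
  intro x hx
  obtain ⟨g, hg, rfl⟩ := hlift x hx
  obtain ⟨z, c, hc, rfl⟩ := eq_uzE_of_unipotent fr.r_ne fr.rr hg.2 fun z hz => by
    have hzD : fr.pr z ∈ D := by
      rw [fr.expand_M (fr.pr_mem z)]
      exact D.sum_mem fun j _ => D.smul_mem _ (hall j)
    have h1 := hzD.2 g hg
    have hgz := hperp g hg z hz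
    refine ⟨B fr.s (g.1.1 z) - B fr.s z, ?_⟩
    have h2 : g.1.1 z = g.1.1 (fr.pr z) + B fr.s z • fr.r := by
      conv_lhs => rw [fr.pr_perp hz, map_add, map_smul, hg.2]
    have h3 : fr.pr (g.1.1 z) = fr.pr z := by rw [h2, map_add, map_smul, fr.pr_r, smul_zero, add_zero, h1]
    have a1 := fr.pr_perp hgz
    have a2 := fr.pr_perp hz
    rw [h3] at a1
    linear_combination (norm := module) a1 - a2
  exact (mem_radGrp fr.r_ne fr.rr).2 ⟨z, c, hc, rfl⟩

theorem radGrp_pow_char {P : IsoPts B} {p : ℕ} [CharP F p] {x : PG B} (hx : x ∈ radGrp P) : x ^ p ^ 2 = 1 := by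
  obtain ⟨z, c, hc, rfl⟩ := hx
  rw [uzP, ← QuotientGroup.mk_pow, pow_two, uzE_pow_char hc, QuotientGroup.mk_one]

/-- Automorphisms map radicals to radicals. -/
theorem rad_image (α : MulAut (PG B)) {P Q : IsoPts B}
    (hQ : (stabilizer (PG B) P).map α.toMonoidHom = stabilizer (PG B) Q) :
    (radGrp P).map α.toMonoidHom = radGrp Q := by
  haveI := hB.fin
  haveI := finite_sIsom (B := B)
  obtain ⟨p, _⟩ := CharP.exists F
  haveI hp : Fact p.Prime := ⟨CharP.char_is_prime F p⟩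
  obtain ⟨v, hv, hv0, rfl⟩ := isoPt_surjective Q
  obtain ⟨m, fr, rfl⟩ := exists_frame (B := B) hv hv0
  have hle : (radGrp P).map α.toMonoidHom ≤ radGrp fr.P := by
    refine le_radGrp fr (p := p) ?_ ?_ ?_
    · exact hQ ▸ Subgroup.map_mono (radGrp_le_stab P)
    · intro x hx a ha
      rw [← hQ] at hx
      obtain ⟨y, hy, rfl⟩ := hx
      obtain ⟨b, hb, rfl⟩ := ha
      refine ⟨y * b * y⁻¹, ?_, by rw [map_mul, map_mul, map_inv]⟩
      have := conj_rad_mem y P hb
      rwa [mem_stabilizer_iff.1 hy] at this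
    · rintro _ ⟨y, hy, rfl⟩
      rw [← map_pow, radGrp_pow_char hy, map_one]
  refine Subgroup.eq_of_le_of_card_ge hle ?_
  rw [Subgroup.card_map_of_injective (show Function.Injective α.toMonoidHom from α.injective)]
  exact card_radGrp_le _ _

end CfsgLib.KnownC.AutPSU
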