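import Cfsg.Agent.Lib.KnownC.AutPSU.Commutant

/-!
# Every automorphism of `PG B` is induced by a semilinear similitude
-/

set_option autoImplicit false
set_option linter.unusedSectionVars false

open Module MulAction
open scoped LinearAlgebra.Projectivization

namespace CfsgLib.KnownC.AutPSU

open CfsgLib.Classical

variable {F : Type*} [Field F] {V : Type*} [AddCommGroup V] [Module F V] {σ : F →+* F}
  {B : V →ₛₗ[σ] V →ₗ[F] F} [hB : UCtx B]
include hB

/-! ### The induced map of points -/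

theorem orth_isoPt {v w : V} (hv : v ≠ 0) (hv0 : B v v = 0) (hw : w ≠ 0) (hw0 : B w w = 0) :
    B (isoPt B hv hv0).1.rep (isoPt B hw hw0).1.rep = 0 ↔ B v w = 0 := by
  obtain ⟨a, ha, e⟩ := rep_isoPt (B := B) hv hv0
  obtain ⟨b, hb, e'⟩ := rep_isoPt (B := B) hw hw0
  rw [e, e', map_smul, map_smulₛₗ, LinearMap.smul_apply, smul_eq_mul, smul_eq_mul]
  simp [ha, hb]

theorem orth_iff (P Q : IsoPts B) : B P.1.rep Q.1.rep = 0 ↔ ∀ x ∈ rootGrp P, x • Q = Q := by
  refine ⟨fun h => ?_, exists_nonorth_fix P Q⟩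
  rintro _ ⟨c, hc, rfl⟩
  conv_lhs => rw [isoPt_rep Q]
  conv_rhs => rw [isoPt_rep Q]
  exact mk_uz_apply (radCond_tv P.2 hc) _ Q.2 _ Q.2 (by simp [h])

theorem orth_smul (x : PG B) (P Q : IsoPts B) :
    B (x • P).1.rep (x • Q).1.rep = 0 ↔ B P.1.rep Q.1.rep = 0 := by
  obtain ⟨g, rfl⟩ := QuotientGroup.mk_surjective x
  obtain ⟨v, hv, hv0, rfl⟩ := isoPt_surjective P
  obtain ⟨w, hw, hw0, rfl⟩ := isoPt_surjective Q
  rw [mk_smul_isoPt, mk_smul_isoPt, orth_isoPt, orth_isoPt, isomGroup_apply]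

theorem map_conj_root (x : PG B) (P : IsoPts B) :
    (rootGrp P).map (MulAut.conj x).toMonoidHom = rootGrp (x • P) := by
  refine le_antisymm ?_ fun y hy => ⟨x⁻¹ * y * x, ?_, by simp [mul_assoc]⟩
  · rintro _ ⟨y, hy, rfl⟩
    exact conj_root_mem x P hy
  · have := conj_root_mem x⁻¹ _ hy
    rwa [inv_inv, inv_smul_smul] at this

theorem map_conj_rad (x : PG B) (P : IsoPts B) :
    (radGrp P).map (MulAut.conj x).toMonoidHom = radGrp (x • P) := by
  refine le_antisymm ?_ fun y hy => ⟨x⁻¹ * y * x, ?_, by simp [mul_assoc]⟩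
  · rintro _ ⟨y, hy, rfl⟩
    exact conj_rad_mem x P hy
  · have := conj_rad_mem x⁻¹ _ hy
    rwa [inv_inv, inv_smul_smul] at this

/-- The map of points induced by an automorphism. -/
structure IsPtMap (α : MulAut (PG B)) (f : IsoPts B → IsoPts B) : Prop where
  bij : Function.Bijective f
  equiv : ∀ x P, f (x • P) = α x • f P
  root : ∀ P, (rootGrp P).map α.toMonoidHom = rootGrp (f P)
  rad : ∀ P, (radGrp P).map α.toMonoidHom = radGrp (f P)

theorem exists_ptMap (α : MulAut (PG B)) : ∃ f, IsPtMap α f := by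
  haveI := hB.fin; haveI := hB.findim
  haveI : Finite V := Module.finite_of_finite F
  choose f hf1 hf2 using fun P => exists_root_image α P
  refine ⟨f, ⟨?_, ?_, hf2, fun P => rad_image α (hf1 P)⟩⟩
  · refine Finite.injective_iff_bijective.1 fun P Q h => rootGrp_inj ?_
    refine Subgroup.map_injective (f := α.toMonoidHom) α.injective ?_
    exact (hf2 P).trans ((congrArg rootGrp h).trans (hf2 Q).symm)
  · intro x P
    apply rootGrp_inj
    rw [← hf2, ← map_conj_root x P, ← map_conj_root (α x) (f P), ← hf2 P, Subgroup.map_map, Subgroup.map_map]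
    congr 1
    exact MonoidHom.ext fun y => by simp

theorem IsPtMap.orth {α : MulAut (PG B)} {f : IsoPts B → IsoPts B} (hf : IsPtMap α f) (P Q : IsoPts B) :
    B (f P).1.rep (f Q).1.rep = 0 ↔ B P.1.rep Q.1.rep = 0 := by
  rw [orth_iff, orth_iff]
  refine ⟨fun h x hx => hf.bij.1 ?_, fun h y hy => ?_⟩
  · rw [hf.equiv]
    exact h _ (hf.root P ▸ Subgroup.mem_map_of_mem _ hx)
  · rw [← hf.root P] at hy
    obtain ⟨x, hx, rfl⟩ := hy
    show α x • f Q = f Q
    rw [← hf.equiv, h x hx]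

theorem IsPtMap.conj {α : MulAut (PG B)} {f : IsoPts B → IsoPts B} (hf : IsPtMap α f) (x : PG B) :
    IsPtMap (MulAut.conj x * α) fun P => x • f P := by
  refine ⟨(MulAction.bijective x).comp hf.bij, fun y P => ?_, fun P => ?_, fun P => ?_⟩
  · rw [hf.equiv, MulAut.mul_apply, MulAut.conj_apply, mul_smul, mul_smul, inv_smul_smul]
  · rw [← map_conj_root, ← hf.root, Subgroup.map_map]; rfl
  · rw [← map_conj_rad, ← hf.rad, Subgroup.map_map]; rfl

variable {m : ℕ} (fr : UFrame B m)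

theorem UFrame.rad_normal_form {x : PG B} (hx : x ∈ radGrp fr.P) :
    ∃ z c, z ∈ fr.M ∧ RadCond B fr.r z c ∧ x = uzP B fr.r z c := by
  obtain ⟨w, d, hd, rfl⟩ := (mem_radGrp fr.r_ne fr.rr).1 hx
  set t := B fr.s w with ht
  have hw : w = fr.pr w + t • fr.r := fr.pr_perp hd.2.1
  have hc : RadCond B fr.r (fr.pr w) (d - σ t + t) := by
    refine ⟨fr.rr, (fr.pr_mem w).1, ?_⟩
    have h := hd.2.2
    rw [hw, hB.herm.add_self, hB.herm.smul_self, fr.rr, mul_zero, map_smul, smul_eq_mul,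
      form_refl (fr.pr_mem w).1, mul_zero, map_zero] at h
    rw [map_add, map_sub, sigma_invol (B := B)]
    linear_combination h
  refine ⟨fr.pr w, d - σ t + t, fr.pr_mem w, hc, ?_⟩
  have e : d - σ t + t + σ t - t = d := by ring
  have h2 := uzE_shift (t := t) hc (by rw [e, ← hw]; exact hd)
  rw [e, ← hw] at h2
  rw [uzP, uzP, h2]

theorem UFrame.uz_smul_S {z : V} {c : F} (hz : z ∈ fr.M) (h : RadCond B fr.r z c)
    {s' : V} (h0 : s' ≠ 0) (hiso : B s' s' = 0) (e : fr.s + z + c • fr.r = s') :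
    uzP B fr.r z c • fr.S = isoPt B h0 hiso :=
  mk_uz_apply h fr.s_ne fr.ss h0 hiso (by rw [fr.rs, one_smul, mul_one, form_refl hz.2, sub_zero, e])

theorem UFrame.rad_inj {z z' : V} {c c' : F} (hz : z ∈ fr.M) (hz' : z' ∈ fr.M) (h : RadCond B fr.r z c)
    (h' : RadCond B fr.r z' c') (e : uzP B fr.r z c = uzP B fr.r z' c') : z = z' ∧ c = c' := by
  have e' := congrArg (fun x : PG B => x • fr.S) e
  simp only [uzP, UFrame.S, mk_smul_isoPt] at e'
  obtain ⟨a, ha⟩ := (Projectivization.mk_eq_mk_iff' _ _ _ _ _).1 (congrArg Subtype.val e')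
  simp only [uzE_apply h, uzE_apply h', fr.rs, one_smul, mul_one, form_refl hz.2, form_refl hz'.2, sub_zero] at ha
  have h1 := congrArg (B fr.r) ha
  simp [fr.rr, fr.rs, hz.1, hz'.1] at h1
  subst h1
  have h2 := congrArg (B fr.s) ha
  simp [fr.ss, fr.sr, hz.2, hz'.2] at h2
  subst h2
  rw [one_smul, add_left_inj, add_right_inj] at ha
  exact ⟨ha.symm, rfl⟩

theorem UFrame.tor_conj {g : sIsom B} {a : F} (hg : fr.IsTor g a) {z : V} {c : F} (h : RadCond B fr.r z c) :
    RadCond B fr.r (σ a • g.1.1 z) (a * σ a * c) ∧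
      (QuotientGroup.mk g : PG B) * uzP B fr.r z c * (QuotientGroup.mk g)⁻¹ =
        uzP B fr.r (σ a • g.1.1 z) (a * σ a * c) := by
  have h1 := radCond_conj h g
  rw [hg.2.1] at h1
  have h2 : B fr.r (g.1.1 z) = 0 := by
    have := h1.2.1
    rw [map_smulₛₗ, LinearMap.smul_apply, smul_eq_mul] at this
    exact (mul_eq_zero.1 this).resolve_left ((map_ne_zero σ).2 hg.1)
  have h3 : RadCond B fr.r (σ a • g.1.1 z) (a * σ a * c) := radCond_smul a ⟨fr.rr, h2, h1.2.2⟩
  refine ⟨h3, ?_⟩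
  rw [uzP, uzP, ← QuotientGroup.mk_inv, ← QuotientGroup.mk_mul, ← QuotientGroup.mk_mul, uzE_conj h g, hg.2.1,
    uzE_smul h1 h3]

/-- An automorphism fixing the two points of a frame is induced by a semilinear similitude. -/
theorem pinned (α : MulAut (PG B)) {f : IsoPts B → IsoPts B} (hf : IsPtMap α f) (hfP : f fr.P = fr.P)
    (hfS : f fr.S = fr.S) :
    ∃ (τ : F →+* F) (μ : F) (T : V → V), Function.Bijective T ∧ μ ≠ 0 ∧ (∀ x y, T (x + y) = T x + T y) ∧
      (∀ a x, T (a • x) = τ a • T x) ∧ (∀ x y, B (T x) (T y) = μ * τ (B x y)) ∧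
      ∀ g h : sIsom B, (∀ x, h.1.1 (T x) = T (g.1.1 x)) → α (QuotientGroup.mk g) = QuotientGroup.mk h := by
  classical
  haveI := hB.fin; haveI := hB.findim
  haveI : Finite V := Module.finite_of_finite F
  obtain ⟨q, hq, hσ⟩ := hB.frob
  have hradP : (radGrp fr.P).map α.toMonoidHom = radGrp fr.P := by rw [hf.rad, hfP]
  have hrootP : (rootGrp fr.P).map α.toMonoidHom = rootGrp fr.P := by rw [hf.root, hfP]
  have hex : ∀ z c, z ∈ fr.M → RadCond B fr.r z c →
      ∃ z' c', z' ∈ fr.M ∧ RadCond B fr.r z' c' ∧ α (uzP B fr.r z c) = uzP B fr.r z' c' := fun z c _ h =>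
    fr.rad_normal_form (hradP ▸ Subgroup.mem_map_of_mem α.toMonoidHom ((mem_radGrp fr.r_ne fr.rr).2 ⟨z, c, h, rfl⟩))
  choose! Φ Ψ hΦM hΦc hΦ using hex
  have h0M : (0 : V) ∈ fr.M := fr.M.zero_mem
  have htv : ∀ {d : F}, d + σ d = 0 → RadCond B fr.r 0 d := fun hd => radCond_tv fr.rr hd
  have hΦ0 : ∀ d, d + σ d = 0 → Φ 0 d = 0 := by
    intro d hd
    have h1 : α (uzP B fr.r 0 d) ∈ rootGrp fr.P := hrootP ▸
      Subgroup.mem_map_of_mem α.toMonoidHom ((mem_rootGrp fr.r_ne fr.rr).2 ⟨d, hd, rfl⟩)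
    obtain ⟨e, he, h2⟩ := (mem_rootGrp fr.r_ne fr.rr).1 h1
    rw [hΦ _ _ h0M (htv hd)] at h2
    exact (fr.rad_inj (hΦM _ _ h0M (htv hd)) h0M (hΦc _ _ h0M (htv hd)) (htv he) h2).1
  have hmul : ∀ z c w d, z ∈ fr.M → RadCond B fr.r z c → w ∈ fr.M → RadCond B fr.r w d →
      Φ (z + w) (c + d - B z w) = Φ z c + Φ w d ∧
      Ψ (z + w) (c + d - B z w) = Ψ z c + Ψ w d - B (Φ z c) (Φ w d) := by
    intro z c w d hz hc hw hd
    have hzw := fr.M.add_mem hz hw
    have hcd := radCond_mul hc hd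
    refine fr.rad_inj (hΦM _ _ hzw hcd) (fr.M.add_mem (hΦM _ _ hz hc) (hΦM _ _ hw hd)) (hΦc _ _ hzw hcd)
      (radCond_mul (hΦc _ _ hz hc) (hΦc _ _ hw hd)) ?_
    rw [← hΦ _ _ hzw hcd, uzP, ← uzE_mul hc hd, QuotientGroup.mk_mul, map_mul, uzP,
      ← uzE_mul (hΦc _ _ hz hc) (hΦc _ _ hw hd), QuotientGroup.mk_mul]
    exact congrArg₂ (· * ·) (hΦ _ _ hz hc) (hΦ _ _ hw hd)
  have hshift : ∀ z c d, z ∈ fr.M → RadCond B fr.r z c → d + σ d = 0 →
      Φ z (c + d) = Φ z c ∧ Ψ z (c + d) = Ψ z c + Ψ 0 d := by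
    intro z c d hz hc hd
    have h := hmul z c 0 d hz hc h0M (htv hd)
    rw [add_zero, map_zero, sub_zero, hΦ0 d hd, add_zero, map_zero, sub_zero] at h
    exact h
  have hchoice : ∀ z : V, ∃ c : F, c + σ c = -B z z := fun z =>
    hB.herm.conj.exists_trace_eq (by rw [map_neg, hB.herm.self_fixed])
  choose cc hcc using hchoice
  have hccR : ∀ z ∈ fr.M, RadCond B fr.r z (cc z) := fun z hz => ⟨fr.rr, hz.1, by linear_combination hcc z⟩
  let φ : V → V := fun z => Φ z (cc z)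
  have hφeq : ∀ z c, z ∈ fr.M → RadCond B fr.r z c → Φ z c = φ z := by
    intro z c hz hc
    have hd : (c - cc z) + σ (c - cc z) = 0 := by rw [map_sub]; linear_combination hc.2.2 - hcc z
    have h := (hshift z (cc z) _ hz (hccR z hz) hd).1
    rwa [add_sub_cancel] at h
  have hφM : ∀ z ∈ fr.M, φ z ∈ fr.M := fun z hz => hΦM _ _ hz (hccR z hz)
  have hφadd : ∀ z ∈ fr.M, ∀ w ∈ fr.M, φ (z + w) = φ z + φ w := fun z hz w hw => by
    rw [← hφeq _ _ (fr.M.add_mem hz hw) (radCond_mul (hccR z hz) (hccR w hw)),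
      (hmul _ _ _ _ hz (hccR z hz) hw (hccR w hw)).1]
  have hφ0 : φ 0 = 0 := by rw [← hφeq 0 0 h0M (htv (by simp)), hΦ0 0 (by simp)]
  have hφsub : ∀ z ∈ fr.M, ∀ w ∈ fr.M, φ (z - w) = φ z - φ w := fun z hz w hw => by
    rw [eq_sub_iff_add_eq, ← hφadd _ (fr.M.sub_mem hz hw) _ hw, sub_add_cancel]
  have hφker : ∀ z ∈ fr.M, φ z = 0 → z = 0 := by
    intro z hz hz0
    have hd : Ψ z (cc z) + σ (Ψ z (cc z)) = 0 := by
      have h := (hΦc _ _ hz (hccR z hz)).2.2
      rwa [show Φ z (cc z) = 0 from hz0, map_zero, add_zero] at h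
    have h1 : α (uzP B fr.r z (cc z)) ∈ (rootGrp fr.P).map α.toMonoidHom := by
      rw [hrootP, hΦ _ _ hz (hccR z hz), show Φ z (cc z) = 0 from hz0]
      exact (mem_rootGrp fr.r_ne fr.rr).2 ⟨_, hd, rfl⟩
    obtain ⟨y, hy, hye⟩ := h1
    obtain rfl := α.injective hye
    obtain ⟨e, he, h2⟩ := (mem_rootGrp fr.r_ne fr.rr).1 hy
    exact (fr.rad_inj hz h0M (hccR z hz) (htv he) h2).1
  have hφinj : ∀ z ∈ fr.M, ∀ w ∈ fr.M, φ z = φ w → z = w := fun z hz w hw h =>
    sub_eq_zero.1 (hφker _ (fr.M.sub_mem hz hw) (by rw [hφsub z hz w hw, h, sub_self]))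
  have hφsurj : ∀ w ∈ fr.M, ∃ z ∈ fr.M, φ z = w := by
    intro w hw
    have h1 : uzP B fr.r w (cc w) ∈ (radGrp fr.P).map α.toMonoidHom := by
      rw [hradP]; exact (mem_radGrp fr.r_ne fr.rr).2 ⟨_, _, hccR w hw, rfl⟩
    obtain ⟨y, hy, hye⟩ := h1
    obtain ⟨z, c, hz, hc, rfl⟩ := fr.rad_normal_form hy
    have h2 : α (uzP B fr.r z c) = uzP B fr.r w (cc w) := hye
    rw [hΦ _ _ hz hc] at h2
    exact ⟨z, hz, (hφeq z c hz hc).symm.trans
      (fr.rad_inj (hΦM _ _ hz hc) hw (hΦc _ _ hz hc) (hccR w hw) h2).1⟩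
  choose! ψ hψM hψ using hφsurj
  -- the two-point stabiliser
  have htor : ∀ g a, fr.IsTor g a → ∃ g' a', fr.IsTor g' a' ∧
      (∀ z ∈ fr.M, φ (σ a • g.1.1 z) = σ a' • g'.1.1 (φ z)) ∧
      (∀ z c, z ∈ fr.M → RadCond B fr.r z c → Ψ (σ a • g.1.1 z) (a * σ a * c) = a' * σ a' * Ψ z c) ∧
      α (QuotientGroup.mk g) = QuotientGroup.mk g' := by
    intro g a hg
    obtain ⟨g', hg'⟩ := QuotientGroup.mk_surjective (α (QuotientGroup.mk g))
    have hP' : (QuotientGroup.mk g' : PG B) • fr.P = fr.P := by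
      have h := hf.equiv (QuotientGroup.mk g) fr.P
      rw [mem_stabilizer_iff.1 hg.stab_P, hfP, ← hg'] at h
      exact h.symm
    have hS' : (QuotientGroup.mk g' : PG B) • fr.S = fr.S := by
      have h := hf.equiv (QuotientGroup.mk g) fr.S
      rw [mem_stabilizer_iff.1 hg.stab_S, hfS, ← hg'] at h
      exact h.symm
    obtain ⟨a', ha'⟩ := fr.exists_isTor_of_fix hP' hS'
    have key : ∀ z c, z ∈ fr.M → RadCond B fr.r z c → Φ (σ a • g.1.1 z) (a * σ a * c) = σ a' • g'.1.1 (Φ z c) ∧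
        Ψ (σ a • g.1.1 z) (a * σ a * c) = a' * σ a' * Ψ z c := by
      intro z c hz hc
      obtain ⟨h1, h2⟩ := fr.tor_conj hg hc
      obtain ⟨h1', h2'⟩ := fr.tor_conj ha' (hΦc _ _ hz hc)
      have hzM : σ a • g.1.1 z ∈ fr.M := fr.M.smul_mem _ (hg.map_M hz)
      refine fr.rad_inj (hΦM _ _ hzM h1) (fr.M.smul_mem _ (ha'.map_M (hΦM _ _ hz hc))) (hΦc _ _ hzM h1) h1' ?_
      rw [← hΦ _ _ hzM h1, ← h2, map_mul, map_mul, map_inv, ← hg', hΦ _ _ hz hc, h2']
    refine ⟨g', a', ha', fun z hz => ?_, fun z c hz hc => (key z c hz hc).2, hg'.symm⟩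
    rw [← hφeq _ _ (fr.M.smul_mem _ (hg.map_M hz)) (fr.tor_conj hg (hccR z hz)).1, (key z _ hz (hccR z hz)).1]
  have htor' : ∀ g' a', fr.IsTor g' a' → ∃ g a, fr.IsTor g a ∧
      ∀ z ∈ fr.M, φ (σ a • g.1.1 z) = σ a' • g'.1.1 (φ z) := by
    intro g' a' hg'
    obtain ⟨g, hg⟩ := QuotientGroup.mk_surjective (α.symm (QuotientGroup.mk g'))
    have hαg : α (QuotientGroup.mk g) = QuotientGroup.mk g' := by rw [hg, MulEquiv.apply_symm_apply]
    obtain ⟨a, ha⟩ := fr.exists_isTor_of_fix (g := g) (hf.bij.1 (by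
      rw [hf.equiv, hfP, hαg]; exact mem_stabilizer_iff.1 hg'.stab_P)) (hf.bij.1 (by
      rw [hf.equiv, hfS, hαg]; exact mem_stabilizer_iff.1 hg'.stab_S))
    refine ⟨g, a, ha, fun z hz => ?_⟩
    obtain ⟨g'', a'', hg'', hφ'', -, he⟩ := htor g a ha
    rw [hαg] at he
    -- the lift and the multiplier are determined up to a central factor
    obtain ⟨h1', h2'⟩ := fr.tor_conj hg' (hΦc _ _ hz (hccR z hz))
    obtain ⟨h1'', h2''⟩ := fr.tor_conj hg'' (hΦc _ _ hz (hccR z hz))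
    rw [← he, h2'] at h2''
    rw [hφ'' z hz]
    exact (fr.rad_inj (fr.M.smul_mem _ (hg'.map_M (hφM z hz))) (fr.M.smul_mem _ (hg''.map_M (hφM z hz))) h1' h1''
      h2'').1.symm
  -- semilinearity
  have hD : ∀ x : F, ∃ d : F, ∀ z ∈ fr.M, φ (x • z) = d • φ z := by
    intro x
    obtain ⟨d, hd⟩ := commutant fr (fun w => φ (x • ψ w)) (fun w hw => hφM _ (fr.M.smul_mem _ (hψM w hw)))
      (fun w hw w' hw' => by
        rw [← hφadd _ (fr.M.smul_mem _ (hψM w hw)) _ (fr.M.smul_mem _ (hψM w' hw')), ← smul_add]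
        refine congrArg (fun u => φ (x • u)) (hφinj _ (hψM _ (fr.M.add_mem hw hw'))
          _ (fr.M.add_mem (hψM w hw) (hψM w' hw')) ?_)
        rw [hψ _ (fr.M.add_mem hw hw'), hφadd _ (hψM w hw) _ (hψM w' hw'), hψ w hw, hψ w' hw'])
      (fun g' a' hg' w hw => by
        obtain ⟨g, a, hg, hga⟩ := htor' g' a' hg'
        have hwM : σ a' • g'.1.1 w ∈ fr.M := fr.M.smul_mem _ (hg'.map_M hw)
        have e : ψ (σ a' • g'.1.1 w) = σ a • g.1.1 (ψ w) :=
          hφinj _ (hψM _ hwM) _ (fr.M.smul_mem _ (hg.map_M (hψM w hw)))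
            (by rw [hψ _ hwM, hga _ (hψM w hw), hψ w hw])
        show φ (x • ψ _) = σ a' • g'.1.1 (φ (x • ψ w))
        rw [e, smul_comm, ← map_smul, hga _ (fr.M.smul_mem _ (hψM w hw))])
    refine ⟨d, fun z hz => ?_⟩
    have h := hd (φ z) (hφM z hz)
    rwa [show ψ (φ z) = z from hφinj _ (hψM _ (hφM z hz)) _ hz (hψ _ (hφM z hz))] at h
  choose τf hτf using hD
  set e0 := fr.e ⟨0, fr.m_pos⟩ with he0
  have he0M : e0 ∈ fr.M := fr.e_mem _
  have hφe0 : φ e0 ≠ 0 := fun h => fr.e_ne _ (hφker _ he0M h)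
  let τ : F →+* F :=
    { toFun := τf
      map_one' := smul_left_injective F hφe0 (show τf 1 • φ e0 = (1 : F) • φ e0 by
        rw [← hτf 1 _ he0M, one_smul, one_smul])
      map_zero' := smul_left_injective F hφe0 (show τf 0 • φ e0 = (0 : F) • φ e0 by
        rw [← hτf 0 _ he0M, zero_smul, zero_smul, hφ0])
      map_add' := fun x y => smul_left_injective F hφe0 (show τf (x + y) • φ e0 = (τf x + τf y) • φ e0 by
        rw [← hτf _ _ he0M, add_smul, add_smul, hφadd _ (fr.M.smul_mem _ he0M) _ (fr.M.smul_mem _ he0M),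
          hτf _ _ he0M, hτf _ _ he0M])
      map_mul' := fun x y => smul_left_injective F hφe0 (show τf (x * y) • φ e0 = (τf x * τf y) • φ e0 by
        rw [← hτf _ _ he0M, mul_smul, hτf x _ (fr.M.smul_mem _ he0M), hτf y _ he0M, smul_smul]) }
  have hτ : ∀ x, ∀ z ∈ fr.M, φ (x • z) = τ x • φ z := hτf
  have hτσ : ∀ x, τ (σ x) = σ (τ x) := fun x => by rw [hσ, hσ, map_pow]
  have hτsurj : Function.Surjective τ := Finite.surjective_of_injective τ.injective
  -- the form on the orthogonal space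
  have hcomm : ∀ z ∈ fr.M, ∀ w ∈ fr.M,
      Ψ 0 (B w z - B z w) = B (φ w) (φ z) - B (φ z) (φ w) := by
    intro z hz w hw
    have h1 := (hmul _ _ _ _ hz (hccR z hz) hw (hccR w hw)).2
    have h2 := (hmul _ _ _ _ hw (hccR w hw) hz (hccR z hz)).2
    have hd : (B w z - B z w) + σ (B w z - B z w) = 0 := by rw [map_sub, form_symm, form_symm]; ring
    have h3 := (hshift (z + w) _ _ (fr.M.add_mem hz hw)
      (by rw [add_comm z w]; exact radCond_mul (hccR w hw) (hccR z hz)) hd).2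
    rw [show cc w + cc z - B w z + (B w z - B z w) = cc z + cc w - B z w by ring, h1, add_comm z w, h2] at h3
    linear_combination -h3
  have hform : ∃ μ, μ ≠ 0 ∧ σ μ = μ ∧ (∀ z ∈ fr.M, ∀ w ∈ fr.M, B (φ z) (φ w) = μ * τ (B z w)) ∧
      ∀ d, d + σ d = 0 → Ψ 0 d = μ * τ d := by
    have hpair : ∀ z ∈ fr.M, ∀ w ∈ fr.M, ∀ x,
        Ψ 0 (σ (x * B z w) - x * B z w) = σ (τ x * B (φ z) (φ w)) - τ x * B (φ z) (φ w) := by
      intro z hz w hw x
      have h := hcomm z hz (x • w) (fr.M.smul_mem _ hw)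
      rw [hτ x w hw] at h
      simpa only [map_smulₛₗ, map_smul, LinearMap.smul_apply, smul_eq_mul, RingHom.id_apply, map_mul,
        form_symm] using h
    have hfix0 : ∀ g : F, (∀ x, σ (τ x * g) = τ x * g) → g = 0 := by
      intro g hg
      by_contra hg0
      obtain ⟨t, ht⟩ := hB.herm.conj.exists_not_fixed
      obtain ⟨x, hx⟩ := hτsurj (t / g)
      have h := hg x
      rw [hx, div_mul_cancel₀ _ hg0] at h
      exact ht h
    have hee : B e0 e0 = 1 := by simp [he0, fr.ee]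
    set μ := B (φ e0) (φ e0) with hμ
    have hχ : ∀ y, Ψ 0 (σ y - y) = σ (τ y * μ) - τ y * μ := fun y => by
      have := hpair e0 he0M e0 he0M y
      rwa [hee, mul_one] at this
    have hall : ∀ z ∈ fr.M, ∀ w ∈ fr.M, B (φ z) (φ w) = μ * τ (B z w) := by
      intro z hz w hw
      rw [← sub_eq_zero]
      refine hfix0 _ fun x => ?_
      have h1 := hpair z hz w hw x
      rw [hχ, map_mul τ] at h1
      rw [mul_sub, map_sub, show τ x * (μ * τ (B z w)) = τ x * τ (B z w) * μ by ring]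
      linear_combination -h1
    refine ⟨μ, fun h0 => hφe0 (fr.nd_M (hφM _ he0M) fun i => form_refl ?_), hB.herm.self_fixed _, hall, ?_⟩
    · rw [← hψ _ (fr.e_mem i), hall _ he0M _ (hψM _ (fr.e_mem i)), h0, zero_mul]
    · intro d hd
      obtain ⟨t, ht⟩ := hB.herm.conj.exists_trace_eq (a := (1 : F)) (map_one σ)
      have e : σ (-(d * t)) - -(d * t) = d := by
        rw [map_neg, map_mul, show σ d = -d by linear_combination hd]
        linear_combination d * ht
      have h := hχ (-(d * t))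
      rw [e, map_mul σ, ← hτσ, hB.herm.self_fixed] at h
      rw [h, ← sub_mul, ← map_sub, e, mul_comm]
  obtain ⟨μ, hμ0, hμfix, hφB, hχ⟩ := hform
  -- the correction term vanishes
  let η : V → F := fun z => Ψ z (cc z) - μ * τ (cc z)
  have hΨ : ∀ z c, z ∈ fr.M → RadCond B fr.r z c → Ψ z c = μ * τ c + η z := by
    intro z c hz hc
    have hd : (c - cc z) + σ (c - cc z) = 0 := by rw [map_sub]; linear_combination hc.2.2 - hcc z
    have h := (hshift z (cc z) _ hz (hccR z hz) hd).2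
    rw [add_sub_cancel, hχ _ hd, map_sub] at h
    rw [h]; simp only [η]; ring
  have hηadd : ∀ z ∈ fr.M, ∀ w ∈ fr.M, η (z + w) = η z + η w := by
    intro z hz w hw
    have h := (hmul _ _ _ _ hz (hccR z hz) hw (hccR w hw)).2
    rw [hΨ _ _ (fr.M.add_mem hz hw) (radCond_mul (hccR z hz) (hccR w hw)), hΨ _ _ hz (hccR z hz),
      hΨ _ _ hw (hccR w hw), hφeq _ _ hz (hccR z hz), hφeq _ _ hw (hccR w hw), hφB z hz w hw, map_sub, map_add] at h
    linear_combination h
  have hη0 : η 0 = 0 := by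
    have := hηadd 0 h0M 0 h0M
    rw [add_zero] at this
    exact left_eq_add.1 this
  have hηeq : ∀ g a, fr.IsTor g a → ∀ z ∈ fr.M, η (σ a • g.1.1 z) = τ (a * σ a) * η z := by
    intro g a hg z hz
    obtain ⟨g', a', hg', -, hΨt, -⟩ := htor g a hg
    obtain ⟨d, hd0, hd⟩ := hB.herm.conj.exists_trace_zero
    have hN : a * σ a * d + σ (a * σ a * d) = 0 := by
      rw [map_mul, hB.herm.conj.norm_fixed]; linear_combination (a * σ a) * hd
    have h1 := hΨt 0 d h0M (htv hd)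
    rw [map_zero, smul_zero, hχ _ hN, hχ _ hd, map_mul τ] at h1
    have hN' : a' * σ a' = τ (a * σ a) :=
      mul_right_cancel₀ (mul_ne_zero hμ0 ((map_ne_zero τ).2 hd0)) (by linear_combination -h1)
    have h2 := hΨt z _ hz (hccR z hz)
    rw [hΨ _ _ (fr.M.smul_mem _ (hg.map_M hz)) (fr.tor_conj hg (hccR z hz)).1, hΨ _ _ hz (hccR z hz), hN',
      map_mul τ (a * σ a)] at h2
    linear_combination h2
  have hηline : ∀ (i : Fin m) (y : F), η (y • fr.e i) = 0 := by
    intro i y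
    obtain ⟨g, a, hg, hN, c, hc1, hgi⟩ : ∃ g a, fr.IsTor g a ∧ a * σ a = 1 ∧ ∃ c : F, c ≠ 1 ∧
        ∀ y, σ a • g.1.1 (y • fr.e i) = (c * y) • fr.e i := by
      have hq2 : 2 ≤ q := by
        letI := Fintype.ofFinite F
        exact two_le_of_card_sq (F := F) (q := q) (by rw [← Nat.card_eq_fintype_card]; exact hq)
      have hnorm : ∀ t : F, t ≠ 0 → σ t / t * σ (σ t / t) = 1 := fun t ht => by
        have := (map_ne_zero σ).2 ht
        rw [map_div₀, sigma_invol (B := B)]; field_simp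
      rcases Nat.lt_or_ge m 2 with hm | hm
      · obtain rfl : m = 1 := by have := fr.m_pos; omega
        have hbig : 3 ≤ q := by
          by_contra hlt
          obtain rfl : q = 2 := by omega
          obtain ⟨t, ht, ht0, ht1⟩ := hB.big (by have := fr.dim; omega)
          rw [hσ, pow_two] at ht
          exact ht1 (mul_left_cancel₀ ht0 (by rw [mul_one]; exact ht))
        obtain ⟨t, ht0, ht⟩ := exists_ratio_pow_ne (B := B) hq hσ (k := 3) (by omega) hbig
        set a := σ t / t with hadef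
        have ha1 := hnorm t ht0
        rw [← hadef] at ha1
        have ha0 : a ≠ 0 := fun h => by simp [h] at ha1
        have hsa : σ a = a⁻¹ := eq_inv_of_mul_eq_one_right ha1
        obtain ⟨g, hg, hgi, -⟩ := fr.exists_scale_one (i := i) ha0
        refine ⟨g, a, hg, ha1, (a ^ 3)⁻¹, by simpa using ht, fun y => ?_⟩
        rw [map_smul, hgi, smul_smul, smul_smul, hsa]
        congr 1; field_simp
      · haveI : Nontrivial (Fin m) := Fin.nontrivial_iff_two_le.2 hm
        obtain ⟨j, hj⟩ := exists_ne i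
        obtain ⟨t, ht0, ht⟩ := exists_ratio_pow_ne (B := B) hq hσ (k := 1) (by omega) (by omega)
        set a := σ t / t with hadef
        have ha1 := hnorm t ht0
        rw [← hadef] at ha1
        have ha0 : a ≠ 0 := fun h => by simp [h] at ha1
        have hsa : σ a = a⁻¹ := eq_inv_of_mul_eq_one_right ha1
        obtain ⟨g, hg, -, hgk⟩ := fr.exists_scale_one (i := j) ha0
        refine ⟨g, a, hg, ha1, a⁻¹, by simpa using ht, fun y => ?_⟩
        rw [map_smul, hgk i hj.symm, smul_smul, hsa]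
    have h := hηeq g a hg _ (fr.M.smul_mem (y / (c - 1)) (fr.e_mem i))
    rw [hgi, hN, map_one, one_mul] at h
    have h2 := hηadd _ (fr.M.smul_mem y (fr.e_mem i)) _ (fr.M.smul_mem (y / (c - 1)) (fr.e_mem i))
    rw [← add_smul, show y + y / (c - 1) = c * (y / (c - 1)) by
      have := sub_ne_zero.2 hc1; field_simp; ring, h] at h2
    linear_combination -h2
  have hη : ∀ z ∈ fr.M, η z = 0 := by
    intro z hz
    rw [fr.expand_M hz]
    have : ∀ T : Finset (Fin m), η (∑ k ∈ T, B (fr.e k) z • fr.e k) = 0 := by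
      intro T
      induction T using Finset.induction_on with
      | empty => simpa using hη0
      | insert k T hk ih =>
        rw [Finset.sum_insert hk, hηadd _ (fr.M.smul_mem _ (fr.e_mem k)) _
          (fr.M.sum_mem fun j _ => fr.M.smul_mem _ (fr.e_mem j)), ih, hηline, add_zero]
    exact this _
  -- the similitude
  let T : V → V := fun x => (μ * τ (B fr.s x)) • fr.r + τ (B fr.r x) • fr.s + φ (fr.pr x)
  have hTadd : ∀ x y, T (x + y) = T x + T y := fun x y => by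
    simp only [T, map_add, hφadd _ (fr.pr_mem x) _ (fr.pr_mem y), mul_add, add_smul]; abel
  have hTsmul : ∀ a x, T (a • x) = τ a • T x := fun a x => by
    simp only [T, map_smul, smul_eq_mul, map_mul, hτ a _ (fr.pr_mem x), smul_add, smul_smul]
    rw [mul_left_comm μ]
  have hTB : ∀ x y, B (T x) (T y) = μ * τ (B x y) := by
    intro x y
    have hx := hφM _ (fr.pr_mem x)
    have hy := hφM _ (fr.pr_mem y)
    have hμσ : ∀ a, σ (μ * τ a) = μ * τ (σ a) := fun a => by rw [map_mul, hμfix, hτσ]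
    conv_rhs => rw [fr.expand_pr x, fr.expand_pr y]
    simp only [T, map_add, map_smul, map_smulₛₗ, LinearMap.add_apply, LinearMap.smul_apply, smul_eq_mul,
      RingHom.id_apply, fr.rr, fr.ss, fr.rs, fr.sr, hx.1, hx.2, hy.1, hy.2, form_refl hx.1, form_refl hx.2,
      (fr.pr_mem y).1, (fr.pr_mem y).2, form_refl (fr.pr_mem x).1, form_refl (fr.pr_mem x).2,
      hφB _ (fr.pr_mem x) _ (fr.pr_mem y), map_mul, hμfix, ← hτσ, mul_zero, add_zero, zero_add, mul_one]
    ring
  have hT0 : T 0 = 0 := by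
    have := hTadd 0 0
    rw [add_zero] at this
    exact left_eq_add.1 this
  have hTinj : Function.Injective T := by
    have hker : ∀ x, T x = 0 → x = 0 := by
      intro x hx
      refine hB.nd x fun y => ?_
      have h := hTB y x
      rw [hx, map_zero, eq_comm, mul_eq_zero] at h
      exact (map_eq_zero τ).1 (h.resolve_left hμ0)
    intro x y h
    refine sub_eq_zero.1 (hker _ ?_)
    have := hTadd (x - y) y
    rw [sub_add_cancel, h] at this
    exact right_eq_add.1 this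
  have hTne : ∀ {x : V}, x ≠ 0 → T x ≠ 0 := fun hx h => hx (hTinj (h.trans hT0.symm))
  have hTiso : ∀ {x : V}, B x x = 0 → B (T x) (T x) = 0 := fun hx => by rw [hTB, hx, map_zero, mul_zero]
  -- the map of points is the one of the similitude
  have hoff : ∀ (y : V) (hy : y ≠ 0) (hy0 : B y y = 0), B fr.r y ≠ 0 →
      f (isoPt B hy hy0) = isoPt B (hTne hy) (hTiso hy0) := by
    intro y hy hy0 hry
    set b := B fr.r y with hb
    set y' := b⁻¹ • y with hy'
    have hy'0 : y' ≠ 0 := smul_ne_zero (inv_ne_zero hry) hy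
    have hy'i : B y' y' = 0 := by rw [hy', hB.herm.smul_self, hy0, mul_zero]
    have hry' : B fr.r y' = 1 := by rw [hy', map_smul, smul_eq_mul, inv_mul_cancel₀ hry]
    set z := fr.pr y' with hz
    set c := B fr.s y' with hc
    have hexp : fr.s + z + c • fr.r = y' := by
      conv_rhs => rw [fr.expand_pr y', hry', one_smul]
      rw [hz, hc]; abel
    have hzc : RadCond B fr.r z c := by
      refine ⟨fr.rr, (fr.pr_mem y').1, ?_⟩
      have h := hy'i
      rw [← hexp] at h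
      simp only [map_add, map_smul, map_smulₛₗ, LinearMap.add_apply, LinearMap.smul_apply, smul_eq_mul, fr.rr,
        fr.ss, fr.rs, fr.sr, (fr.pr_mem y').1, (fr.pr_mem y').2, form_refl (fr.pr_mem y').1,
        form_refl (fr.pr_mem y').2, hz] at h
      rw [hz]
      linear_combination h
    have e1 : isoPt B hy hy0 = uzP B fr.r z c • fr.S := by
      rw [fr.uz_smul_S (fr.pr_mem y') hzc hy'0 hy'i hexp]
      exact Subtype.ext ((Projectivization.mk_eq_mk_iff' _ _ _ _ _).2 ⟨b, by rw [hy', smul_inv_smul₀ hry]⟩)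
    have hTy' : fr.s + Φ z c + Ψ z c • fr.r = T y' := by
      rw [hφeq z c (fr.pr_mem y') hzc, hΨ z c (fr.pr_mem y') hzc, hη z (fr.pr_mem y'), add_zero]
      simp only [T, hry', map_one, one_smul, ← hz, ← hc]
      abel
    rw [e1, hf.equiv, hfS, hΦ z c (fr.pr_mem y') hzc,
      fr.uz_smul_S (hΦM z c (fr.pr_mem y') hzc) (hΦc z c (fr.pr_mem y') hzc) (hTne hy'0) (hTiso hy'i) hTy']
    exact Subtype.ext ((Projectivization.mk_eq_mk_iff' _ _ _ _ _).2 ⟨τ b⁻¹, by rw [hy', hTsmul]⟩)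
  have hpts : ∀ (x : V) (hx : x ≠ 0) (hx0 : B x x = 0), f (isoPt B hx hx0) = isoPt B (hTne hx) (hTiso hx0) := by
    intro x hx hx0
    by_cases hrx : B fr.r x ≠ 0
    · exact hoff x hx hx0 hrx
    push Not at hrx
    obtain ⟨y, hy0, hry, hxy⟩ : ∃ y, B y y = 0 ∧ B fr.r y ≠ 0 ∧ B x y ≠ 0 := by
      by_cases h : B fr.s x = 0
      · obtain ⟨w, hw, hxw⟩ := exists_partner (B := B) hx hx0
        set z := fr.pr w with hz
        obtain ⟨c, hc⟩ := hB.herm.conj.exists_trace_eq (a := -B z z) (by rw [map_neg, hB.herm.self_fixed])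
        refine ⟨fr.s + z + c • fr.r, ?_, ?_, ?_⟩
        · simp [fr.rr, fr.ss, fr.rs, fr.sr, hz, (fr.pr_mem w).1, (fr.pr_mem w).2, form_refl (fr.pr_mem w).1,
            form_refl (fr.pr_mem w).2]
          linear_combination hc
        · simp [fr.rr, fr.rs, hz, (fr.pr_mem w).1]
        · simp [hz, fr.pr_apply, form_refl h, form_refl hrx, hxw]
      · exact ⟨fr.s, fr.ss, by simp [fr.rs], fun e => h (form_refl e)⟩
    have hy : y ≠ 0 := fun e => by simp [e] at hry
    obtain ⟨c0, hc00, hc0⟩ := hB.herm.conj.exists_trace_zero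
    set k := c0 * B y x with hk
    have hk0 : k ≠ 0 := mul_ne_zero hc00 fun e => hxy (form_refl e)
    set z := x + k • y with hz
    have hrz : B fr.r z ≠ 0 := by
      rw [hz, map_add, hrx, zero_add, map_smul, smul_eq_mul]; exact mul_ne_zero hk0 hry
    have hz0 : z ≠ 0 := fun e => by simp [e] at hrz
    have hu : (uzE B y 0 c0).1.1 x = z := by
      rw [uzE_apply (radCond_tv hy0 hc0), smul_zero, add_zero, map_zero, LinearMap.zero_apply, sub_zero]
    have hzi : B z z = 0 := by rw [← hu, isomGroup_apply]; exact hx0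
    have hmove : uzP B y 0 c0 • isoPt B hx hx0 = isoPt B hz0 hzi :=
      smul_isoPt_eq _ hx hx0 hz0 hzi (a := 1) (by rw [one_smul, hu])
    have hYrot : α (uzP B y 0 c0) ∈ rootGrp (isoPt B (hTne hy) (hTiso hy0)) := by
      rw [← hoff y hy hy0 hry, ← hf.root]
      exact Subgroup.mem_map_of_mem α.toMonoidHom ((mem_rootGrp hy hy0).2 ⟨c0, hc0, rfl⟩)
    obtain ⟨d, hd, hαu⟩ := (mem_rootGrp (hTne hy) (hTiso hy0)).1 (Subgroup.inv_mem _ hYrot)
    have hfx : f (isoPt B hx hx0) = uzP B (T y) 0 d • isoPt B (hTne hz0) (hTiso hzi) := by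
      rw [← hαu, ← hoff z hz0 hzi hrz, ← hmove, hf.equiv, inv_smul_smul]
    obtain ⟨e, he⟩ := hτsurj (d * B (T y) (T z))
    set w := z + e • y with hw
    have hTw : T w = (uzE B (T y) 0 d).1.1 (T z) := by
      rw [uzE_apply (radCond_tv (hTiso hy0) hd), smul_zero, add_zero, map_zero, LinearMap.zero_apply, sub_zero,
        hw, hTadd, hTsmul, he]
    have hwi : B w w = 0 := by
      have h : B (T w) (T w) = 0 := by rw [hTw, isomGroup_apply]; exact hTiso hzi
      rw [hTB, mul_eq_zero] at h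
      exact (map_eq_zero τ).1 (h.resolve_left hμ0)
    have hw0 : w ≠ 0 := fun e' => by
      rw [e', hT0, eq_comm, LinearEquiv.map_eq_zero_iff] at hTw
      exact hTne hz0 hTw
    rw [show uzP B (T y) 0 d • isoPt B (hTne hz0) (hTiso hzi) = isoPt B (hTne hw0) (hTiso hwi) from
      smul_isoPt_eq _ (hTne hz0) (hTiso hzi) (hTne hw0) (hTiso hwi) (a := 1) (by rw [one_smul, ← hTw])] at hfx
    have hrw : B fr.r w = 0 := by
      by_contra hrw
      rw [← hoff w hw0 hwi hrw] at hfx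
      obtain ⟨a, ha⟩ := (Projectivization.mk_eq_mk_iff' _ _ _ _ _).1 (congrArg Subtype.val (hf.bij.1 hfx).symm)
      apply hrw
      rw [← ha, map_smul, hrx, smul_zero]
    have hek : e = -k := by
      rw [hw, hz, add_assoc, ← add_smul, map_add, hrx, zero_add, map_smul, smul_eq_mul, mul_eq_zero] at hrw
      linear_combination hrw.resolve_right hry
    rw [hfx]
    refine Subtype.ext ((Projectivization.mk_eq_mk_iff' _ _ _ _ _).2 ⟨1, ?_⟩)
    rw [one_smul, hw, hz, hek, neg_smul, add_neg_cancel_right]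
  refine ⟨τ, μ, T, ⟨hTinj, Finite.surjective_of_injective hTinj⟩, hμ0, hTadd, hTsmul, hTB, fun g h hgh => ?_⟩
  refine pg_ext fun Q => ?_
  obtain ⟨X, rfl⟩ := hf.bij.2 Q
  obtain ⟨x, hx, hx0, rfl⟩ := isoPt_surjective X
  rw [← hf.equiv, mk_smul_isoPt, hpts, hpts, mk_smul_isoPt]
  exact Subtype.ext ((Projectivization.mk_eq_mk_iff' _ _ _ _ _).2 ⟨1, by rw [one_smul, hgh x]⟩)

/-- Every automorphism is induced by a semilinear similitude. -/
theorem exists_similitude (α : MulAut (PG B)) :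
    ∃ (τ : F →+* F) (μ : F) (T : V → V), Function.Bijective T ∧ μ ≠ 0 ∧ (∀ x y, T (x + y) = T x + T y) ∧
      (∀ a x, T (a • x) = τ a • T x) ∧ (∀ x y, B (T x) (T y) = μ * τ (B x y)) ∧
      ∀ g h : sIsom B, (∀ x, h.1.1 (T x) = T (g.1.1 x)) → α (QuotientGroup.mk g) = QuotientGroup.mk h := by
  obtain ⟨r, hr0, hr⟩ := exists_iso (B := B)
  obtain ⟨m, fr, rfl⟩ := exists_frame (B := B) hr0 hr
  obtain ⟨f, hf⟩ := exists_ptMap α
  obtain ⟨x1, hx1⟩ := exists_smul_eq (PG B) (f fr.P) fr.P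
  obtain ⟨y, hy, hy0, hY⟩ := isoPt_surjective (x1 • f fr.S)
  have hry : B fr.r y ≠ 0 := by
    intro h
    have h1 : B (x1 • f fr.P).1.rep (x1 • f fr.S).1.rep = 0 := by
      rw [hx1, hY, orth_isoPt]; exact h
    rw [orth_smul, hf.orth, orth_isoPt, fr.rs] at h1
    exact one_ne_zero h1
  set b := B fr.r y with hb
  set y' := b⁻¹ • y with hy'
  have hy'0 : y' ≠ 0 := smul_ne_zero (inv_ne_zero hry) hy
  have hy'i : B y' y' = 0 := by rw [hy', hB.herm.smul_self, hy0, mul_zero]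
  have hry' : B fr.r y' = 1 := by rw [hy', map_smul, smul_eq_mul, inv_mul_cancel₀ hry]
  have hexp : fr.s + fr.pr y' + B fr.s y' • fr.r = y' := by
    conv_rhs => rw [fr.expand_pr y', hry', one_smul]
    abel
  have hzc : RadCond B fr.r (fr.pr y') (B fr.s y') := by
    refine ⟨fr.rr, (fr.pr_mem y').1, ?_⟩
    have h := hy'i
    rw [← hexp] at h
    simp only [map_add, map_smul, map_smulₛₗ, LinearMap.add_apply, LinearMap.smul_apply, smul_eq_mul, fr.rr,
      fr.ss, fr.rs, fr.sr, (fr.pr_mem y').1, (fr.pr_mem y').2, form_refl (fr.pr_mem y').1,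
      form_refl (fr.pr_mem y').2] at h
    linear_combination h
  set u := uzP B fr.r (fr.pr y') (B fr.s y') with hu
  have huS : u • fr.S = x1 • f fr.S := by
    rw [hu, fr.uz_smul_S (fr.pr_mem y') hzc hy'0 hy'i hexp, hY]
    exact Subtype.ext ((Projectivization.mk_eq_mk_iff' _ _ _ _ _).2 ⟨b⁻¹, hy'.symm⟩)
  have huP : u • fr.P = fr.P :=
    mem_stabilizer_iff.1 (radGrp_le_stab _ ((mem_radGrp fr.r_ne fr.rr).2 ⟨_, _, hzc, rfl⟩))
  obtain ⟨k, hk⟩ := QuotientGroup.mk_surjective (u⁻¹ * x1)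
  obtain ⟨τ, μ, T, hT, hμ, hadd, hsmul, hTB, hmain⟩ := pinned fr (MulAut.conj (u⁻¹ * x1) * α) (hf.conj (u⁻¹ * x1))
    (by rw [mul_smul, hx1, inv_smul_eq_iff, huP]) (by rw [mul_smul, ← huS, inv_smul_smul])
  refine ⟨τ, μ, fun x => (k⁻¹ : sIsom B).1.1 (T x), (k⁻¹ : sIsom B).1.1.bijective.comp hT, hμ,
    fun x y => by simp only [hadd, map_add], fun a x => by simp only [hsmul, map_smul],
    fun x y => by simp only [isomGroup_apply, hTB], fun g h hgh => ?_⟩
  have e := hmain g (k * h * k⁻¹) fun x => by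
    show k.1.1 (h.1.1 ((k⁻¹ : sIsom B).1.1 (T x))) = _
    rw [hgh x]
    exact k.1.1.apply_symm_apply _
  rw [MulAut.mul_apply, MulAut.conj_apply, ← hk, QuotientGroup.mk_mul, QuotientGroup.mk_mul, QuotientGroup.mk_inv] at e
  exact mul_left_cancel (mul_right_cancel e)

end CfsgLib.KnownC.AutPSU
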