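import Cfsg.Agent.Lib.KnownC.AutPSU.Radical
import Cfsg.Agent.Lib.KnownC.AutPSU.Count
import Cfsg.Agent.Lib.Classical.HermMax
import Mathlib.GroupTheory.GroupAction.Primitive
import Mathlib.GroupTheory.PGroup

/-!
# Automorphisms of `PG B` map point stabilisers to point stabilisers and transvection groups to transvection groups
-/

set_option autoImplicit false
set_option linter.unusedSectionVars false

open Module MulAction
open scoped LinearAlgebra.Projectivization

namespace CfsgLib.KnownC.AutPSU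

open CfsgLib.Classical

variable {F : Type*} [Field F] {V : Type*} [AddCommGroup V] [Module F V] {σ : F →+* F}
  {B : V →ₛₗ[σ] V →ₗ[F] F} [hB : UCtx B]
include hB

theorem isoPt_rep (P : IsoPts B) : P = isoPt B (Projectivization.rep_nonzero P.1) P.2 :=
  Subtype.ext (Projectivization.mk_rep P.1).symm

theorem root_pow {r : V} (hr : B r r = 0) {c : F} (hc : c + σ c = 0) :
    ∀ k : ℕ, uzE B r 0 c ^ k = uzE B r 0 ((k : F) * c) := by
  intro k
  induction k with
  | zero => rw [pow_zero, Nat.cast_zero, zero_mul, uzE_zero hr]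
  | succ k ih =>
    have hk : (k : F) * c + σ ((k : F) * c) = 0 := by
      rw [map_mul, map_natCast]; linear_combination (k : F) * hc
    rw [pow_succ, ih, uzE_mul (radCond_tv hr hk) (radCond_tv hr hc), add_zero, map_zero, sub_zero, Nat.cast_succ,
      add_mul, one_mul]

theorem rootGrp_pow_char {P : IsoPts B} {p : ℕ} [CharP F p] {x : PG B} (hx : x ∈ rootGrp P) : x ^ p = 1 := by
  obtain ⟨c, hc, rfl⟩ := hx
  rw [uzP, ← QuotientGroup.mk_pow, root_pow P.2 hc, CharP.cast_eq_zero, zero_mul, uzE_zero P.2, QuotientGroup.mk_one]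

theorem perp_finrank (W : Submodule F V) : finrank F W + finrank F (perp B W) = finrank F V := by
  haveI := hB.fin; haveI := hB.findim
  let b := Module.finBasis F W
  let T : V →ₗ[F] (Fin (finrank F W) → F) := LinearMap.pi fun i => B (b i : V)
  have hT : LinearMap.ker T = perp B W := by
    ext x
    rw [LinearMap.mem_ker, mem_perp]
    constructor
    · intro h w hw
      have hw' : (⟨w, hw⟩ : W) = ∑ i, b.repr ⟨w, hw⟩ i • b i := (b.sum_repr _).symm
      have hw'' : w = ∑ i, b.repr ⟨w, hw⟩ i • (b i : V) := by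
        have h2 := congrArg (fun u : W => (u : V)) hw'
        simpa only [AddSubmonoidClass.coe_finsetSum, Submodule.coe_smul] using h2
      rw [hw'', map_sum, LinearMap.sum_apply]
      refine Finset.sum_eq_zero fun i _ => ?_
      rw [map_smulₛₗ, LinearMap.smul_apply, show B (b i : V) x = 0 from congrFun h i, smul_zero]
    · exact fun h => funext fun i => h _ (b i).2
  have hsurj : LinearMap.range T = ⊤ := by
    rw [LinearMap.range_eq_top]
    intro f
    obtain ⟨φ, hφ⟩ := LinearMap.exists_extend (b.constr F fun i => σ (f i))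
    obtain ⟨z, hz⟩ := hB.herm.exists_form_eq hB.nd φ
    refine ⟨z, funext fun i => ?_⟩
    show B (b i : V) z = f i
    have h2 : φ (b i : V) = σ (f i) := by
      have := LinearMap.congr_fun hφ (b i)
      simpa using this
    rw [← form_symm (B := B), hz, h2, sigma_invol (B := B)]
  have := LinearMap.finrank_range_add_finrank_ker T
  rw [hT, hsurj, finrank_top, Module.finrank_pi, Fintype.card_fin] at this
  exact this

/-! ### Stabilisers of totally isotropic subspaces -/

theorem map_tsub_mem {k : ℕ} (g : sIsom B) (W : TSub B k) :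
    finrank F (W.1.map (g.1.1 : V →ₗ[F] V)) = k ∧
      ∀ u ∈ W.1.map (g.1.1 : V →ₗ[F] V), ∀ v ∈ W.1.map (g.1.1 : V →ₗ[F] V), B u v = 0 := by
  refine ⟨(LinearEquiv.finrank_map_eq g.1.1 W.1).trans W.2.1, ?_⟩
  rintro _ ⟨u, hu, rfl⟩ _ ⟨v, hv, rfl⟩
  exact (g.1.2 u v).trans (W.2.2 u hu v hv)

noncomputable instance tsubAction (k : ℕ) : MulAction (sIsom B) (TSub B k) where
  smul g W := ⟨W.1.map (g.1.1 : V →ₗ[F] V), map_tsub_mem g W⟩
  one_smul W := Subtype.ext (Submodule.map_id W.1)
  mul_smul g h W := Subtype.ext (by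
    show W.1.map ((g * h).1.1 : V →ₗ[F] V) = (W.1.map (h.1.1 : V →ₗ[F] V)).map (g.1.1 : V →ₗ[F] V)
    rw [← Submodule.map_comp]; rfl)

theorem tsub_pretransitive {k : ℕ} : IsPretransitive (sIsom B) (TSub B k) := by
  haveI := hB.fin; haveI := hB.findim
  letI := Fintype.ofFinite F
  refine ⟨fun W W' => ?_⟩
  obtain ⟨g, hg⟩ := hB.herm.exists_map_tsub hB.nd W W'
  have hd : idet B g ≠ 0 := fun e => by simpa [e] using hB.herm.idet_norm hB.nd g
  obtain ⟨t, ht, hdet⟩ := hB.herm.exists_stab_det hB.nd (by have := hB.three; omega) W (l := (idet B g)⁻¹)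
    (by rw [map_inv₀, ← mul_inv, hB.herm.idet_norm hB.nd, inv_one])
  refine ⟨⟨g * t, MonoidHom.mem_ker.2 (by rw [map_mul, hdet, mul_inv_cancel₀ hd])⟩, Subtype.ext ?_⟩
  show W.1.map ((g * t).1 : V →ₗ[F] V) = W'.1
  rw [← hg]
  conv_rhs => rw [← mem_isomStab.1 ht]
  rw [← Submodule.map_comp]; rfl

/-- The stabiliser of a totally isotropic subspace in `PG B`. -/
noncomputable def stabW {k : ℕ} (W : TSub B k) : Subgroup (PG B) :=
  (stabilizer (sIsom B) W).map (QuotientGroup.mk' _)

theorem center_fix_tsub {k : ℕ} {z : sIsom B} (hz : z ∈ Subgroup.center (sIsom B)) (W : TSub B k) : z • W = W := by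
  haveI := hB.findim
  refine Subtype.ext (Submodule.eq_of_le_of_finrank_eq ?_ ((map_tsub_mem z W).1.trans W.2.1.symm))
  rintro _ ⟨v, hv, rfl⟩
  rcases eq_or_ne v 0 with rfl | hv0
  · simp
  obtain ⟨l, -, hl⟩ := center_smul hz hv0 (W.2.2 v hv v hv)
  exact (show (z.1.1 : V →ₗ[F] V) v = l • v from hl) ▸ W.1.smul_mem l hv

theorem comap_stabW {k : ℕ} (W : TSub B k) :
    (stabW W).comap (QuotientGroup.mk' _) = stabilizer (sIsom B) W := by
  rw [stabW, Subgroup.comap_map_eq, QuotientGroup.ker_mk', sup_eq_left]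
  exact fun z hz => center_fix_tsub hz W

theorem mk_mem_stabW {k : ℕ} {W : TSub B k} {g : sIsom B} :
    (QuotientGroup.mk g : PG B) ∈ stabW W ↔ g • W = W := by
  rw [← mem_stabilizer_iff, ← comap_stabW W]
  rfl

theorem index_stabW {k : ℕ} (W : TSub B k) : (stabW W).index = Nat.card (TSub B k) := by
  haveI := tsub_pretransitive (B := B) (k := k)
  rw [← Subgroup.index_comap_of_surjective (f := QuotientGroup.mk' (Subgroup.center (sIsom B))) (stabW W)
    (QuotientGroup.mk'_surjective _), comap_stabW, index_stabilizer_of_transitive]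

/-- The line of a point. -/
noncomputable def ptLine {v : V} (hv : v ≠ 0) (h0 : B v v = 0) : TSub B 1 :=
  ⟨F ∙ v, finrank_span_singleton hv, fun a ha b hb => by
    obtain ⟨x, rfl⟩ := Submodule.mem_span_singleton.1 ha
    obtain ⟨y, rfl⟩ := Submodule.mem_span_singleton.1 hb
    simp [h0]⟩

theorem stabW_ptLine {v : V} (hv : v ≠ 0) (h0 : B v v = 0) :
    stabW (ptLine hv h0) = stabilizer (PG B) (isoPt B hv h0) := by
  ext x
  obtain ⟨g, rfl⟩ := QuotientGroup.mk_surjective x
  rw [mk_mem_stabW, mem_stabilizer_iff, mk_smul_isoPt g hv h0]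
  have hgv : g.1.1 v ≠ 0 := by simpa using hv
  have hmap : (F ∙ v).map (g.1.1 : V →ₗ[F] V) = F ∙ g.1.1 v := by
    rw [Submodule.map_span, Set.image_singleton]; rfl
  refine ⟨fun h => ?_, fun h => ?_⟩
  · have h' := congrArg Subtype.val h
    change (F ∙ v).map _ = F ∙ v at h'
    rw [hmap] at h'
    refine Subtype.ext ((Projectivization.mk_eq_mk_iff' _ _ _ _ _).2 ?_)
    exact Submodule.mem_span_singleton.1 (h' ▸ Submodule.mem_span_singleton_self _)
  · obtain ⟨a, ha⟩ := (Projectivization.mk_eq_mk_iff' _ _ _ _ _).1 (congrArg Subtype.val h)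
    refine Subtype.ext ?_
    show (F ∙ v).map _ = F ∙ v
    rw [hmap, ← ha, Submodule.span_singleton_smul_eq (isUnit_iff_ne_zero.2 fun h0' => hgv (by rw [← ha, h0', zero_smul]))]

theorem isCoatom_stab (P : IsoPts B) : IsCoatom (stabilizer (PG B) P) := by
  haveI := nontrivial_pts (B := B)
  haveI := isPreprimitive (B := B)
  exact (isCoatom_stabilizer_iff_preprimitive (PG B) P).2 inferInstance

theorem exists_fixed_iso (α : MulAut (PG B)) (P0 : IsoPts B) :
    ∃ (k : ℕ) (W : TSub B k), 1 ≤ k ∧ (stabilizer (PG B) P0).map α.toMonoidHom ≤ stabW W := by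
  haveI := hB.fin; haveI := hB.findim
  haveI := finite_sIsom (B := B)
  haveI : Finite V := Module.finite_of_finite F
  letI := Fintype.ofFinite F
  obtain ⟨p, _⟩ := CharP.exists F
  haveI hp : Fact p.Prime := ⟨CharP.char_is_prime F p⟩
  set A : Subgroup (PG B) := (rootGrp P0).map α.toMonoidHom with hA
  have hAp : ∀ x ∈ A, x ^ p = 1 := by
    rintro _ ⟨y, hy, rfl⟩
    rw [← map_pow, rootGrp_pow_char hy, map_one]
  have hAc : ∀ x ∈ A, ∀ y ∈ A, x * y = y * x := by
    rintro _ ⟨x, ⟨c, hc, rfl⟩, rfl⟩ _ ⟨y, ⟨d, hd, rfl⟩, rfl⟩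
    rw [← map_mul, ← map_mul]
    congr 1
    rw [uzP, uzP, ← QuotientGroup.mk_mul, ← QuotientGroup.mk_mul, uzE_mul (radCond_tv P0.2 hc) (radCond_tv P0.2 hd),
      uzE_mul (radCond_tv P0.2 hd) (radCond_tv P0.2 hc), add_comm c]
  let S : Subgroup (sIsom B) :=
    { carrier := {g | (QuotientGroup.mk g : PG B) ∈ A ∧ g ^ p = 1}
      one_mem' := ⟨A.one_mem, one_pow p⟩
      inv_mem' := fun {g} hg => ⟨by rw [QuotientGroup.mk_inv]; exact A.inv_mem hg.1, by rw [inv_pow, hg.2, inv_one]⟩
      mul_mem' := fun {g h} hg hh => by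
        have hz : g * h * g⁻¹ * h⁻¹ ∈ Subgroup.center (sIsom B) := by
          rw [← QuotientGroup.eq_one_iff]
          simp only [QuotientGroup.mk_mul, QuotientGroup.mk_inv]
          rw [hAc _ hg.1 _ hh.1]; group
        have hconj : (g * h * g⁻¹) ^ p = 1 := by
          rw [← MulAut.conj_apply, ← map_pow, hh.2, map_one]
        have h1 : g * h * g⁻¹ * h⁻¹ = 1 := by
          refine center_pow_eq_one hz (p := p) ?_
          have hcomm : Commute (g * h * g⁻¹ * h⁻¹) h := (Subgroup.mem_center_iff.1 hz h).symm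
          have e : (g * h * g⁻¹ * h⁻¹ * h) ^ p = (g * h * g⁻¹ * h⁻¹) ^ p * h ^ p := hcomm.mul_pow p
          rw [hh.2, mul_one, inv_mul_cancel_right, hconj] at e
          exact e.symm
        have hcm : Commute g h := by
          show g * h = h * g
          rw [mul_inv_eq_one] at h1
          conv_rhs => rw [← h1]
          group
        exact ⟨by rw [QuotientGroup.mk_mul]; exact A.mul_mem hg.1 hh.1, by rw [hcm.mul_pow, hg.2, hh.2, one_mul]⟩ }
  have hS : IsPGroup p S := fun g => ⟨1, Subtype.ext (by rw [pow_one, Subgroup.coe_pow]; exact g.2.2)⟩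
  have hfixD : ∀ D : Submodule F V, D ≠ ⊥ → (∀ g ∈ S, ∀ x ∈ D, g.1.1 x ∈ D) →
      ∃ x ∈ D, x ≠ 0 ∧ ∀ g ∈ S, g.1.1 x = x := by
    intro D hD hinv
    let act : MulAction S D :=
      { smul := fun g x => ⟨(g : sIsom B).1.1 (x : V), hinv g g.2 x x.2⟩
        one_smul := fun x => Subtype.ext rfl
        mul_smul := fun g h x => Subtype.ext rfl }
    have hdvd : p ∣ Nat.card D := by
      rw [Module.natCard_eq_pow_finrank (K := F) (V := D)]
      obtain ⟨f, -, hf⟩ := FiniteField.card F p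
      refine dvd_pow ?_ (fun h0 => hD (Submodule.finrank_eq_zero.1 h0))
      rw [Nat.card_eq_fintype_card, hf]
      exact dvd_pow_self p f.ne_zero
    have h0 : (0 : D) ∈ fixedPoints S D := fun g => Subtype.ext (map_zero (g : sIsom B).1.1)
    obtain ⟨x, hx, hx0⟩ := hS.exists_fixed_point_of_prime_dvd_card_of_fixed_point D hdvd h0
    exact ⟨x, x.2, fun h => hx0 (Subtype.ext h.symm), fun g hg => congrArg Subtype.val (hx ⟨g, hg⟩)⟩
  let C : Submodule F V := ⨅ g : S, LinearMap.ker (((g : sIsom B).1.1 : V →ₗ[F] V) - LinearMap.id)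
  have hC : ∀ x, x ∈ C ↔ ∀ g ∈ S, g.1.1 x = x := fun x => by
    simp [C, Submodule.mem_iInf, LinearMap.mem_ker, sub_eq_zero]
  have hne : C ⊓ perp B C ≠ ⊥ := by
    intro hbot
    have hperp : perp B C ≠ ⊥ := by
      intro h
      have hCtop : C = ⊤ := by
        refine Submodule.eq_top_of_finrank_eq ?_
        have := perp_finrank (B := B) C
        rw [h, finrank_bot, add_zero] at this
        exact this
      obtain ⟨y, hy, hy1⟩ := exists_root_ne_one (B := B) P0
      obtain ⟨g, hg, hgp⟩ := exists_lift (x := α y) (by rw [← map_pow, rootGrp_pow_char hy, map_one])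
      have hgS : g ∈ S := ⟨hg.symm ▸ ⟨y, hy, rfl⟩, hgp⟩
      have hg1 : g = 1 := sisom_ext fun x => (hC x).1 (hCtop ▸ Submodule.mem_top) g hgS
      rw [hg1, QuotientGroup.mk_one] at hg
      exact hy1 (α.injective (by rw [map_one]; exact hg.symm))
    obtain ⟨x, hxD, hx0, hx⟩ := hfixD _ hperp (fun g hg x hx => mem_perp.2 fun w hw => by
      rw [← (hC w).1 hw g hg, isomGroup_apply]
      exact mem_perp.1 hx w hw)
    exact hx0 ((Submodule.mem_bot F).1 (hbot ▸ ⟨(hC x).2 hx, hxD⟩))
  refine ⟨finrank F ↥(C ⊓ perp B C), ⟨C ⊓ perp B C, rfl, fun a ha b hb => mem_perp.1 (Submodule.mem_inf.1 hb).2 a (Submodule.mem_inf.1 ha).1⟩,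
    Nat.one_le_iff_ne_zero.2 fun h => hne (Submodule.finrank_eq_zero.1 h), ?_⟩
  rintro _ ⟨y, hy, rfl⟩
  obtain ⟨t, ht⟩ := QuotientGroup.mk_surjective (α y)
  show α y ∈ _
  rw [← ht]
  refine mk_mem_stabW.2 ?_
  have hnorm : ∀ g ∈ S, t⁻¹ * g * t ∈ S := by
    rintro g ⟨⟨a, ha, hga⟩, hg⟩
    refine ⟨⟨y⁻¹ * a * y, ?_, ?_⟩, ?_⟩
    · have := conj_root_mem y⁻¹ P0 ha
      rwa [inv_inv, mem_stabilizer_iff.1 (inv_mem hy)] at this
    · change α (y⁻¹ * a * y) = _
      change α a = _ at hga
      rw [map_mul, map_mul, map_inv, hga, ← ht]; rfl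
    · have e : (MulAut.conj t⁻¹ g) ^ p = 1 := by rw [← map_pow, hg, map_one]
      rwa [MulAut.conj_apply, inv_inv] at e
  have hmap : ∀ x ∈ C, t.1.1 x ∈ C := fun x hx => (hC _).2 fun g hg => by
    have h2 := (hC x).1 hx _ (hnorm g hg)
    have h3 := congrArg t.1.1 h2
    change t.1.1 ((t⁻¹ : sIsom B).1.1 (g.1.1 (t.1.1 x))) = _ at h3
    rwa [show ∀ v, t.1.1 ((t⁻¹ : sIsom B).1.1 v) = v from t.1.1.apply_symm_apply] at h3
  refine Subtype.ext (Submodule.eq_of_le_of_finrank_eq ?_ (LinearEquiv.finrank_map_eq t.1.1 _))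
  have hCmap : C.map (t.1.1 : V →ₗ[F] V) = C :=
    Submodule.eq_of_le_of_finrank_eq (by rintro _ ⟨x, hx, rfl⟩; exact hmap x hx)
      (LinearEquiv.finrank_map_eq t.1.1 C)
  rintro _ ⟨x, hx, rfl⟩
  refine ⟨hmap x hx.1, mem_perp.2 fun w hw => ?_⟩
  obtain ⟨w', hw', rfl⟩ := hCmap.ge hw
  exact (t.1.2 w' x).trans (mem_perp.1 hx.2 w' hw')

theorem exists_stab_image (α : MulAut (PG B)) (P0 : IsoPts B) :
    ∃ Q0 : IsoPts B, (stabilizer (PG B) P0).map α.toMonoidHom = stabilizer (PG B) Q0 := by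
  haveI := hB.fin; haveI := hB.findim
  haveI := finite_sIsom (B := B)
  letI := Fintype.ofFinite F
  obtain ⟨q, hq, hσ⟩ := hB.frob
  have hF : Fintype.card F = q ^ 2 := by rw [← Nat.card_eq_fintype_card]; exact hq
  obtain ⟨k, W, hk, hle⟩ := exists_fixed_iso α P0
  have hkn : 2 * k ≤ finrank F V := by
    have h1 : W.1 ≤ perp B W.1 := fun x hx => mem_perp.2 fun w hw => W.2.2 w hw x hx
    have h2 := Submodule.finrank_mono h1
    have h3 := perp_finrank (B := B) W.1
    have := W.2.1
    omega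
  have hv : (P0.1.rep) ≠ 0 := Projectivization.rep_nonzero _
  have hidx : (stabilizer (PG B) P0).index = Nat.card (TSub B 1) := by
    rw [isoPt_rep P0, ← stabW_ptLine hv P0.2, index_stabW]
  have hidx' : ((stabilizer (PG B) P0).map α.toMonoidHom).index = Nat.card (TSub B 1) := by
    rw [Subgroup.index_map_of_injective _ (show Function.Injective α.toMonoidHom from α.injective),
      MonoidHom.range_eq_top.2 (show Function.Surjective α.toMonoidHom from α.surjective), Subgroup.index_top,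
      mul_one, hidx]
  have hco : IsCoatom ((stabilizer (PG B) P0).map α.toMonoidHom) := by
    have := isCoatom_stab (B := B) P0
    refine ⟨fun h => this.1 ?_, fun K hK => ?_⟩
    · exact Subgroup.map_injective α.injective (h.trans (Subgroup.map_top_of_surjective _ α.surjective).symm)
    · have h1 : stabilizer (PG B) P0 < K.comap α.toMonoidHom := by
        rw [← Subgroup.map_lt_map_iff_of_injective (f := α.toMonoidHom) α.injective,
          Subgroup.map_comap_eq_self_of_surjective α.surjective]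
        exact hK
      rw [← Subgroup.map_comap_eq_self_of_surjective (f := α.toMonoidHom) α.surjective K, this.2 _ h1,
        Subgroup.map_top_of_surjective _ α.surjective]
  have hpts : 2 ≤ Nat.card (IsoPts B) := by
    haveI : Finite V := Module.finite_of_finite F
    haveI := nontrivial_pts (B := B)
    exact Finite.one_lt_card
  have hWne : stabW W ≠ ⊤ := by
    intro h
    haveI : Finite V := Module.finite_of_finite F
    have h1 : Nat.card (TSub B k) = 1 := by rw [← index_stabW W, h, Subgroup.index_top]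
    -- one totally isotropic subspace would contain every isotropic vector
    obtain ⟨r, hrW, hr0⟩ : ∃ r ∈ W.1, r ≠ 0 := by
      by_contra hall
      push Not at hall
      have : W.1 = ⊥ := (Submodule.eq_bot_iff _).2 hall
      have h2 := W.2.1
      rw [this, finrank_bot] at h2
      omega
    have hall : ∀ v : V, v ≠ 0 → B v v = 0 → v ∈ W.1 := by
      intro v hv0 hv
      obtain ⟨g, hg⟩ := exists_smul_eq (PG B) (isoPt B hr0 (W.2.2 r hrW r hrW)) (isoPt B hv0 hv)
      obtain ⟨g, rfl⟩ := QuotientGroup.mk_surjective g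
      rw [mk_smul_isoPt] at hg
      obtain ⟨a, ha⟩ := (Projectivization.mk_eq_mk_iff' _ _ _ _ _).1 (congrArg Subtype.val hg)
      have hfix : g • W = W := mk_mem_stabW.1 (h ▸ Subgroup.mem_top _)
      have hgr : g.1.1 r ∈ W.1 := by
        rw [← congrArg Subtype.val hfix]; exact ⟨r, hrW, rfl⟩
      rcases eq_or_ne a 0 with rfl | ha0
      · rw [zero_smul] at ha; exact absurd ha.symm (by simpa using hr0)
      · rw [← inv_smul_smul₀ ha0 v, ha]; exact W.1.smul_mem _ hgr
    obtain ⟨s, hs, hrs⟩ := exists_partner (B := B) hr0 (W.2.2 r hrW r hrW)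
    have hs0 : s ≠ 0 := fun e => by simp [e] at hrs
    rw [W.2.2 r hrW s (hall s hs0 hs)] at hrs
    exact zero_ne_one hrs
  have heq : (stabilizer (PG B) P0).map α.toMonoidHom = stabW W := ((hco.le_iff_eq hWne).1 hle).symm
  obtain rfl : k = 1 := by
    by_contra hk1
    refine card_tsub_ne hF hσ hB.herm hB.nd (k := k) (by omega) hkn ?_
    rw [← index_stabW W, ← heq, hidx']
  obtain ⟨v, hv0, hWv⟩ : ∃ v, v ≠ 0 ∧ W.1 = F ∙ v := by
    obtain ⟨v, hv0, hspan⟩ := finrank_eq_one_iff'.1 W.2.1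
    refine ⟨v, fun e => hv0 (Subtype.ext e), le_antisymm (fun x hx => ?_) ?_⟩
    · obtain ⟨a, ha⟩ := hspan ⟨x, hx⟩
      exact Submodule.mem_span_singleton.2 ⟨a, congrArg Subtype.val ha⟩
    · rw [Submodule.span_singleton_le_iff_mem]; exact v.2
  have hvW : v ∈ W.1 := hWv ▸ Submodule.mem_span_singleton_self v
  refine ⟨isoPt B hv0 (W.2.2 v hvW v hvW), ?_⟩
  rw [heq, ← stabW_ptLine]
  congr 1
  exact Subtype.ext hWv

theorem eq_uzE_of_unipotent {r : V} (hr0 : r ≠ 0) (hr : B r r = 0) {g : sIsom B} (hgr : g.1.1 r = r)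
    (hcase : ∀ z, B r z = 0 → ∃ t : F, g.1.1 z - z = t • r) :
    ∃ z c, RadCond B r z c ∧ g = uzE B r z c := by
  obtain ⟨s, hs, hrs⟩ := exists_partner (B := B) hr0 hr
  have hsr : B s r = 1 := by rw [← form_symm (B := B), hrs, map_one]
  have hrg : B r (g.1.1 s) = 1 := by
    conv_lhs => rw [← hgr]
    rw [isomGroup_apply, hrs]
  set w := g.1.1 s - s with hw
  have hrw : B r w = 0 := by rw [hw, map_sub, hrg, hrs, sub_self]
  have hgs : g.1.1 s = s + w := by rw [hw]; abel
  have hwr : B w r = 0 := form_refl hrw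
  have hc : RadCond B r w (B w s) := by
    refine ⟨hr, hrw, ?_⟩
    have h2 := isomGroup_apply g.1 s s
    rw [hgs, hB.herm.add_self, hs, form_symm] at h2
    rw [form_symm]
    linear_combination h2
  have hg : g = uzE B r w (B w s) := by
    refine sisom_ext fun x => ?_
    set z0 := x - B r x • s with hz0
    have hrz0 : B r z0 = 0 := by rw [hz0, map_sub, map_smul, hrs, smul_eq_mul, mul_one, sub_self]
    obtain ⟨φ, hφ⟩ := hcase z0 hrz0
    rw [sub_eq_iff_eq_add] at hφ
    have hφ' : φ = -B w z0 := by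
      have h2 := isomGroup_apply g.1 s z0
      rw [hφ, hgs] at h2
      simp only [map_add, map_smul, LinearMap.add_apply, smul_eq_mul, hsr, hwr] at h2
      linear_combination h2
    have hx : x = z0 + B r x • s := by rw [hz0]; abel
    conv_lhs => rw [hx, map_add, map_smul, hφ, hgs, hφ']
    rw [uzE_apply hc, hz0, map_sub (B w), map_smul, smul_eq_mul]
    module
  exact ⟨w, B w s, hc, hg⟩

/-- A normal subgroup of a point stabiliser of order `q` is the transvection group. -/
theorem root_unique {Q : IsoPts B} {A : Subgroup (PG B)} (hle : A ≤ stabilizer (PG B) Q)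
    (hA : ∀ x ∈ stabilizer (PG B) Q, ∀ a ∈ A, x * a * x⁻¹ ∈ A) {p : ℕ} [Fact p.Prime] [CharP F p]
    (hp : ∀ a ∈ A, a ^ p = 1) (hne : ∃ a ∈ A, a ≠ 1) : rootGrp Q ≤ A := by
  haveI := hB.fin; haveI := hB.findim
  set r := Q.1.rep with hr
  have hr0 : r ≠ 0 := Projectivization.rep_nonzero _
  obtain ⟨a, ha, ha1⟩ := hne
  obtain ⟨g, rfl, hgp⟩ := exists_lift (hp a ha)
  have hgr : g.1.1 r = r := by
    have h := mem_stabilizer_iff.1 (hle ha)
    rw [isoPt_rep Q, mk_smul_isoPt] at h
    obtain ⟨l, hl⟩ := (Projectivization.mk_eq_mk_iff' _ _ _ _ _).1 (congrArg Subtype.val h)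
    have hpow : ∀ k : ℕ, (g ^ k).1.1 r = l ^ k • r := by
      intro k
      induction k with
      | zero => simp
      | succ k ih =>
        rw [pow_succ']
        show g.1.1 ((g ^ k).1.1 r) = _
        rw [ih, map_smul, ← hl, smul_smul, pow_succ]
    have h1 := hpow p
    rw [hgp] at h1
    have hlp : l ^ p = 1 := smul_left_injective F hr0 (by simpa using h1.symm)
    rw [← hl, frobenius_inj F p (show frobenius F p l = frobenius F p 1 by
      rw [frobenius_def, frobenius_def, hlp, one_pow]), one_smul]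
  have fromRad : ∀ {z : V} {c : F}, RadCond B r z c → uzP B r z c ∈ A → uzP B r z c ≠ 1 → rootGrp Q ≤ A := by
    intro z c h hmem h1
    by_cases hz : ∀ t : F, z ≠ t • r
    · obtain ⟨e, he0, he, hemem⟩ := exists_root_in hA h hz hmem
      exact rootGrp_le_of_mem hA he0 he hemem
    push Not at hz
    obtain ⟨t, rfl⟩ := hz
    have h0 : RadCond B r (0 + t • r) (c + t - σ t + σ t - t) := by
      rw [zero_add, show c + t - σ t + σ t - t = c by ring]; exact h
    have hc' : (c + t - σ t) + σ (c + t - σ t) = 0 := by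
      have h2 := h.2.2
      rw [hB.herm.smul_self, h.1, mul_zero, add_zero] at h2
      rw [map_sub, map_add, sigma_invol (B := B)]
      linear_combination h2
    have e := uzE_shift (radCond_tv h.1 hc') h0
    rw [zero_add, show c + t - σ t + σ t - t = c by ring] at e
    refine rootGrp_le_of_mem hA (fun e0 => h1 ?_) hc' (by rw [uzP, e] at hmem; exact hmem)
    rw [uzP, e, e0, uzE_zero h.1, QuotientGroup.mk_one]
  by_cases hcase : ∃ z, B r z = 0 ∧ ∀ t : F, g.1.1 z - z ≠ t • r
  · obtain ⟨z, hrz, hz⟩ := hcase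
    obtain ⟨d, hd⟩ := hB.herm.conj.exists_trace_eq (a := -B z z) (by rw [map_neg, hB.herm.self_fixed])
    have h : RadCond B r z d := ⟨Q.2, hrz, by linear_combination hd⟩
    have hconj := uzE_conj h g
    rw [hgr] at hconj
    have h' : RadCond B r (g.1.1 z) d := hgr ▸ radCond_conj h g
    have hxh : (QuotientGroup.mk (uzE B r z d) : PG B) ∈ stabilizer (PG B) Q := radGrp_le_stab Q ⟨z, d, h, rfl⟩
    have hcomm := A.mul_mem ha (hA _ hxh _ (A.inv_mem ha))
    have e : g * (uzE B r z d * g⁻¹ * (uzE B r z d)⁻¹) =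
        uzE B r (g.1.1 z + -z) (d + σ d - B (g.1.1 z) (-z)) := by
      rw [← uzE_mul h' (radCond_inv h), ← uzE_inv h, ← hconj]; group
    rw [← QuotientGroup.mk_inv, ← QuotientGroup.mk_inv, ← QuotientGroup.mk_mul, ← QuotientGroup.mk_mul,
      ← QuotientGroup.mk_mul, e] at hcomm
    obtain ⟨e', he0, he, hemem⟩ := exists_root_in hA (radCond_mul h' (radCond_inv h))
      (by rw [← sub_eq_add_neg]; exact hz) hcomm
    exact rootGrp_le_of_mem hA he0 he hemem
  push Not at hcase
  obtain ⟨z, c, hc, hg⟩ := eq_uzE_of_unipotent hr0 Q.2 hgr hcase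
  rw [hg] at ha ha1
  exact fromRad hc ha ha1

/-- Automorphisms map transvection groups to transvection groups. -/
theorem exists_root_image (α : MulAut (PG B)) (P0 : IsoPts B) :
    ∃ Q0 : IsoPts B, (stabilizer (PG B) P0).map α.toMonoidHom = stabilizer (PG B) Q0 ∧
      (rootGrp P0).map α.toMonoidHom = rootGrp Q0 := by
  haveI := hB.fin
  haveI := finite_sIsom (B := B)
  obtain ⟨p, _⟩ := CharP.exists F
  haveI hp : Fact p.Prime := ⟨CharP.char_is_prime F p⟩
  obtain ⟨q, hq, hσ⟩ := hB.frob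
  obtain ⟨Q0, hQ⟩ := exists_stab_image α P0
  refine ⟨Q0, hQ, ?_⟩
  have hle : rootGrp Q0 ≤ (rootGrp P0).map α.toMonoidHom := by
    refine root_unique (p := p) ?_ ?_ ?_ ?_
    · rw [← hQ]; exact Subgroup.map_mono ((rootGrp_le_radGrp P0).trans (radGrp_le_stab P0))
    · intro x hx a ha
      rw [← hQ] at hx
      obtain ⟨y, hy, rfl⟩ := hx
      obtain ⟨b, hb, rfl⟩ := ha
      refine ⟨y * b * y⁻¹, ?_, by rw [map_mul, map_mul, map_inv]⟩
      have := conj_root_mem y P0 hb
      rwa [mem_stabilizer_iff.1 hy] at this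
    · rintro _ ⟨y, hy, rfl⟩
      rw [← map_pow, rootGrp_pow_char hy, map_one]
    · obtain ⟨y, hy, hy1⟩ := exists_root_ne_one (B := B) P0
      exact ⟨α y, ⟨y, hy, rfl⟩, by simpa using hy1⟩
  refine (Subgroup.eq_of_le_of_card_ge hle ?_).symm
  rw [Subgroup.card_map_of_injective (show Function.Injective α.toMonoidHom from α.injective), card_rootGrp P0 hq hσ,
    card_rootGrp Q0 hq hσ]

end CfsgLib.KnownC.AutPSU
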