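import Cfsg.Agent.Lib.KnownC.AutPSU.Basic

/-!
# Transvection groups and unipotent radicals in `PG B`
-/

set_option autoImplicit false
set_option linter.unusedSectionVars false

open Module MulAction
open scoped LinearAlgebra.Projectivization

namespace CfsgLib.KnownC.AutPSU

open CfsgLib.Classical

variable {F : Type*} [Field F] {V : Type*} [AddCommGroup V] [Module F V] {σ : F →+* F}
  {B : V →ₛₗ[σ] V →ₗ[F] F} [hB : UCtx B]
include hB

/-- The class of a root element. -/
noncomputable abbrev uzP (B : V →ₛₗ[σ] V →ₗ[F] F) [UCtx B] (r z : V) (c : F) : PG B := QuotientGroup.mk (uzE B r z c)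

theorem radCond_smul_iff {r : V} {a c : F} (ha : a ≠ 0) : RadCond B (a • r) 0 c ↔ RadCond B r 0 c := by
  simp [RadCond, ha]

/-- The transvection group of an isotropic point. -/
noncomputable def rootGrp (P : IsoPts B) : Subgroup (PG B) where
  carrier := {x | ∃ c, c + σ c = 0 ∧ x = uzP B P.1.rep 0 c}
  one_mem' := ⟨0, by simp, by rw [uzP, uzE_zero P.2, QuotientGroup.mk_one]⟩
  mul_mem' := by
    rintro _ _ ⟨c, hc, rfl⟩ ⟨d, hd, rfl⟩
    refine ⟨c + d, by rw [map_add]; linear_combination hc + hd, ?_⟩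
    rw [uzP, uzP, ← QuotientGroup.mk_mul, uzE_mul (radCond_tv P.2 hc) (radCond_tv P.2 hd), add_zero, map_zero, sub_zero]
  inv_mem' := by
    rintro _ ⟨c, hc, rfl⟩
    refine ⟨σ c, by rw [sigma_invol (B := B), add_comm]; exact hc, ?_⟩
    rw [uzP, ← QuotientGroup.mk_inv, uzE_inv (radCond_tv P.2 hc), neg_zero]

/-- The unipotent radical of the stabiliser of an isotropic point. -/
noncomputable def radGrp (P : IsoPts B) : Subgroup (PG B) where
  carrier := {x | ∃ z c, RadCond B P.1.rep z c ∧ x = uzP B P.1.rep z c}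
  one_mem' := ⟨0, 0, radCond_tv P.2 (by simp), by rw [uzP, uzE_zero P.2, QuotientGroup.mk_one]⟩
  mul_mem' := by
    rintro _ _ ⟨z, c, hc, rfl⟩ ⟨w, d, hd, rfl⟩
    exact ⟨_, _, radCond_mul hc hd, by rw [uzP, uzP, ← QuotientGroup.mk_mul, uzE_mul hc hd]⟩
  inv_mem' := by
    rintro _ ⟨z, c, hc, rfl⟩
    exact ⟨_, _, radCond_inv hc, by rw [uzP, ← QuotientGroup.mk_inv, uzE_inv hc]⟩

theorem rep_isoPt {v : V} (hv : v ≠ 0) (h0 : B v v = 0) : ∃ a : F, a ≠ 0 ∧ (isoPt B hv h0).1.rep = a • v := by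
  obtain ⟨a, ha⟩ := Projectivization.exists_smul_eq_mk_rep F v hv
  exact ⟨a, a.ne_zero, ha.symm⟩

theorem norm_ne_zero {a : F} (ha : a ≠ 0) : a * σ a ≠ 0 :=
  mul_ne_zero ha ((map_ne_zero σ).2 ha)

theorem mem_rootGrp {v : V} (hv : v ≠ 0) (h0 : B v v = 0) {x : PG B} :
    x ∈ rootGrp (isoPt B hv h0) ↔ ∃ c, c + σ c = 0 ∧ x = uzP B v 0 c := by
  obtain ⟨a, ha, e⟩ := rep_isoPt (B := B) hv h0
  have key : ∀ c, c + σ c = 0 → (a * σ a * c + σ (a * σ a * c) = 0) ∧
      uzP B (a • v) 0 c = uzP B v 0 (a * σ a * c) := by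
    intro c hc
    have h' : RadCond B v (σ a • (0 : V)) (a * σ a * c) :=
      radCond_smul a (radCond_tv h0 hc)
    have := uzE_smul ((radCond_smul_iff ha).2 (radCond_tv h0 hc)) h'
    rw [smul_zero] at this h'
    exact ⟨by simpa using h'.2.2, by rw [uzP, uzP, this]⟩
  constructor
  · rintro ⟨c, hc, rfl⟩
    exact ⟨_, (key c hc).1, by rw [e, (key c hc).2]⟩
  · rintro ⟨c, hc, rfl⟩
    have hn := norm_ne_zero (B := B) ha
    have hc' : c / (a * σ a) + σ (c / (a * σ a)) = 0 := by
      rw [map_div₀, hB.herm.conj.norm_fixed, ← add_div, hc, zero_div]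
    exact ⟨c / (a * σ a), hc', by rw [e, (key _ hc').2, mul_div_cancel₀ _ hn]⟩

theorem mem_radGrp {v : V} (hv : v ≠ 0) (h0 : B v v = 0) {x : PG B} :
    x ∈ radGrp (isoPt B hv h0) ↔ ∃ z c, RadCond B v z c ∧ x = uzP B v z c := by
  obtain ⟨a, ha, e⟩ := rep_isoPt (B := B) hv h0
  constructor
  · rintro ⟨z, c, hc, rfl⟩
    rw [e] at hc ⊢
    have hz : B v z = 0 := by
      have := hc.2.1
      rw [map_smulₛₗ, LinearMap.smul_apply, smul_eq_zero] at this
      exact this.resolve_left ((map_ne_zero σ).2 ha)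
    have h' := radCond_smul a (⟨h0, hz, hc.2.2⟩ : RadCond B v z c)
    exact ⟨_, _, h', by rw [uzP, uzP, uzE_smul hc h']⟩
  · rintro ⟨z, c, hc, rfl⟩
    have h1 : RadCond B (isoPt B hv h0).1.rep ((σ a)⁻¹ • z) (c / (a * σ a)) := by
      refine ⟨(isoPt B hv h0).2, by rw [e]; simp [hc.2.1], ?_⟩
      have hs := (map_ne_zero σ).2 ha
      rw [hB.herm.smul_self, map_div₀, hB.herm.conj.norm_fixed, map_inv₀, sigma_invol (B := B)]
      field_simp
      linear_combination hc.2.2
    refine ⟨_, _, h1, ?_⟩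
    rw [e] at h1 ⊢
    have es : σ a • (σ a)⁻¹ • z = z := smul_inv_smul₀ ((map_ne_zero σ).2 ha) z
    have ec : a * σ a * (c / (a * σ a)) = c := mul_div_cancel₀ _ (norm_ne_zero (B := B) ha)
    have := uzE_smul h1 (by rw [es, ec]; exact hc)
    rw [es, ec] at this
    rw [uzP, uzP, this]

theorem rootGrp_le_radGrp (P : IsoPts B) : rootGrp P ≤ radGrp P := by
  rintro _ ⟨c, hc, rfl⟩
  exact ⟨0, c, radCond_tv P.2 hc, rfl⟩

theorem conj_rad_mem (x : PG B) (P : IsoPts B) {y : PG B} (hy : y ∈ radGrp P) :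
    x * y * x⁻¹ ∈ radGrp (x • P) := by
  obtain ⟨z, c, hc, rfl⟩ := hy
  obtain ⟨g, rfl⟩ := QuotientGroup.mk_surjective x
  obtain ⟨v, hv, h0, hP⟩ := isoPt_surjective P
  have hr0 : P.1.rep ≠ 0 := Projectivization.rep_nonzero _
  have hP' : P = isoPt B hr0 P.2 := Subtype.ext (Projectivization.mk_rep P.1).symm
  rw [show (QuotientGroup.mk g : PG B) • P = _ from (congrArg _ hP').trans (mk_smul_isoPt g hr0 P.2),
    mem_radGrp]
  exact ⟨_, _, radCond_conj hc g, by rw [uzP, uzP, ← uzE_conj hc g]; rfl⟩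

theorem conj_root_mem (x : PG B) (P : IsoPts B) {y : PG B} (hy : y ∈ rootGrp P) :
    x * y * x⁻¹ ∈ rootGrp (x • P) := by
  obtain ⟨c, hc, rfl⟩ := hy
  obtain ⟨g, rfl⟩ := QuotientGroup.mk_surjective x
  have hr0 : P.1.rep ≠ 0 := Projectivization.rep_nonzero _
  have hP' : P = isoPt B hr0 P.2 := Subtype.ext (Projectivization.mk_rep P.1).symm
  rw [show (QuotientGroup.mk g : PG B) • P = _ from (congrArg _ hP').trans (mk_smul_isoPt g hr0 P.2),
    mem_rootGrp]
  exact ⟨c, hc, by rw [uzP, uzP, show uzE B (g.1.1 P.1.rep) 0 c = g * uzE B P.1.rep 0 c * g⁻¹ by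
    rw [uzE_conj (radCond_tv P.2 hc) g, map_zero]]; rfl⟩

theorem radGrp_le_stab (P : IsoPts B) : radGrp P ≤ stabilizer (PG B) P := by
  rintro _ ⟨z, c, hc, rfl⟩
  rw [mem_stabilizer_iff]
  have hr0 : P.1.rep ≠ 0 := Projectivization.rep_nonzero _
  have hP' : P = isoPt B hr0 P.2 := Subtype.ext (Projectivization.mk_rep P.1).symm
  refine (congrArg _ hP').trans ((smul_isoPt_eq _ hr0 P.2 hr0 P.2 (a := 1) ?_).trans hP'.symm)
  rw [one_smul, uzE_apply hc, P.2, zero_smul, form_refl hc.2.1, mul_zero, sub_zero, zero_smul, add_zero, add_zero]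

theorem mk_uz_apply {r z : V} {c : F} (h : RadCond B r z c) {v : V} (hv : v ≠ 0) (h0 : B v v = 0)
    {w : V} (hw : w ≠ 0) (hw0 : B w w = 0) (e : v + B r v • z + (c * B r v - B z v) • r = w) :
    uzP B r z c • isoPt B hv h0 = isoPt B hw hw0 :=
  smul_isoPt_eq _ hv h0 hw hw0 (a := 1) (by rw [one_smul, uzE_apply h, e])

theorem uzP_eq_zero {r : V} (hr0 : r ≠ 0) {c : F} (hr : B r r = 0) (hc : c + σ c = 0) (h : uzP B r 0 c = 1) :
    c = 0 := by
  obtain ⟨s, hs, hrs⟩ := exists_partner (B := B) hr0 hr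
  have hs0 : s ≠ 0 := fun e => by simp [e] at hrs
  obtain ⟨l, -, hl⟩ := center_smul ((QuotientGroup.eq_one_iff _).1 h) hs0 hs
  rw [uzE_apply (radCond_tv hr hc), hrs, smul_zero, add_zero, map_zero, LinearMap.zero_apply, sub_zero, mul_one] at hl
  have := congrArg (B s) hl
  rwa [map_add, map_smul, map_smul, hs, form_symm (B := B) r s |>.symm.trans (by rw [hrs, map_one]), smul_eq_mul,
    smul_eq_mul, mul_one, mul_zero, zero_add] at this

theorem uzP_root_inj {r : V} (hr0 : r ≠ 0) {c d : F} (hr : B r r = 0) (hc : c + σ c = 0) (hd : d + σ d = 0)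
    (h : uzP B r 0 c = uzP B r 0 d) : c = d := by
  have hd' : σ d + σ (σ d) = 0 := by rw [sigma_invol (B := B), add_comm]; exact hd
  have : uzP B r 0 (c + σ d) = 1 := by
    have e : uzE B r 0 (c + σ d) = uzE B r 0 c * (uzE B r 0 d)⁻¹ := by
      rw [uzE_inv (radCond_tv hr hd), neg_zero, uzE_mul (radCond_tv hr hc) (radCond_tv hr hd'), add_zero, map_zero,
        sub_zero]
    rw [uzP, e, QuotientGroup.mk_mul, QuotientGroup.mk_inv]
    exact mul_inv_eq_one.2 h
  have := uzP_eq_zero hr0 hr (by rw [map_add]; linear_combination hc + hd') this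
  linear_combination this - hd

theorem card_trace_zero {q : ℕ} (hq : Nat.card F = q ^ 2) (hσ : ∀ x, σ x = x ^ q) :
    Nat.card {c : F // c + σ c = 0} = q := by
  haveI := hB.fin
  letI := Fintype.ofFinite F
  have hF : Fintype.card F = q ^ 2 := by rw [← Nat.card_eq_fintype_card]; exact hq
  have hq2 := two_le_of_card_sq hF
  let T : F →+ F :=
    { toFun := fun c => c + σ c
      map_zero' := by simp
      map_add' := fun a b => by rw [map_add]; ring }
  have hker : Nat.card T.ker = Nat.card {c : F // c + σ c = 0} :=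
    Nat.card_congr (Equiv.subtypeEquivRight fun c => Iff.rfl)
  have hrange : Nat.card T.range = q := by
    have h1 : Nat.card T.range = Nat.card {a : F // σ a = a} := by
      refine Nat.card_congr (Equiv.subtypeEquivRight fun a => ⟨?_, fun ha => ?_⟩)
      · rintro ⟨c, rfl⟩
        show σ (c + σ c) = c + σ c
        rw [map_add, sigma_invol (B := B), add_comm]
      · exact hB.herm.conj.exists_trace_eq ha
    have h2 : Nat.card {a : F // σ a = a} = Nat.card (fixedUnits σ) + 1 := by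
      classical
      rw [show Nat.card (fixedUnits σ) + 1 = Nat.card (Option (fixedUnits σ)) by
        rw [Finite.card_option]]
      refine Nat.card_congr
        { toFun := fun a => if h : (a : F) = 0 then none else some ⟨Units.mk0 a h, a.2⟩
          invFun := fun o => o.elim ⟨0, map_zero σ⟩ (fun u => ⟨(u : Fˣ), u.2⟩)
          left_inv := fun a => by
            by_cases h : (a : F) = 0
            · simp only [dif_pos h, Option.elim_none]; exact Subtype.ext h.symm
            · simp only [dif_neg h, Option.elim_some]; exact Subtype.ext rfl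
          right_inv := fun o => by
            cases o with
            | none => simp
            | some u => simp [Subtype.ext_iff, Units.ext_iff] }
    rw [h1, h2, (frob_cards hF hσ hB.herm.conj).1]
    omega
  have := AddSubgroup.card_mul_index T.ker
  rw [AddSubgroup.index_ker, hrange, hq, hker, pow_two] at this
  exact Nat.eq_of_mul_eq_mul_right (by omega) this

theorem card_rootGrp (P : IsoPts B) {q : ℕ} (hq : Nat.card F = q ^ 2) (hσ : ∀ x, σ x = x ^ q) :
    Nat.card (rootGrp P) = q := by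
  rw [← card_trace_zero (B := B) hq hσ]
  refine (Nat.card_congr (Equiv.ofBijective
    (fun c : {c : F // c + σ c = 0} => (⟨uzP B P.1.rep 0 c, c, c.2, rfl⟩ : rootGrp P)) ⟨?_, ?_⟩)).symm
  · intro c d h
    exact Subtype.ext (uzP_root_inj (Projectivization.rep_nonzero _) P.2 c.2 d.2 (congrArg Subtype.val h))
  · rintro ⟨_, c, hc, rfl⟩
    exact ⟨⟨c, hc⟩, rfl⟩

theorem exists_root_ne_one (P : IsoPts B) : ∃ y ∈ rootGrp P, y ≠ 1 := by
  obtain ⟨c, hc, hc'⟩ := hB.herm.conj.exists_trace_zero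
  exact ⟨_, ⟨c, hc', rfl⟩, fun h => hc (uzP_eq_zero (Projectivization.rep_nonzero _) P.2 hc' h)⟩

/-- A transvection moves a point exactly when the centres are not orthogonal. -/
theorem root_fix_iff {r w : V} (hr0 : r ≠ 0) (hr : B r r = 0) (hw0 : w ≠ 0) (hw : B w w = 0)
    (hne : isoPt B hw0 hw ≠ isoPt B hr0 hr) {c : F} (hc : c + σ c = 0) (hc0 : c ≠ 0) :
    uzP B r 0 c • isoPt B hw0 hw = isoPt B hw0 hw ↔ B r w = 0 := by
  constructor
  · intro h
    rw [mk_smul_isoPt] at h
    obtain ⟨a, ha⟩ := (Projectivization.mk_eq_mk_iff' _ _ _ _ _).1 (congrArg Subtype.val h)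
    rw [uzE_apply (radCond_tv hr hc), smul_zero, add_zero, map_zero, LinearMap.zero_apply, sub_zero] at ha
    by_contra hrw
    have hd : c * B r w ≠ 0 := mul_ne_zero hc0 hrw
    refine hne (Subtype.ext ((Projectivization.mk_eq_mk_iff' _ _ _ _ _).2 ?_))
    by_cases ha1 : a = 1
    · subst ha1
      rw [one_smul, eq_comm, add_eq_left, smul_eq_zero] at ha
      exact absurd ha (by simp [hd, hr0])
    refine ⟨(a - 1)⁻¹ * (c * B r w), ?_⟩
    rw [mul_smul, inv_smul_eq_iff₀ (sub_ne_zero.2 ha1), sub_smul, one_smul, ha]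
    abel
  · intro h
    exact mk_uz_apply (radCond_tv hr hc) hw0 hw hw0 hw (by simp [h])

theorem exists_nonorth_fix (P Q : IsoPts B) (h : ∀ x ∈ rootGrp P, x • Q = Q) :
    B P.1.rep Q.1.rep = 0 := by
  by_cases hPQ : Q = P
  · subst hPQ; exact Q.2
  obtain ⟨c, hc0, hc⟩ := hB.herm.conj.exists_trace_zero
  have hQ' : Q = isoPt B (Projectivization.rep_nonzero _) Q.2 := Subtype.ext (Projectivization.mk_rep Q.1).symm
  have hP' : P = isoPt B (Projectivization.rep_nonzero _) P.2 := Subtype.ext (Projectivization.mk_rep P.1).symm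
  refine (root_fix_iff (Projectivization.rep_nonzero _) P.2 (Projectivization.rep_nonzero _) Q.2
    (by rw [← hQ', ← hP']; exact hPQ) hc hc0).1 ?_
  rw [← hQ']
  exact h _ ⟨c, hc, rfl⟩

theorem rootGrp_inj {P Q : IsoPts B} (h : rootGrp P = rootGrp Q) : P = Q := by
  by_contra hne
  obtain ⟨s, hs, hPs⟩ := exists_partner (B := B) (Projectivization.rep_nonzero P.1) P.2
  have hs0 : s ≠ 0 := fun e => by simp [e] at hPs
  obtain ⟨c, hc0, hc⟩ := hB.herm.conj.exists_trace_zero
  have hm : uzP B P.1.rep 0 c ∈ rootGrp P := ⟨c, hc, rfl⟩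
  rw [h] at hm
  obtain ⟨d, hd, e⟩ := hm
  -- both move `s` along their centres
  have e' := congrArg (fun x : PG B => x • isoPt B hs0 hs) e
  simp only [uzP, mk_smul_isoPt] at e'
  obtain ⟨a, ha⟩ := (Projectivization.mk_eq_mk_iff' _ _ _ _ _).1 (congrArg Subtype.val e')
  simp only [uzE_apply (radCond_tv P.2 hc), uzE_apply (radCond_tv Q.2 hd), smul_zero, add_zero, map_zero,
    LinearMap.zero_apply, sub_zero, hPs, mul_one] at ha
  apply hne
  refine Subtype.ext ?_
  rw [← Projectivization.mk_rep P.1, ← Projectivization.mk_rep Q.1, Projectivization.mk_eq_mk_iff']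
  have hmem : (1 - a) • s + c • P.1.rep = (a * (d * B Q.1.rep s)) • Q.1.rep := by
    rw [mul_smul, ← sub_eq_zero]
    rw [smul_add] at ha
    linear_combination (norm := module) -ha
  by_cases ha1 : a = 1
  · subst ha1
    rw [sub_self, zero_smul, zero_add] at hmem
    exact ⟨c⁻¹ * (1 * (d * B Q.1.rep s)), by rw [mul_smul, ← hmem, inv_smul_smul₀ hc0]⟩
  exfalso
  have h2 := congrArg (fun v => B v v) hmem
  simp only [hB.herm.add_self, hB.herm.smul_self, hs, P.2, Q.2, map_smul, map_smulₛₗ, LinearMap.smul_apply,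
    smul_eq_mul, mul_zero, zero_add] at h2
  have hsP : B s P.1.rep = 1 := by rw [← form_symm (B := B), hPs, map_one]
  rw [hsP, mul_one] at h2
  have hc' : σ c = -c := by linear_combination hc
  simp only [map_mul, sigma_invol (B := B), hc'] at h2
  -- `(1 - a)` would be fixed up to the trace-zero scalar
  have h3 : c * σ (1 - a) = c * (1 - a) := by linear_combination h2
  have hfix := mul_left_cancel₀ hc0 h3
  have hd0 : a * (d * B Q.1.rep s) ≠ 0 := by
    intro h0
    rw [h0, zero_smul] at hmem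
    have := congrArg (B P.1.rep) hmem
    simp [P.2, hPs, sub_ne_zero.2 (Ne.symm ha1)] at this
  have h4 := congrArg (B Q.1.rep) hmem
  simp [Q.2] at h4
  have hPQ : B P.1.rep Q.1.rep = 0 := by
    refine exists_nonorth_fix P Q fun x hx => ?_
    rw [h] at hx
    exact radGrp_le_stab Q (rootGrp_le_radGrp Q hx)
  have h5 := congrArg (B P.1.rep) hmem
  simp [P.2, hPs, hPQ] at h5
  exact ha1 (sub_eq_zero.1 h5).symm

/-- The secant through two non-orthogonal points is a transvection orbit. -/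
theorem secant {r w x : V} (hr0 : r ≠ 0) (hr : B r r = 0) (hw0 : w ≠ 0) (hw : B w w = 0) (hx0 : x ≠ 0)
    (hx : B x x = 0) (hrw : B r w ≠ 0) {a b : F} (hb : b ≠ 0) (e : x = a • r + b • w) :
    ∃ y ∈ rootGrp (isoPt B hr0 hr), y • isoPt B hw0 hw = isoPt B hx0 hx := by
  set c := a / (b * B r w) with hc
  have htr : c + σ c = 0 := by
    rw [e, hB.herm.add_self, hB.herm.smul_self, hB.herm.smul_self, hr, hw, map_smul, map_smulₛₗ, LinearMap.smul_apply,
      smul_eq_mul, smul_eq_mul, map_mul, map_mul, sigma_invol (B := B)] at hx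
    have hd : b * B r w ≠ 0 := mul_ne_zero hb hrw
    have hd' : σ (b * B r w) ≠ 0 := (map_ne_zero σ).2 hd
    rw [hc, map_div₀, div_add_div _ _ hd hd', div_eq_zero_iff]
    left
    rw [map_mul]
    linear_combination hx
  refine ⟨uzP B r 0 c, (mem_rootGrp hr0 hr).2 ⟨c, htr, rfl⟩, ?_⟩
  refine smul_isoPt_eq _ hw0 hw hx0 hx (a := b⁻¹) ?_
  rw [uzE_apply (radCond_tv hr htr), smul_zero, add_zero, map_zero, LinearMap.zero_apply, sub_zero, e, smul_add,
    inv_smul_smul₀ hb, smul_smul, add_comm]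
  congr 2
  rw [hc]; field_simp

/-! ### Tori and normal subgroups of a stabiliser -/

theorem exists_aniso_orth {r : V} (hr0 : r ≠ 0) (hr : B r r = 0) : ∃ z, B r z = 0 ∧ B z z ≠ 0 := by
  haveI := hB.findim
  obtain ⟨s, hs, hrs⟩ := exists_partner (B := B) hr0 hr
  have hsr : B s r = 1 := by rw [← form_symm (B := B), hrs, map_one]
  let π : V → V := fun x => x - B s x • r - B r x • s
  have hπr : ∀ x, B r (π x) = 0 := fun x => by simp [π, hr, hrs]
  have hπs : ∀ x, B s (π x) = 0 := fun x => by simp [π, hs, hsr]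
  obtain ⟨x, hx⟩ : ∃ x, π x ≠ 0 := by
    by_contra hall
    push Not at hall
    classical
    have htop : (⊤ : Submodule F V) ≤ Submodule.span F (({r, s} : Finset V) : Set V) := by
      classical
      intro x _
      rw [show x = B s x • r + B r x • s by linear_combination (norm := module) hall x]
      exact Submodule.add_mem _ (Submodule.smul_mem _ _ (Submodule.subset_span (by simp)))
        (Submodule.smul_mem _ _ (Submodule.subset_span (by simp)))
    classical
    have h1 := Submodule.finrank_mono htop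
    rw [finrank_top] at h1
    have h2 := finrank_span_finset_le_card (R := F) ({r, s} : Finset V)
    have h3 : ({r, s} : Finset V).card ≤ 2 := Finset.card_le_two
    have := hB.three
    rw [Set.finrank] at h2
    omega
  obtain ⟨y, hy⟩ : ∃ y, B (π x) y ≠ 0 := by
    by_contra hall
    push Not at hall
    exact hx (hB.nd _ fun w => form_refl (hall w))
  have hy' : B (π x) (π y) ≠ 0 := by
    show B (π x) (y - B s y • r - B r y • s) ≠ 0
    simpa [form_refl (hπr x), form_refl (hπs x)] using hy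
  rcases hB.herm.exists_self_ne_zero hy' with h | h | ⟨c, h⟩
  · exact ⟨_, hπr x, h⟩
  · exact ⟨_, hπr y, h⟩
  · exact ⟨_, by rw [map_add, map_smul, hπr, hπr, smul_zero, add_zero], h⟩

theorem exists_scale {r : V} (hr0 : r ≠ 0) (hr : B r r = 0) {l : F} (hl : l ≠ 0) :
    ∃ g : sIsom B, g.1.1 r = l • r := by
  haveI := hB.fin; haveI := hB.findim
  obtain ⟨g, hg⟩ := hB.herm.witt_family hB.nd (a := fun _ : Unit => r) (b := fun _ : Unit => l • r)
    (linearIndependent_unique_iff.2 hr0) (linearIndependent_unique_iff.2 (smul_ne_zero hl hr0))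
    (fun _ _ => by rw [(self_smul_eq_zero hl r).2 hr, hr])
  obtain ⟨z, hrz, hz⟩ := exists_aniso_orth (B := B) hr0 hr
  have hd : idet B g ≠ 0 := fun e => by simpa [e] using hB.herm.idet_norm hB.nd g
  obtain ⟨H, hH, hdet⟩ := hB.herm.exists_qr hB.nd hz (l := (idet B g)⁻¹)
    (by rw [map_inv₀, ← mul_inv, hB.herm.idet_norm hB.nd, inv_one])
  refine ⟨⟨H * g, MonoidHom.mem_ker.2 (by rw [map_mul, hdet, inv_mul_cancel₀ hd])⟩, ?_⟩
  show H.1 (g.1 r) = _
  rw [show g.1 r = l • r from hg (), map_smul, hH, form_refl hrz]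
  simp

/-- A normal subgroup of a stabiliser with a non-trivial transvection contains the transvection group. -/
theorem rootGrp_le_of_mem {P : IsoPts B} {A : Subgroup (PG B)}
    (hA : ∀ x ∈ stabilizer (PG B) P, ∀ a ∈ A, x * a * x⁻¹ ∈ A) {e : F} (he0 : e ≠ 0) (he : e + σ e = 0)
    (hmem : uzP B P.1.rep 0 e ∈ A) : rootGrp P ≤ A := by
  haveI := hB.fin
  rintro _ ⟨c, hc, rfl⟩
  set r := P.1.rep
  have hr0 : r ≠ 0 := Projectivization.rep_nonzero _
  rcases eq_or_ne c 0 with rfl | hc0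
  · rw [uzP, uzE_zero P.2, QuotientGroup.mk_one]; exact A.one_mem
  have hfix : σ (c / e) = c / e := by
    rw [map_div₀, show σ c = -c by linear_combination hc, show σ e = -e by linear_combination he, neg_div_neg_eq]
  obtain ⟨l, hl⟩ := hB.herm.conj.exists_norm_eq hfix
  have hl0 : l ≠ 0 := by rintro rfl; simp [eq_comm, hc0, he0] at hl
  obtain ⟨g, hg⟩ := exists_scale (B := B) hr0 P.2 hl0
  have hP' : P = isoPt B hr0 P.2 := Subtype.ext (Projectivization.mk_rep P.1).symm
  have hstab : (QuotientGroup.mk g : PG B) ∈ stabilizer (PG B) P := by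
    rw [mem_stabilizer_iff]
    conv_lhs => rw [hP', pg_smul]
    conv_rhs => rw [hP']
    exact smul_isoPt_eq g hr0 P.2 hr0 P.2 hg
  have h := hA _ hstab _ hmem
  have e1 : g * uzE B r 0 e * g⁻¹ = uzE B r 0 c := by
    have h1 := uzE_conj (radCond_tv P.2 he) g
    rw [map_zero, hg] at h1
    have h2 : RadCond B r (σ l • (0 : V)) (l * σ l * e) := radCond_smul l (radCond_tv P.2 he)
    rw [h1, uzE_smul ((radCond_smul_iff hl0).2 (radCond_tv P.2 he)) h2, smul_zero, hl, div_mul_cancel₀ _ he0]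
  rwa [uzP, ← e1]

theorem exists_dual {r z : V} (hz : ∀ t : F, z ≠ t • r) : ∃ w, B r w = 0 ∧ B z w ≠ 0 := by
  haveI := hB.fin; haveI := hB.findim
  by_contra hall
  push Not at hall
  have hmem : B z ∈ F ∙ B r := by
    have h := mem_span_of_iInf_ker_le_ker (ι := Unit) (L := fun _ => B r) (K := B z) (fun w hw => by
      simp only [Submodule.mem_iInf] at hw
      exact hall w (hw ()))
    simpa using h
  obtain ⟨k, hk⟩ := Submodule.mem_span_singleton.1 hmem
  refine hz (σ k) (sub_eq_zero.1 (hB.nd _ fun w => form_refl ?_))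
  rw [map_sub, map_smulₛₗ, sigma_invol (B := B), LinearMap.sub_apply, ← hk, sub_self]

/-- A normal subgroup of a stabiliser meeting the radical outside the transvections meets the transvections. -/
theorem exists_root_in {P : IsoPts B} {A : Subgroup (PG B)}
    (hA : ∀ x ∈ stabilizer (PG B) P, ∀ a ∈ A, x * a * x⁻¹ ∈ A) {z : V} {c : F}
    (h : RadCond B P.1.rep z c) (hz : ∀ t : F, z ≠ t • P.1.rep) (hmem : uzP B P.1.rep z c ∈ A) :
    ∃ e, e ≠ 0 ∧ e + σ e = 0 ∧ uzP B P.1.rep 0 e ∈ A := by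
  set r := P.1.rep with hr
  obtain ⟨w, hrw, hzw⟩ := exists_dual (B := B) hz
  obtain ⟨t, ht⟩ := hB.herm.conj.exists_not_fixed
  set w' := (t / B z w) • w with hw'
  have hzw' : B z w' = t := by rw [hw', map_smul, smul_eq_mul, div_mul_cancel₀ _ hzw]
  obtain ⟨d, hd⟩ := hB.herm.conj.exists_trace_eq (a := -B w' w') (by rw [map_neg, hB.herm.self_fixed])
  have hwc : RadCond B r w' d := ⟨P.2, by rw [hw', map_smul, hrw, smul_zero], by linear_combination hd⟩
  refine ⟨B w' z - B z w', ?_, ?_, ?_⟩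
  · rw [← form_symm (B := B) z w', hzw', sub_ne_zero]; exact ht
  · rw [map_sub, form_symm, form_symm]; ring
  have hxw : uzP B r w' d ∈ stabilizer (PG B) P := radGrp_le_stab P ⟨w', d, hwc, rfl⟩
  have hcomm := A.mul_mem hmem (hA _ hxw _ (A.inv_mem hmem))
  rw [show uzP B r 0 (B w' z - B z w') = uzP B r z c * (uzP B r w' d * (uzP B r z c)⁻¹ * (uzP B r w' d)⁻¹) from ?_]
  · exact hcomm
  simp only [uzP, ← QuotientGroup.mk_mul, ← QuotientGroup.mk_inv]
  congr 1
  rw [uzE_inv h, uzE_inv hwc, uzE_mul hwc (radCond_inv h), uzE_mul (radCond_mul hwc (radCond_inv h)) (radCond_inv hwc),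
    uzE_mul h (radCond_mul (radCond_mul hwc (radCond_inv h)) (radCond_inv hwc))]
  congr 1
  · abel
  · simp only [map_add, map_neg, LinearMap.add_apply, LinearMap.neg_apply]
    linear_combination -(h.2.2 + hwc.2.2)

end CfsgLib.KnownC.AutPSU
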