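import Cfsg.Agent.Lib.KnownC.AutPSU.Pin

/-!
# A semilinear similitude acting trivially on `PG B` is a scalar
-/

set_option autoImplicit false
set_option linter.unusedSectionVars false

open Module MulAction
open scoped LinearAlgebra.Projectivization

namespace CfsgLib.KnownC.AutPSU

open CfsgLib.Classical

variable {F : Type*} [Field F] {V : Type*} [AddCommGroup V] [Module F V] {σ : F →+* F}
  {B : V →ₛₗ[σ] V →ₗ[F] F} [hB : UCtx B]
include hB

/-- If conjugation by a semilinear similitude is trivial on `PG B`, the field part is trivial and the map is a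
scalar. -/
theorem similitude_trivial (τ : F →+* F) {μ : F} (hμ : μ ≠ 0) (T : V → V) (hadd : ∀ x y, T (x + y) = T x + T y)
    (hsmul : ∀ a x, T (a • x) = τ a • T x) (hTB : ∀ x y, B (T x) (T y) = μ * τ (B x y))
    (htriv : ∀ g h : sIsom B, (∀ x, h.1.1 (T x) = T (g.1.1 x)) →
      (QuotientGroup.mk g : PG B) = QuotientGroup.mk h) :
    (∀ a, τ a = a) ∧ ∃ c : F, c ≠ 0 ∧ ∀ x, T x = c • x := by
  haveI := hB.fin; haveI := hB.findim
  haveI := finite_sIsom (B := B)
  obtain ⟨q, hq, hσ⟩ := hB.frob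
  have hτσ : ∀ a, τ (σ a) = σ (τ a) := fun a => by rw [hσ, hσ, map_pow]
  have hT0 : T 0 = 0 := by
    have := hadd 0 0
    rw [add_zero] at this
    exact left_eq_add.1 this
  obtain ⟨r, hr0, hr⟩ := exists_iso (B := B)
  obtain ⟨m, fr, rfl⟩ := exists_frame (B := B) hr0 hr
  have hμfix : σ μ = μ := by
    have h1 := form_symm (B := B) (T fr.r) (T fr.s)
    rw [hTB, hTB, fr.rs, fr.sr, map_one, mul_one] at h1
    exact h1
  have hTne : ∀ {x : V}, x ≠ 0 → T x ≠ 0 := by
    intro x hx h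
    refine hx (hB.nd x fun y => ?_)
    have h1 := hTB y x
    rw [h, map_zero, eq_comm, mul_eq_zero] at h1
    exact (map_eq_zero τ).1 (h1.resolve_left hμ)
  have heig : ∀ v, v ≠ 0 → B v v = 0 → ∃ c : F, c ≠ 0 ∧ T v = c • v := by
    intro v hv hv0
    have hTv0 : B (T v) (T v) = 0 := by rw [hTB, hv0, map_zero, mul_zero]
    have hle : rootGrp (isoPt B hv hv0) ≤ rootGrp (isoPt B (hTne hv) hTv0) := by
      intro x hx
      obtain ⟨c, hc, rfl⟩ := (mem_rootGrp hv hv0).1 hx
      have hc' : τ c / μ + σ (τ c / μ) = 0 := by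
        rw [map_div₀, hμfix, ← hτσ, ← add_div, ← map_add, hc, map_zero, zero_div]
      refine (mem_rootGrp (hTne hv) hTv0).2 ⟨τ c / μ, hc', htriv _ _ fun y => ?_⟩
      rw [uzE_apply (radCond_tv hTv0 hc'), uzE_apply (radCond_tv hv0 hc)]
      simp only [smul_zero, add_zero, map_zero, LinearMap.zero_apply, sub_zero, hTB, hadd, hsmul, map_mul]
      rw [← mul_assoc, div_mul_cancel₀ _ hμ]
    have heq := Subgroup.eq_of_le_of_card_ge hle (by rw [card_rootGrp _ hq hσ, card_rootGrp _ hq hσ])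
    obtain ⟨a, ha⟩ := (Projectivization.mk_eq_mk_iff' _ _ _ _ _).1 (congrArg Subtype.val (rootGrp_inj heq.symm))
    exact ⟨a, fun e => hTne hv (by rw [← ha, e, zero_smul]), ha.symm⟩
  obtain ⟨l, hl0, hl⟩ := heig fr.r fr.r_ne fr.rr
  obtain ⟨ν, hν0, hν⟩ := heig fr.s fr.s_ne fr.ss
  -- the orthogonal space
  have hTM : ∀ z ∈ fr.M, T z ∈ fr.M := by
    intro z hz
    refine ⟨?_, ?_⟩
    · have h := hTB fr.r z
      rw [hl, hz.1, map_zero, mul_zero, map_smulₛₗ, LinearMap.smul_apply, smul_eq_mul] at h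
      exact (mul_eq_zero.1 h).resolve_left ((map_ne_zero σ).2 hl0)
    · have h := hTB fr.s z
      rw [hν, hz.2, map_zero, mul_zero, map_smulₛₗ, LinearMap.smul_apply, smul_eq_mul] at h
      exact (mul_eq_zero.1 h).resolve_left ((map_ne_zero σ).2 hν0)
  have key : ∀ z ∈ fr.M, ∀ c, c + σ c + B z z = 0 → T z = ν • z ∧ τ c * l = ν * c := by
    intro z hz c hc
    have hi : B (fr.s + z + c • fr.r) (fr.s + z + c • fr.r) = 0 := by
      simp only [map_add, map_smul, map_smulₛₗ, LinearMap.add_apply, LinearMap.smul_apply, smul_eq_mul, fr.rr,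
        fr.ss, fr.rs, fr.sr, hz.1, hz.2, form_refl hz.1, form_refl hz.2]
      linear_combination hc
    have hne : fr.s + z + c • fr.r ≠ 0 := fun e => by
      have := congrArg (B fr.r) e
      simp [fr.rs, fr.rr, hz.1] at this
    obtain ⟨k, -, hk⟩ := heig _ hne hi
    rw [hadd, hadd, hsmul, hl, hν] at hk
    have h1 := congrArg (B fr.r) hk
    simp [fr.rs, fr.rr, hz.1, (hTM z hz).1] at h1
    subst h1
    have h2 := congrArg (B fr.s) hk
    simp [fr.ss, fr.sr, hz.2, (hTM z hz).2] at h2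
    refine ⟨?_, h2⟩
    rw [smul_add, smul_add, smul_smul, smul_smul, h2] at hk
    simpa using hk
  have hM : ∀ z ∈ fr.M, T z = ν • z := by
    intro z hz
    obtain ⟨c, hc⟩ := hB.herm.conj.exists_trace_eq (a := -B z z) (by rw [map_neg, hB.herm.self_fixed])
    exact (key z hz c (by linear_combination hc)).1
  set e0 := fr.e ⟨0, fr.m_pos⟩
  have hτ : ∀ a, τ a = a := by
    intro a
    have h := hM (a • e0) (fr.M.smul_mem a (fr.e_mem _))
    rw [hsmul, hM e0 (fr.e_mem _), smul_smul, smul_smul, mul_comm ν] at h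
    exact mul_right_cancel₀ hν0 (smul_left_injective F (fr.e_ne _) h)
  obtain ⟨c, hc0, hc⟩ := hB.herm.conj.exists_trace_zero
  have hlν : l = ν := by
    have h := (key 0 fr.M.zero_mem c (by rw [map_zero, add_zero, hc])).2
    rw [hτ, mul_comm ν] at h
    exact mul_left_cancel₀ hc0 h
  refine ⟨hτ, ν, hν0, fun x => ?_⟩
  conv_lhs => rw [fr.expand_pr x]
  rw [hadd, hadd, hsmul, hsmul, hl, hν, hM _ (fr.pr_mem x), hτ, hτ, hlν]
  conv_rhs => rw [fr.expand_pr x]
  module

end CfsgLib.KnownC.AutPSU
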